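import Mathlib
import Cfsg.Prelude.Def_Transfer

set_option autoImplicit false

namespace Cfsg.Agent.Local

variable {X : Type*} [Group X]

theorem elemAb_commute {p : ℕ} {A : Subgroup X} (hA : Cfsg.IsElementaryAbelian p A)
    {a b : X} (ha : a ∈ A) (hb : b ∈ A) : a * b = b * a :=
  congrArg Subtype.val (hA.1.1.1 ⟨a, ha⟩ ⟨b, hb⟩)

theorem elemAb_mono {p : ℕ} {A B : Subgroup X} (hA : Cfsg.IsElementaryAbelian p A) (h : B ≤ A) :
    Cfsg.IsElementaryAbelian p B :=
  ⟨⟨⟨fun a b => Subtype.ext (elemAb_commute hA (h a.2) (h b.2))⟩⟩, fun b hb => hA.2 b (h hb)⟩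

theorem elemAb_closure {p : ℕ} (S : Set X) (hc : ∀ a ∈ S, ∀ b ∈ S, a * b = b * a)
    (hp : ∀ a ∈ S, a ^ p = 1) : Cfsg.IsElementaryAbelian p (Subgroup.closure S) := by
  have hcomm : ∀ x ∈ Subgroup.closure S, ∀ y ∈ Subgroup.closure S, x * y = y * x := by
    intro x hx y hy
    have h1 : ∀ a ∈ S, Subgroup.closure S ≤ Subgroup.centralizer {a} := fun a ha => by
      rw [Subgroup.closure_le]
      intro b hb
      exact Subgroup.mem_centralizer_singleton_iff.mpr (hc b hb a ha)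
    have h2 : Subgroup.closure S ≤ Subgroup.centralizer (Subgroup.closure S : Set X) := by
      rw [Subgroup.centralizer_closure, Subgroup.closure_le]
      intro b hb
      exact Subgroup.mem_centralizer_iff.mpr fun a ha => hc a ha b hb
    exact Subgroup.mem_centralizer_iff.mp (h2 hy) x hx
  refine ⟨⟨⟨fun a b => Subtype.ext (hcomm a a.2 b b.2)⟩⟩, fun x hx => ?_⟩
  induction hx using Subgroup.closure_induction with
  | mem a ha => exact hp a ha
  | one => exact one_pow p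
  | mul a b ha hb iha ihb =>
    rw [Commute.mul_pow (hcomm a ha b hb), iha, ihb, one_mul]
  | inv a _ iha => rw [inv_pow, iha, inv_one]

theorem elemAb_sup {p : ℕ} {A B : Subgroup X} (hA : Cfsg.IsElementaryAbelian p A)
    (hB : Cfsg.IsElementaryAbelian p B) (h : ∀ a ∈ A, ∀ b ∈ B, a * b = b * a) :
    Cfsg.IsElementaryAbelian p (A ⊔ B) := by
  rw [← Subgroup.closure_eq A, ← Subgroup.closure_eq B, ← Subgroup.closure_union]
  refine elemAb_closure _ ?_ ?_
  · rintro a (ha | ha) b (hb | hb)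
    · exact elemAb_commute hA ha hb
    · exact h a ha b hb
    · exact (h b hb a ha).symm
    · exact elemAb_commute hB ha hb
  · rintro a (ha | ha)
    · exact hA.2 a ha
    · exact hB.2 a ha

theorem elemAb_zpowers {p : ℕ} {a : X} (h : a ^ p = 1) :
    Cfsg.IsElementaryAbelian p (Subgroup.zpowers a) := by
  rw [Subgroup.zpowers_eq_closure]
  refine elemAb_closure _ ?_ ?_
  · rintro x rfl y rfl; rfl
  · rintro x rfl; exact h

/-- An element acting with order at most two on an elementary abelian 2-group `E` fixes a subgroup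
of order at least the square root of `|E|`. -/
theorem card_le_sq_card_fixed [Finite X] {E : Subgroup X} (hE : Cfsg.IsElementaryAbelian 2 E) {u : X}
    (hu : ∀ e ∈ E, u * e * u⁻¹ ∈ E) (hu2 : ∀ e ∈ E, u ^ 2 * e = e * u ^ 2) :
    Nat.card E ≤ Nat.card ↥(E ⊓ Subgroup.centralizer {u}) ^ 2 := by
  have hinv : ∀ e ∈ E, e⁻¹ = e := fun e he => by
    rw [inv_eq_iff_mul_eq_one, ← pow_two]; exact hE.2 e he
  let φ : ↥E →* ↥E :=
    MonoidHom.mk' (fun e => ⟨u * e * u⁻¹ * (e : X)⁻¹, E.mul_mem (hu e e.2) (E.inv_mem e.2)⟩)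
      (fun a b => by
        apply Subtype.ext
        simp only [Subgroup.coe_mul]
        have h1 : u * (b : X) * u⁻¹ * (b : X)⁻¹ ∈ E := E.mul_mem (hu b b.2) (E.inv_mem b.2)
        calc u * ((a : X) * b) * u⁻¹ * ((a : X) * b)⁻¹
            = (u * a * u⁻¹) * (u * b * u⁻¹ * (b : X)⁻¹) * (a : X)⁻¹ := by group
          _ = (u * a * u⁻¹) * ((u * b * u⁻¹ * (b : X)⁻¹) * (a : X)⁻¹) := by rw [mul_assoc]
          _ = (u * a * u⁻¹) * ((a : X)⁻¹ * (u * b * u⁻¹ * (b : X)⁻¹)) := by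
            rw [elemAb_commute hE h1 (E.inv_mem a.2)]
          _ = _ := by group)
  have hker : φ.ker.map E.subtype = E ⊓ Subgroup.centralizer {u} := by
    ext x
    simp only [Subgroup.mem_map, MonoidHom.mem_ker, Subgroup.mem_inf]
    constructor
    · rintro ⟨e, he, rfl⟩
      refine ⟨e.2, Subgroup.mem_centralizer_singleton_iff.mpr ?_⟩
      have := congrArg Subtype.val he
      simp only [φ, MonoidHom.mk'_apply, Subgroup.coe_one, mul_inv_eq_iff_eq_mul, one_mul] at this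
      exact this.symm
    · rintro ⟨hx, hc⟩
      refine ⟨⟨x, hx⟩, ?_, rfl⟩
      apply Subtype.ext
      simp [φ, (Subgroup.mem_centralizer_singleton_iff.mp hc).symm]
  have hrange : φ.range ≤ φ.ker := by
    rintro _ ⟨e, rfl⟩
    apply Subtype.ext
    have hm : u * (e : X) * u⁻¹ * (e : X)⁻¹ ∈ E := E.mul_mem (hu e e.2) (E.inv_mem e.2)
    have h2 := hu2 e e.2
    simp only [φ, MonoidHom.mk'_apply, Subgroup.coe_one, mul_inv_eq_one]
    calc u * (u * (e : X) * u⁻¹ * (e : X)⁻¹) * u⁻¹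
        = (u ^ 2 * e) * (u ^ 2)⁻¹ * (u * (e : X) * u⁻¹)⁻¹ := by rw [pow_two]; group
      _ = (u * (e : X) * u⁻¹ * (e : X)⁻¹)⁻¹ := by rw [h2]; group
      _ = _ := hinv _ hm
  have h1 : Nat.card φ.ker * Nat.card φ.range = Nat.card E := by
    rw [← Subgroup.index_ker]; exact φ.ker.card_mul_index
  have h2 : Nat.card φ.range ≤ Nat.card φ.ker := Subgroup.card_le_of_le hrange
  have h3 : Nat.card φ.ker = Nat.card ↥(E ⊓ Subgroup.centralizer {u}) := by
    rw [← hker]
    exact Nat.card_congr (φ.ker.equivMapOfInjective _ E.subtype_injective).toEquiv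
  rw [← h1, pow_two, ← h3]
  exact Nat.mul_le_mul_left _ h2

theorem elemAb_isPGroup {p : ℕ} {A : Subgroup X} (hA : Cfsg.IsElementaryAbelian p A) :
    IsPGroup p ↥A := fun a => ⟨1, Subtype.ext (by rw [pow_one]; exact hA.2 a a.2)⟩

theorem elemAb_card_pow [Finite X] {p : ℕ} [Fact p.Prime] {A : Subgroup X}
    (hA : Cfsg.IsElementaryAbelian p A) : ∃ k, Nat.card A = p ^ k :=
  IsPGroup.iff_card.mp (elemAb_isPGroup hA)

/-- In an elementary abelian 2-group, enlarge a subgroup of order `2 ^ n` to one of order `2 ^ m`. -/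
theorem exists_subgroup_two_pow [Finite X] {A S : Subgroup X} (hA : Cfsg.IsElementaryAbelian 2 A)
    (hS : S ≤ A) {n m : ℕ} (hn : Nat.card S = 2 ^ n) (hnm : n ≤ m) (hm : 2 ^ m ≤ Nat.card A) :
    ∃ K, S ≤ K ∧ K ≤ A ∧ Nat.card K = 2 ^ m := by
  obtain ⟨k, hk⟩ := elemAb_card_pow hA
  have hmk : 2 ^ m ∣ Nat.card A := by
    rw [hk] at hm ⊢
    exact Nat.pow_dvd_pow _ ((Nat.pow_le_pow_iff_right (by norm_num)).mp hm)
  have hcard : Nat.card (S.subgroupOf A) = 2 ^ n := by
    rw [Nat.card_congr (Subgroup.subgroupOfEquivOfLe hS).toEquiv, hn]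
  obtain ⟨K, hK, hSK⟩ := Sylow.exists_subgroup_card_pow_prime_le 2 hmk _ hcard hnm
  refine ⟨K.map A.subtype, ?_, Subgroup.map_subtype_le K, ?_⟩
  · intro s hs
    exact ⟨⟨s, hS hs⟩, hSK (Subgroup.mem_subgroupOf.mpr hs), rfl⟩
  · rw [← hK]
    exact Nat.card_congr (K.equivMapOfInjective _ A.subtype_injective).toEquiv.symm

/-- A strictly larger elementary abelian 2-group has at least twice the order. -/
theorem two_mul_card_le [Finite X] {A S : Subgroup X} (hA : Cfsg.IsElementaryAbelian 2 A) (h : S < A) :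
    2 * Nat.card S ≤ Nat.card A := by
  obtain ⟨k, hk⟩ := elemAb_card_pow hA
  obtain ⟨j, hj⟩ := elemAb_card_pow (elemAb_mono hA h.le)
  have hlt : Nat.card S < Nat.card A := by
    refine lt_of_le_of_ne (Subgroup.card_le_of_le h.le) fun he => h.ne ?_
    exact Subgroup.eq_of_le_of_card_ge h.le he.ge
  rw [hk, hj] at hlt ⊢
  have := (Nat.pow_lt_pow_iff_right (by norm_num : 1 < 2)).mp hlt
  rw [← pow_succ']
  exact Nat.pow_le_pow_right (by norm_num) this

theorem two_pow_bound [Finite X] {A : Subgroup X} (hA : Cfsg.IsElementaryAbelian 2 A) {n m : ℕ}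
    (hn : n ≤ Nat.card A ^ 2) (hm : (2 ^ m) ^ 2 < n) : 2 ^ (m + 1) ≤ Nat.card A := by
  obtain ⟨k, hk⟩ := elemAb_card_pow hA
  rw [hk] at hn ⊢
  have h1 : (2 ^ m) ^ 2 < (2 ^ k) ^ 2 := lt_of_lt_of_le hm hn
  have h2 := lt_of_pow_lt_pow_left₀ 2 (Nat.zero_le _) h1
  exact Nat.pow_le_pow_right (by norm_num) ((Nat.pow_lt_pow_iff_right (by norm_num : 1 < 2)).mp h2)

theorem elemAb_isKleinFour [Finite X] {A : Subgroup X} (hA : Cfsg.IsElementaryAbelian 2 A)
    (h4 : Nat.card A = 4) : IsKleinFour A := by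
  refine ⟨h4, ?_⟩
  have hd : Monoid.exponent ↥A ∣ 2 :=
    Monoid.exponent_dvd_of_forall_pow_eq_one fun a => Subtype.ext (hA.2 a a.2)
  rcases (Nat.dvd_prime Nat.prime_two).mp hd with h | h
  · have : Subsingleton ↥A := Monoid.exp_eq_one_iff.mp h
    have : Nat.card A ≤ 1 := Finite.card_le_one_iff_subsingleton.mpr this
    omega
  · exact h

theorem isKleinFour_elemAb {A : Subgroup X} (hA : IsKleinFour A) :
    Cfsg.IsElementaryAbelian 2 A := by
  haveI := hA
  refine ⟨⟨⟨?_⟩⟩, fun a ha => ?_⟩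
  · exact mul_comm_of_exponent_two IsKleinFour.exponent_two
  · have := Monoid.pow_exponent_eq_one (⟨a, ha⟩ : ↥A)
    rw [IsKleinFour.exponent_two] at this
    exact congrArg Subtype.val this

/-- Subgroup fixed by two commuting elements acting with order at most two. -/
theorem inf_centralizer_conj_mem {E : Subgroup X} {u v : X} (hv : ∀ e ∈ E, v * e * v⁻¹ ∈ E)
    (huv : u * v = v * u) : ∀ e ∈ E ⊓ Subgroup.centralizer {u},
      v * e * v⁻¹ ∈ E ⊓ Subgroup.centralizer {u} := by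
  rintro e ⟨he, hc⟩
  refine ⟨hv e he, Subgroup.mem_centralizer_singleton_iff.mpr ?_⟩
  have hce : e * u = u * e := Subgroup.mem_centralizer_singleton_iff.mp hc
  have h1 : Commute u v := huv
  have h2 : Commute u e := hce.symm
  exact ((h1.mul_right h2).mul_right h1.inv_right).symm.eq

end Cfsg.Agent.Local
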