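import Mathlib

/-!
Coprime action: centralizing a self-centralizing fixed-point subgroup.
-/

namespace Cfsg.Agent.CentTrick

variable {G : Type*} [Group G] [Finite G]

omit [Finite G] in
/-- If `a h a⁻¹ = z h` with `z` commuting with `a`, then `a ^ m` moves `h` to `z ^ m h`. -/
theorem conj_pow {a h z : G} (hz : Commute a z) (he : a * h * a⁻¹ = z * h) (m : ℕ) :
    a ^ m * h * (a ^ m)⁻¹ = z ^ m * h := by
  induction m with
  | zero => simp
  | succ m ih =>
    have : a ^ (m + 1) * h * (a ^ (m + 1))⁻¹ = a * (a ^ m * h * (a ^ m)⁻¹) * a⁻¹ := by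
      rw [pow_succ']; group
    rw [this, ih, show a * (z ^ m * h) * a⁻¹ = z ^ m * (a * h * a⁻¹) by
      rw [← mul_assoc, (hz.pow_right m).eq]; group, he, pow_succ, mul_assoc]

omit [Finite G] in
theorem commute_of_step {a h z : G} (hz : Commute a z) (he : a * h * a⁻¹ = z * h)
    (hcop : (orderOf a).Coprime (orderOf z)) : Commute a h := by
  have h1 := conj_pow hz he (orderOf a)
  rw [pow_orderOf_eq_one, one_mul, inv_one, mul_one] at h1
  have h2 : z ^ orderOf a = 1 := mul_right_cancel (h1.symm.trans (one_mul h).symm)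
  have h3 : orderOf z = 1 := Nat.eq_one_of_dvd_coprimes hcop (orderOf_dvd_of_pow_eq_one h2) dvd_rfl
  rw [orderOf_eq_one_iff.1 h3, one_mul] at he
  calc a * h = a * h * a⁻¹ * a := by group
    _ = h * a := by rw [he]

/-- Thompson's `P × Q` trick for a nilpotent group. -/
theorem centralizes_of_self_centralizing {H A : Subgroup G} (hH : Group.IsNilpotent H)
    (hA : A ≤ Subgroup.normalizer (H : Set G)) (hcop : (Nat.card A).Coprime (Nat.card H))
    (hC : H ⊓ Subgroup.centralizer (((H ⊓ Subgroup.centralizer (A : Set G)) : Subgroup G) : Set G) ≤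
      H ⊓ Subgroup.centralizer (A : Set G)) :
    A ≤ Subgroup.centralizer (H : Set G) := by
  haveI := hH
  set C := H ⊓ Subgroup.centralizer (A : Set G) with hCdef
  suffices h : C.subgroupOf H = ⊤ by
    refine Subgroup.le_centralizer_iff.1 fun x hx => ?_
    have : (⟨x, hx⟩ : H) ∈ C.subgroupOf H := h ▸ Subgroup.mem_top _
    exact (Subgroup.mem_inf.1 this).2
  by_contra hne
  have hlt := Group.normalizerCondition_of_isNilpotent (G := H) (C.subgroupOf H) (lt_top_iff_ne_top.2 hne)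
  obtain ⟨⟨n, hnH⟩, hn, hnC⟩ := SetLike.exists_of_lt hlt
  apply hnC
  show n ∈ C
  have hnorm : ∀ c ∈ C, n * c * n⁻¹ ∈ C := fun c hc =>
    (Subgroup.mem_normalizer_iff.1 hn ⟨c, (Subgroup.mem_inf.1 hc).1⟩).1 hc
  have hnorm' : ∀ c ∈ C, n⁻¹ * c * n ∈ C := fun c hc => by
    have := (Subgroup.mem_normalizer_iff.1 (inv_mem hn) ⟨c, (Subgroup.mem_inf.1 hc).1⟩).1 hc
    simpa [Subgroup.mem_subgroupOf] using this
  refine Subgroup.mem_inf.2 ⟨hnH, Subgroup.mem_centralizer_iff.2 fun a ha => ?_⟩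
  have hzH : a * n * a⁻¹ * n⁻¹ ∈ H :=
    mul_mem ((Subgroup.mem_normalizer_iff.1 (hA ha) n).1 hnH) (inv_mem hnH)
  have hz : a * n * a⁻¹ * n⁻¹ ∈ C := by
    refine hC (Subgroup.mem_inf.2 ⟨hzH, Subgroup.mem_centralizer_iff.2 fun c hc => ?_⟩)
    have h1 := (Subgroup.mem_inf.1 (hnorm' c hc)).2
    rw [Subgroup.mem_centralizer_iff] at h1
    have h2 := h1 a ha
    have h3 := Subgroup.mem_centralizer_iff.1 (Subgroup.mem_inf.1 (show c ∈ C from hc)).2 a ha
    have h4 : a⁻¹ * c = c * a⁻¹ := by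
      calc a⁻¹ * c = a⁻¹ * (c * a) * a⁻¹ := by group
        _ = a⁻¹ * (a * c) * a⁻¹ := by rw [h3]
        _ = c * a⁻¹ := by group
    calc c * (a * n * a⁻¹ * n⁻¹) = c * a * n * a⁻¹ * n⁻¹ := by group
      _ = a * c * n * a⁻¹ * n⁻¹ := by rw [h3]
      _ = a * n * ((n⁻¹ * c * n) * a⁻¹) * n⁻¹ := by group
      _ = a * n * (a⁻¹ * (n⁻¹ * c * n)) * n⁻¹ := by
        congr 2
        calc n⁻¹ * c * n * a⁻¹ = a⁻¹ * (a * (n⁻¹ * c * n)) * a⁻¹ := by group
          _ = a⁻¹ * (n⁻¹ * c * n * a) * a⁻¹ := by rw [h2]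
          _ = a⁻¹ * (n⁻¹ * c * n) := by group
      _ = a * n * a⁻¹ * n⁻¹ * c := by group
  refine (commute_of_step (Subgroup.mem_centralizer_iff.1 (Subgroup.mem_inf.1 hz).2 a ha)
    (by group) ?_).eq
  exact (hcop.coprime_dvd_left (Subgroup.orderOf_dvd_natCard A ha)).coprime_dvd_right
    (Subgroup.orderOf_dvd_natCard H hzH)

end Cfsg.Agent.CentTrick
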