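import Mathlib
import Cfsg.Prelude.Def_OddOrderLocal
import Cfsg.Agent.Lib.Fusion.KInf

/-!
Elementary properties of the Puig series.
-/

namespace Cfsg.Agent.PuigBasic

open Cfsg
open scoped commutatorElement

variable {G : Type*} [Group G]

theorem puigStep_anti {X Y : Subgroup G} (h : X ≤ Y) : puigStep Y ≤ puigStep X :=
  sSup_le_sSup fun _ hA => ⟨hA.1, h.trans hA.2⟩

theorem puigSeq_succ (n : ℕ) : puigSeq G (n + 1) = puigStep (puigSeq G n) := rfl

theorem puigStep_bot : puigStep (⊥ : Subgroup G) = ⊤ := by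
  refine eq_top_iff.2 fun x _ => ?_
  have : Subgroup.zpowers x ≤ puigStep (⊥ : Subgroup G) :=
    le_sSup ⟨inferInstance, bot_le⟩
  exact this (Subgroup.mem_zpowers x)

theorem puigSeq_one : puigSeq G 1 = ⊤ := puigStep_bot

theorem puigSeq_even_le_succ (n : ℕ) : puigSeq G (2 * n) ≤ puigSeq G (2 * n + 2) := by
  induction n with
  | zero => exact bot_le
  | succ n ih => exact puigStep_anti (puigStep_anti ih)

theorem puigSeq_even_mono : Monotone fun n => puigSeq G (2 * n) :=
  monotone_nat_of_le_succ fun n => puigSeq_even_le_succ n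

theorem puigSeq_odd_succ_le (n : ℕ) : puigSeq G (2 * n + 3) ≤ puigSeq G (2 * n + 1) :=
  puigStep_anti (puigSeq_even_le_succ n)

theorem puigSeq_odd_anti : Antitone fun n => puigSeq G (2 * n + 1) :=
  antitone_nat_of_succ_le fun n => puigSeq_odd_succ_le n

theorem puigSeq_even_le_next (n : ℕ) : puigSeq G (2 * n) ≤ puigSeq G (2 * n + 1) := by
  induction n with
  | zero => exact bot_le
  | succ n ih =>
    have h1 : puigSeq G (2 * n + 2) ≤ puigSeq G (2 * n + 1) := puigStep_anti ih
    exact puigStep_anti h1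

theorem puigSeq_even_le_odd (n m : ℕ) : puigSeq G (2 * n) ≤ puigSeq G (2 * m + 1) := by
  rcases le_total n m with h | h
  · exact (puigSeq_even_mono h).trans (puigSeq_even_le_next m)
  · exact (puigSeq_even_le_next n).trans (puigSeq_odd_anti h)

theorem puigLower_le : puigLower G ≤ puigSubgroup G :=
  iSup_le fun n => le_iInf fun m => puigSeq_even_le_odd n m

theorem exists_stable [Finite G] : ∃ k : ℕ, ∀ n : ℕ, k ≤ n →
    puigSeq G (2 * n) = puigLower G ∧ puigSeq G (2 * n + 1) = puigSubgroup G := by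
  obtain ⟨k, hk⟩ := WellFoundedGT.monotone_chain_condition
    (⟨fun n => puigSeq G (2 * n), puigSeq_even_mono⟩ : ℕ →o Subgroup G)
  have hk' : ∀ n, k ≤ n → puigSeq G (2 * n) = puigSeq G (2 * k) := fun n hn => (hk n hn).symm
  have hko : ∀ n, k ≤ n → puigSeq G (2 * n + 1) = puigSeq G (2 * k + 1) := fun n hn => by
    rw [puigSeq_succ, puigSeq_succ, hk' n hn]
  refine ⟨k, fun n hn => ⟨?_, ?_⟩⟩
  · refine le_antisymm (le_iSup (fun n => puigSeq G (2 * n)) n) (iSup_le fun m => ?_)
    rw [hk' n hn, ← hk' (max k m) (le_max_left _ _)]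
    exact puigSeq_even_mono (le_max_right _ _)
  · refine le_antisymm (le_iInf fun m => ?_) (iInf_le (fun n => puigSeq G (2 * n + 1)) n)
    rw [hko n hn, ← hko (max k m) (le_max_left _ _)]
    exact puigSeq_odd_anti (le_max_right _ _)

theorem puigStep_lower [Finite G] : puigStep (puigLower G) = puigSubgroup G := by
  obtain ⟨k, hk⟩ := exists_stable (G := G)
  rw [← (hk k le_rfl).1, ← (hk k le_rfl).2]
  rfl

theorem puigStep_subgroup [Finite G] : puigStep (puigSubgroup G) = puigLower G := by
  obtain ⟨k, hk⟩ := exists_stable (G := G)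
  rw [← (hk k le_rfl).2, ← (hk (k + 1) (Nat.le_succ k)).1]
  rfl

/-- An abelian normal subgroup lies in every positive term of the series. -/
theorem le_puigSeq_of_normal (A : Subgroup G) [A.Normal] [IsMulCommutative A] (n : ℕ) :
    A ≤ puigSeq G (n + 1) :=
  le_sSup ⟨inferInstance, by rw [Subgroup.normalizer_eq_top]; exact le_top⟩

/-- In a finite nilpotent group a maximal abelian normal subgroup is self-centralizing. -/
theorem exists_abelian_normal_self_centralizing [Finite G] [Group.IsNilpotent G] :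
    ∃ A : Subgroup G, A.Normal ∧ IsMulCommutative A ∧ Subgroup.centralizer (A : Set G) ≤ A := by
  obtain ⟨A, ⟨hAn, hAa⟩, hmax⟩ := Set.exists_max_image
    {A : Subgroup G | A.Normal ∧ A ≤ Subgroup.centralizer (A : Set G)}
    (fun A : Subgroup G => Nat.card A) (Set.toFinite _)
    ⟨⊥, inferInstance, bot_le⟩
  haveI := hAn
  refine ⟨A, hAn, ⟨⟨fun a b => Subtype.ext (hAa b.2 a a.2)⟩⟩, ?_⟩
  by_contra hC
  obtain ⟨x, hxC, hxA, hx⟩ := Cfsg.Agent.Fusion.exists_fixed_mod (N := A)
    (C := Subgroup.centralizer (A : Set G)) (Q := (⊤ : Subgroup G))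
    (by rw [Subgroup.normalizer_eq_top]) hC
  set B : Subgroup G := A ⊔ Subgroup.zpowers x with hB
  have hBn : B.Normal := by
    rw [← Subgroup.normalizer_eq_top_iff, eq_top_iff]
    intro g _
    rw [Subgroup.mem_normalizer_iff_map_conj_eq]
    have hle : Subgroup.map (MulAut.conj g).toMonoidHom B ≤ B := by
      rw [hB, Subgroup.map_sup, MonoidHom.map_zpowers]
      refine sup_le ?_ (Subgroup.zpowers_le.2 ?_)
      · rintro _ ⟨a, ha, rfl⟩
        exact Subgroup.mem_sup_left (hAn.conj_mem a ha g)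
      · have h1 : (MulAut.conj g) x = (⁅x, g⁆)⁻¹ * x := by
          simp [commutatorElement_def, mul_assoc]
        show (MulAut.conj g) x ∈ _
        rw [h1]
        exact mul_mem (Subgroup.mem_sup_left (inv_mem (hx g trivial)))
          (Subgroup.mem_sup_right (Subgroup.mem_zpowers x))
    exact Subgroup.eq_of_le_of_card_ge hle
      (by rw [Subgroup.card_map_of_injective (MulAut.conj g).injective])
  have hBa : B ≤ Subgroup.centralizer (B : Set G) := by
    rw [hB]
    refine sup_le (Subgroup.le_centralizer_iff.1 (sup_le hAa ?_))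
      (Subgroup.le_centralizer_iff.1 (sup_le ?_ ?_))
    · exact Subgroup.zpowers_le.2 hxC
    · exact Subgroup.le_centralizer_iff.1 (Subgroup.zpowers_le.2 hxC)
    · intro y hy
      rw [Subgroup.mem_centralizer_iff]
      intro z hz
      obtain ⟨i, rfl⟩ := Subgroup.mem_zpowers_iff.1 hy
      obtain ⟨j, rfl⟩ := Subgroup.mem_zpowers_iff.1 hz
      exact ((Commute.refl x).zpow_zpow j i).eq
  have hlt : A < B := lt_of_le_of_ne le_sup_left fun h =>
    hxA (h ▸ Subgroup.mem_sup_right (Subgroup.mem_zpowers x))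
  exact hlt.ne (Subgroup.eq_of_le_of_card_ge hlt.le (hmax B ⟨hBn, hBa⟩))

end Cfsg.Agent.PuigBasic
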