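import Mathlib
import Cfsg.Prelude.Def_Local

set_option autoImplicit false

namespace Cfsg.Agent.Local

variable {G : Type*} [Group G]

theorem mem_conj_map {H : Subgroup G} {g x : G} :
    x ∈ H.map (MulAut.conj g).toMonoidHom ↔ g⁻¹ * x * g ∈ H := by
  constructor
  · rintro ⟨y, hy, rfl⟩
    simpa [mul_assoc] using hy
  · intro h
    exact ⟨_, h, by simp [mul_assoc]⟩

theorem conj_mem_conj_map {H : Subgroup G} {g x : G} (hx : x ∈ H) :
    g * x * g⁻¹ ∈ H.map (MulAut.conj g).toMonoidHom :=
  ⟨x, hx, by simp⟩

theorem card_conj_map (H : Subgroup G) (g : G) :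
    Nat.card (H.map (MulAut.conj g).toMonoidHom) = Nat.card H :=
  Nat.card_congr (H.equivMapOfInjective _ (MulAut.conj g).injective).toEquiv.symm

theorem conj_map_eq_iff {H : Subgroup G} [Finite G] {g : G} :
    H.map (MulAut.conj g).toMonoidHom = H ↔ g ∈ Subgroup.normalizer (H : Set G) := by
  rw [Subgroup.mem_normalizer_iff]
  constructor
  · intro h x
    constructor
    · intro hx
      rw [← h]; exact conj_mem_conj_map hx
    · intro hx
      rw [← h, mem_conj_map] at hx
      simpa [mul_assoc] using hx
  · intro h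
    ext x
    rw [mem_conj_map, h]
    simp [mul_assoc]

/-- An element of a trivial-intersection subgroup which is centralised by `g` forces `g` to normalise it. -/
theorem mem_normalizer_of_commute_ti [Finite G] {A : Subgroup G}
    (hti : ∀ h : G, A.map (MulAut.conj h).toMonoidHom = A ∨ A.map (MulAut.conj h).toMonoidHom ⊓ A = ⊥)
    {a g : G} (ha : a ∈ A) (ha1 : a ≠ 1) (hc : g * a = a * g) :
    g ∈ Subgroup.normalizer (A : Set G) := by
  rcases hti g with h | h
  · exact conj_map_eq_iff.mp h
  · refine absurd (Subgroup.mem_bot.mp (h ▸ ⟨?_, ha⟩ : a ∈ (⊥ : Subgroup G))) ha1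
    have := conj_mem_conj_map (g := g) ha
    rwa [hc, mul_inv_cancel_right] at this

/-- In a cyclic group, two involutions are equal. -/
theorem eq_of_orderOf_eq_two {H : Type*} [Group H] [IsCyclic H] [Finite H] {a b : H}
    (ha : orderOf a = 2) (hb : orderOf b = 2) : a = b := by
  classical
  have := Fintype.ofFinite H
  by_contra hne
  have h1 := IsCyclic.card_pow_eq_one_le (α := H) (n := 2) (by norm_num)
  have hsub : ({1, a, b} : Finset H) ⊆ Finset.univ.filter fun x => x ^ 2 = 1 := by
    intro x hx
    simp only [Finset.mem_insert, Finset.mem_singleton] at hx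
    simp only [Finset.mem_filter, Finset.mem_univ, true_and]
    rcases hx with rfl | rfl | rfl
    · simp
    · rw [← ha]; exact pow_orderOf_eq_one _
    · rw [← hb]; exact pow_orderOf_eq_one _
  have h3 : ({1, a, b} : Finset H).card = 3 := by
    have : a ≠ 1 := by rintro rfl; simp at ha
    have : b ≠ 1 := by rintro rfl; simp at hb
    rw [Finset.card_eq_three]
    exact ⟨1, a, b, Ne.symm ‹a ≠ 1›, Ne.symm ‹b ≠ 1›, hne, rfl⟩
  have := Finset.card_le_card hsub
  omega

/-- Quasisimplicity is invariant under isomorphism. -/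
theorem isQuasisimple_congr {H K : Type*} [Group H] [Group K] (e : H ≃* K)
    (h : Cfsg.IsQuasisimple H) : Cfsg.IsQuasisimple K := by
  obtain ⟨hp, hs⟩ := h
  have hc : (Subgroup.center H).map e.toMonoidHom = Subgroup.center K := by
    ext x
    simp only [Subgroup.mem_map, Subgroup.mem_center_iff]
    constructor
    · rintro ⟨y, hy, rfl⟩ z
      obtain ⟨w, rfl⟩ := e.surjective z
      simpa using congrArg e (hy w)
    · intro hx
      refine ⟨e.symm x, fun w => ?_, by simp⟩
      apply e.injective
      simpa using hx (e w)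
  haveI := hp
  refine ⟨Group.IsPerfect.ofSurjective (f := e.toMonoidHom) e.surjective, ?_⟩
  exact MulEquiv.isSimpleGroup (QuotientGroup.congr _ _ e hc).symm

theorem layer_normal {H : Type*} [Group H] : (Cfsg.layer H).Normal := by
  constructor
  intro n hn x
  have h : (Cfsg.layer H).map (MulAut.conj x).toMonoidHom ≤ Cfsg.layer H := by
    rw [Cfsg.layer, Subgroup.map_le_iff_le_comap]
    refine sSup_le ?_
    rintro K ⟨hKs, hKq⟩
    rw [← Subgroup.map_le_iff_le_comap]
    exact le_sSup ⟨Subgroup.IsSubnormal.map (f := (MulAut.conj x).toMonoidHom) (MulAut.conj x).surjective hKs,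
      isQuasisimple_congr (K.equivMapOfInjective _ (MulAut.conj x).injective) hKq⟩
  exact h (conj_mem_conj_map hn)

theorem gfit_normal {H : Type*} [Group H] : (Cfsg.generalizedFittingSubgroup H).Normal := by
  rw [Cfsg.generalizedFittingSubgroup]
  have := layer_normal (H := H)
  have : (Cfsg.fittingSubgroup H).Normal := Subgroup.sSup_normal _ fun N hN => hN.1
  exact Subgroup.sup_normal _ _

end Cfsg.Agent.Local
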