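import Mathlib
import Cfsg.Prelude.Def_EvenType
import Cfsg.Agent.Lib.Fusion.Basic

/-!
Strongly `p`-embedded subgroups: the basic control lemma.
-/

set_option autoImplicit false

namespace Cfsg.Agent.Local

open Cfsg.Agent.Fusion

variable {X : Type*} [Group X] [Finite X] {p : ℕ} [Fact p.Prime] {E T : Subgroup X}

theorem not_pRankLE_zero {Q : Subgroup X} (hQ : IsPGroup p Q) :
    ¬ Cfsg.PRankLE p 0 ↥Q ↔ Q ≠ ⊥ := by
  constructor
  · rintro h rfl
    refine h fun A _ _ => ?_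
    rw [pow_zero]
    exact Finite.card_le_one_iff_subsingleton.2 inferInstance
  · intro hne h
    obtain ⟨k, hk⟩ := IsPGroup.iff_card.1 hQ
    have hk0 : k ≠ 0 := by
      rintro rfl
      exact hne (Subgroup.eq_bot_of_card_eq _ (by simpa using hk))
    obtain ⟨x, hx⟩ := exists_prime_orderOf_dvd_card' (G := ↥Q) p (hk ▸ dvd_pow_self p hk0)
    have h1 := h (Subgroup.zpowers x)
      (⟨⟨fun a b => by
        obtain ⟨_, i, rfl⟩ := a
        obtain ⟨_, j, rfl⟩ := b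
        exact Subtype.ext ((Commute.refl x).zpow_zpow i j).eq⟩⟩)
      (fun a ha => by
        obtain ⟨i, rfl⟩ := ha
        show (x ^ i) ^ p = 1
        rw [← zpow_natCast, ← zpow_mul, mul_comm, zpow_mul, zpow_natCast, ← hx,
          pow_orderOf_eq_one, one_zpow])
    rw [Nat.card_zpowers, hx, pow_zero] at h1
    have := (Fact.out : p.Prime).two_le
    omega

/-- The 1-generated core condition in plain words. -/
theorem kGeneratedCore_one_le_iff (hT : IsPGroup p T) :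
    Cfsg.kGeneratedCore p 1 T ≤ E ↔
      ∀ Q : Subgroup X, Q ≤ T → Q ≠ ⊥ → Subgroup.normalizer (Q : Set X) ≤ E := by
  rw [Cfsg.kGeneratedCore, iSup_le_iff]
  constructor
  · intro h Q hQ hne
    exact h ⟨Q, hQ, (not_pRankLE_zero (hT.to_le hQ)).2 hne⟩
  · rintro h ⟨Q, hQ, hr⟩
    exact h Q hQ ((not_pRankLE_zero (hT.to_le hQ)).1 hr)

theorem isStronglyPEmbedded_iff :
    Cfsg.IsStronglyPEmbedded p E ↔ p ∣ Nat.card X ∧ E ≠ ⊤ ∧ ∃ T, SylIn p T ⊤ ∧
      ∀ Q : Subgroup X, Q ≤ T → Q ≠ ⊥ → Subgroup.normalizer (Q : Set X) ≤ E := by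
  refine and_congr_right fun _ => and_congr_right fun _ => ⟨?_, ?_⟩
  · rintro ⟨P, hP⟩
    exact ⟨P, sylIn_top P, (kGeneratedCore_one_le_iff P.isPGroup').1 hP⟩
  · rintro ⟨T, hT, h⟩
    obtain ⟨P, rfl⟩ := hT.exists_sylow
    exact ⟨P, (kGeneratedCore_one_le_iff P.isPGroup').2 h⟩

theorem sylow_conj_of_inf_ne_bot (hT : SylIn p T ⊤)
    (hΓ : ∀ Q : Subgroup X, Q ≤ T → Q ≠ ⊥ → Subgroup.normalizer (Q : Set X) ≤ E) :
    ∀ T' : Subgroup X, SylIn p T' ⊤ → T ⊓ T' ≠ ⊥ → ∃ e ∈ E, T' = cj T e := by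
  suffices ∀ n : ℕ, ∀ T' : Subgroup X, Nat.card X - Nat.card ↥(T ⊓ T') = n → SylIn p T' ⊤ →
      T ⊓ T' ≠ ⊥ → ∃ e ∈ E, T' = cj T e from fun T' => this _ T' rfl
  intro n
  induction n using Nat.strong_induction_on with
  | _ n ih =>
  intro T' hn hT' hne
  have hcard : Nat.card T' = Nat.card T :=
    le_antisymm (hT.card_le hT'.isPGroup le_top) (hT'.card_le hT.isPGroup le_top)
  by_cases h1 : T ⊓ T' = T'
  · refine ⟨1, E.one_mem, ?_⟩
    rw [cj_one]
    exact Subgroup.eq_of_le_of_card_ge (h1 ▸ inf_le_left) hcard.ge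
  have h2 : T ⊓ T' ≠ T := fun h => h1 <| by
    rw [h]; exact Subgroup.eq_of_le_of_card_ge (h ▸ inf_le_right) hcard.le
  set D := T ⊓ T'
  have hP : D < T ⊓ Subgroup.normalizer (D : Set X) :=
    SylIn.normalizer_growth inf_le_left h2 hT.isPGroup
  have hP' : D < T' ⊓ Subgroup.normalizer (D : Set X) :=
    SylIn.normalizer_growth inf_le_right h1 hT'.isPGroup
  have hND : Subgroup.normalizer (D : Set X) ≤ E := hΓ D inf_le_left hne
  obtain ⟨T₁, hT₁, hPT₁⟩ := exists_sylIn_ge (p := p) (hT.isPGroup.to_inf_left (K := Subgroup.normalizer (D : Set X)))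
    inf_le_right
  obtain ⟨m, hm, hmle⟩ := hT₁.conj_le (hT'.isPGroup.to_inf_left (K := Subgroup.normalizer (D : Set X)))
    inf_le_right
  obtain ⟨U, hU, hT₁U⟩ := exists_sylIn_ge hT₁.isPGroup (le_top : T₁ ≤ ⊤)
  have hlt : ∀ {A B : Subgroup X}, A < B → Nat.card A < Nat.card B := fun {A B} h => by
    refine lt_of_le_of_ne (Subgroup.card_le_of_le h.le) fun he => h.ne ?_
    exact Subgroup.eq_of_le_of_card_ge h.le he.ge
  have hDle := Subgroup.card_le_card_group (T ⊓ U)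
  -- the first intermediate Sylow subgroup
  have hPU : D < T ⊓ U := lt_of_lt_of_le hP (le_inf inf_le_left (hPT₁.trans hT₁U))
  obtain ⟨e, he, rfl⟩ := ih _ (by have := hlt hPU; omega) U rfl hU (fun h => not_lt_bot (h ▸ hPU))
  -- the second one
  set T'' := cj (cj T' m) e⁻¹
  have hT'' : SylIn p T'' ⊤ := by
    have h3 := (hT'.cj m).cj e⁻¹
    rwa [Fusion.cj_of_normal ⊤, Fusion.cj_of_normal ⊤] at h3
  have hbig : cj (cj (T' ⊓ Subgroup.normalizer (D : Set X)) m) e⁻¹ ≤ T ⊓ T'' := by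
    refine le_inf ?_ (cj_mono (cj_mono inf_le_left m) _)
    refine (cj_mono (hmle.trans hT₁U) _).trans ?_
    rw [cj_cj_inv]
  have hc : Nat.card D < Nat.card ↥(T ⊓ T'') := by
    refine lt_of_lt_of_le (hlt hP') ?_
    rw [← card_cj (T' ⊓ _) m, ← card_cj (cj _ m) e⁻¹]
    exact Subgroup.card_le_of_le hbig
  have hDle' := Subgroup.card_le_card_group (T ⊓ T'')
  obtain ⟨e', he', hT''e⟩ := ih _ (by omega) T'' rfl hT'' (fun h => by
    rw [h, Subgroup.card_bot] at hc; have := Nat.card_pos (α := D); omega)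
  refine ⟨m⁻¹ * e * e', E.mul_mem (E.mul_mem (E.inv_mem (hND hm)) he) he', ?_⟩
  calc T' = cj (cj (cj (cj T' m) e⁻¹) e) m⁻¹ := by rw [cj_inv_cj, cj_cj_inv]
    _ = cj (cj (cj T e') e) m⁻¹ := by rw [← hT''e]
    _ = _ := by rw [cj_cj, cj_cj, mul_assoc]

/-- An element conjugating a nontrivial subgroup of `T` into `T` lies in `E`. -/
theorem mem_of_conj_le (hT : SylIn p T ⊤)
    (hΓ : ∀ Q : Subgroup X, Q ≤ T → Q ≠ ⊥ → Subgroup.normalizer (Q : Set X) ≤ E)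
    {A : Subgroup X} {g : X} (hA : A ≤ T) (hne : A ≠ ⊥) (hg : cj A g ≤ T) : g ∈ E := by
  have hTne : T ≠ ⊥ := fun h => hne (le_bot_iff.1 (h ▸ hA))
  have hT' : SylIn p (cj T g⁻¹) ⊤ := by
    have h3 := hT.cj g⁻¹
    rwa [Fusion.cj_of_normal ⊤] at h3
  obtain ⟨e, he, hTe⟩ := sylow_conj_of_inf_ne_bot hT hΓ _ hT' (fun h => hne (le_bot_iff.1
    (h ▸ le_inf hA (cj_le_iff.1 hg))))
  have hn : e⁻¹ * g⁻¹ ∈ Subgroup.normalizer (T : Set X) :=
    mem_normalizer_iff_cj.2 (by rw [← cj_cj, hTe, cj_cj_inv])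
  have h2 := E.inv_mem (E.mul_mem he (hΓ T le_rfl hTne hn))
  simpa [mul_assoc] using h2

end Cfsg.Agent.Local
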