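import Mathlib
import Cfsg.Prelude.Def_OddOrderLocal
import Cfsg.Agent.Lib.Fusion.Cores
import Cfsg.Agent.Lib.Solv.Cores

/-!
Elementary facts about `M_F`, and about cyclic groups split in two factors.
-/

namespace Cfsg.Agent.TypePBasic

open Cfsg

variable {G : Type*} [Group G] [Finite G]

omit [Finite G] in
theorem hall_sup {A B : Subgroup G} [A.Normal] [B.Normal] (hA : (Nat.card A).Coprime A.index)
    (hB : (Nat.card B).Coprime B.index) :
    (Nat.card (A ⊔ B : Subgroup G)).Coprime (A ⊔ B).index := by
  refine Nat.Coprime.coprime_dvd_left (Cfsg.Agent.Fusion.card_sup_dvd B A) ?_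
  exact Nat.Coprime.mul_left (hA.coprime_dvd_right (Subgroup.index_dvd_of_le le_sup_left))
    (hB.coprime_dvd_right (Subgroup.index_dvd_of_le le_sup_right))

theorem fittingHall_hall : (Nat.card (fittingHall G)).Coprime (fittingHall G).index := by
  set S : Set (Subgroup G) :=
    {N : Subgroup G | N.Normal ∧ Group.IsNilpotent N ∧ (Nat.card N).Coprime N.index}
  have key : ∀ s : Set (Subgroup G), s.Finite → s ⊆ S →
      (sSup s).Normal ∧ (Nat.card (sSup s : Subgroup G)).Coprime (sSup s).index := by
    intro s hs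
    induction s, hs using Set.Finite.induction_on with
    | empty =>
      intro _
      rw [sSup_empty]
      exact ⟨inferInstance, by simp⟩
    | @insert a t _ _ ih =>
      intro hsub
      obtain ⟨ha, -, hac⟩ := hsub (Set.mem_insert a t)
      obtain ⟨ht, htc⟩ := ih ((Set.subset_insert a t).trans hsub)
      rw [sSup_insert]
      exact ⟨inferInstance, hall_sup hac htc⟩
  exact (key S (Set.toFinite _) subset_rfl).2

omit [Finite G] in
theorem fittingHall_le_fitting : fittingHall G ≤ fittingSubgroup G :=
  sSup_le_sSup fun _ h => ⟨h.1, h.2.1⟩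

omit [Finite G] in
theorem map_le_self {M : Subgroup G} (X : Subgroup M) : X.map M.subtype ≤ M :=
  Subgroup.map_subtype_le X

theorem fittingOf_nilpotent (M : Subgroup G) : Group.IsNilpotent (fittingOf M) := by
  haveI := Cfsg.Agent.Solv.fittingSubgroup_nilpotent (G := M)
  exact Group.nilpotent_of_mulEquiv (Subgroup.equivMapOfInjective _ _ M.subtype_injective)

theorem fittingHallOf_hall (M : Subgroup G) :
    (Nat.card (fittingHallOf M)).Coprime ((fittingHallOf M).relIndex M) := by
  rw [fittingHallOf, Subgroup.card_map_of_injective M.subtype_injective, Subgroup.relIndex,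
    Subgroup.subgroupOf, Subgroup.comap_map_eq_self_of_injective M.subtype_injective]
  exact fittingHall_hall

/-- If `L = H ⋊ U` sits in `M` and `H = M_F`, then `|U|` is prime to `|H|`. -/
theorem compl_coprime {M L U : Subgroup G} (hc : IsComplIn (fittingHallOf M) U L) (hLM : L ≤ M) :
    (Nat.card (fittingHallOf M)).Coprime (Nat.card U) := by
  refine Nat.Coprime.coprime_dvd_right ?_ (fittingHallOf_hall M)
  obtain ⟨hHL, hUL, hint, -⟩ := hc
  have h1 : (fittingHallOf M).relIndex U ∣ (fittingHallOf M).relIndex M := by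
    have hn : ((fittingHallOf M).subgroupOf M).Normal := by
      rw [fittingHallOf, Subgroup.subgroupOf,
        Subgroup.comap_map_eq_self_of_injective M.subtype_injective]
      infer_instance
    have h2 : ((fittingHallOf M).subgroupOf M).relIndex (U.subgroupOf M) ∣
        ((fittingHallOf M).subgroupOf M).index := Subgroup.relIndex_dvd_index_of_normal _ _
    rwa [Subgroup.relIndex_subgroupOf (hUL.trans hLM)] at h2
  refine Nat.dvd_trans ?_ h1
  rw [← Subgroup.inf_relIndex_right, hint, Subgroup.relIndex_bot_left]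

omit [Finite G] in
theorem mem_fitting_compl {H U L F : Subgroup G} (hc : IsComplIn H U L) (hHF : H ≤ F)
    (hFL : F ≤ L) {x : G} (hx : x ∈ F) : ∃ h ∈ H, ∃ u ∈ U ⊓ F, x = h * u := by
  obtain ⟨h, hh, u, hu, rfl⟩ := hc.2.2.2 x (hFL hx)
  refine ⟨h, hh, u, ⟨hu, ?_⟩, rfl⟩
  have := mul_mem (inv_mem (hHF hh)) hx
  simpa using this

theorem commute_of_coprime {F : Type*} [Group F] [Finite F] [Group.IsNilpotent F] {x y : F}
    (h : (orderOf x).Coprime (orderOf y)) : Commute x y := by
  obtain ⟨e⟩ := ((Group.isNilpotent_of_finite_tfae (G := F)).out 0 4).1 ‹Group.IsNilpotent F›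
  have h1 : Commute (e.symm x) (e.symm y) := by
    refine funext fun p => funext fun P => ?_
    simp only [Pi.mul_apply]
    haveI : Fact (Nat.Prime (p : ℕ)) := ⟨Nat.prime_of_mem_primeFactors p.2⟩
    obtain ⟨i, hi⟩ := (IsPGroup.iff_orderOf.1 P.isPGroup') (e.symm x p P)
    obtain ⟨j, hj⟩ := (IsPGroup.iff_orderOf.1 P.isPGroup') (e.symm y p P)
    have hdx : orderOf (e.symm x p P) ∣ orderOf x := by
      refine orderOf_dvd_of_pow_eq_one ?_
      have h1 := congrArg (fun f => f p P) (map_pow e.symm x (orderOf x))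
      simp only [pow_orderOf_eq_one, map_one, Pi.one_apply, Pi.pow_apply] at h1
      exact h1.symm
    have hdy : orderOf (e.symm y p P) ∣ orderOf y := by
      refine orderOf_dvd_of_pow_eq_one ?_
      have h1 := congrArg (fun f => f p P) (map_pow e.symm y (orderOf y))
      simp only [pow_orderOf_eq_one, map_one, Pi.one_apply, Pi.pow_apply] at h1
      exact h1.symm
    have hc := (h.coprime_dvd_left hdx).coprime_dvd_right hdy
    rw [hi, hj] at hc
    rcases Nat.eq_zero_or_pos i with rfl | hi0
    · rw [pow_zero, orderOf_eq_one_iff] at hi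
      rw [hi, one_mul, mul_one]
    · rcases Nat.eq_zero_or_pos j with rfl | hj0
      · rw [pow_zero, orderOf_eq_one_iff] at hj
        rw [hj, one_mul, mul_one]
      · exact absurd (Nat.eq_one_of_dvd_coprimes hc (dvd_pow_self _ hi0.ne') (dvd_pow_self _ hj0.ne'))
          (Fact.out : Nat.Prime (p : ℕ)).ne_one
  have h2 := h1.map e.toMonoidHom
  simpa using h2

/-- In a nilpotent group elements of coprime subgroups commute. -/
theorem nilpotent_coprime_commute {F H X : Subgroup G} [Group.IsNilpotent F] (hH : H ≤ F)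
    (hX : X ≤ F) (hcop : (Nat.card H).Coprime (Nat.card X)) :
    X ≤ Subgroup.centralizer (H : Set G) := by
  intro x hx
  rw [Subgroup.mem_centralizer_iff]
  intro h hh
  have hd : (orderOf (⟨h, hH hh⟩ : F)).Coprime (orderOf (⟨x, hX hx⟩ : F)) := by
    rw [Subgroup.orderOf_mk, Subgroup.orderOf_mk]
    exact (hcop.coprime_dvd_left ((Subgroup.orderOf_mk h hh) ▸ orderOf_dvd_natCard _)).coprime_dvd_right
      ((Subgroup.orderOf_mk x hx) ▸ orderOf_dvd_natCard _)
  exact congrArg Subtype.val (Cfsg.Agent.TypePBasic.commute_of_coprime hd)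

omit [Finite G] in
/-- Two subgroups of a finite cyclic group with trivial intersection have coprime orders. -/
theorem cyclic_split_coprime [Finite G] {A B W : Subgroup G} [IsCyclic W] (hA : A ≤ W) (hB : B ≤ W)
    (h : A ⊓ B = ⊥) : (Nat.card A).Coprime (Nat.card B) := by
  refine Nat.coprime_of_dvd fun q hq hqA hqB => ?_
  haveI := Fact.mk hq
  obtain ⟨a, ha⟩ := exists_prime_orderOf_dvd_card' q hqA
  obtain ⟨b, hb⟩ := exists_prime_orderOf_dvd_card' q hqB
  set a' : W := ⟨a, hA a.2⟩
  set b' : W := ⟨b, hB b.2⟩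
  have ha' : orderOf a' = q := by rw [Subgroup.orderOf_mk, orderOf_submonoid, ha]
  have hb' : orderOf b' = q := by rw [Subgroup.orderOf_mk, orderOf_submonoid, hb]
  have h1 : Subgroup.zpowers a' = Subgroup.zpowers b' := by
    haveI := Fintype.ofFinite W
    classical
    have key : ∀ c : W, orderOf c = q → ((Subgroup.zpowers c : Subgroup W) : Set W) = {x : W | x ^ q = 1} := by
      intro c hc
      refine Set.eq_of_subset_of_ncard_le (fun x hx => ?_) ?_ (Set.toFinite _)
      · obtain ⟨i, rfl⟩ := Subgroup.mem_zpowers_iff.1 hx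
        show (c ^ i) ^ q = 1
        rw [← zpow_natCast, ← zpow_mul, mul_comm, zpow_mul, zpow_natCast, ← hc, pow_orderOf_eq_one,
          one_zpow]
      · rw [show ((Subgroup.zpowers c : Subgroup W) : Set W).ncard = q from
          ((Nat.card_coe_set_eq _).symm.trans (Nat.card_zpowers c)).trans hc, Set.ncard_eq_toFinset_card']
        have := IsCyclic.card_pow_eq_one_le (α := W) (n := q) hq.pos
        simpa using this
    exact SetLike.coe_injective ((key a' ha').trans (key b' hb').symm)
  obtain ⟨i, hi⟩ := Subgroup.mem_zpowers_iff.1 (h1 ▸ Subgroup.mem_zpowers a')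
  have h2 : (a : G) ∈ A ⊓ B := by
    refine ⟨a.2, ?_⟩
    rw [show (a : G) = (b : G) ^ i from (congrArg Subtype.val hi).symm]
    exact zpow_mem b.2 i
  rw [h, Subgroup.mem_bot] at h2
  rw [show a = 1 from Subtype.ext h2, orderOf_one] at ha
  exact hq.one_lt.ne ha

end Cfsg.Agent.TypePBasic
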