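import Cfsg.Agent.Lib.Local.EquivStable

/-!
# The factorisation `G = O_{p'}(G) N(Z(J(S)))` under coprime operators
-/

set_option autoImplicit false

universe u v

namespace Cfsg.Agent.EquivZJ

open Cfsg Cfsg.Agent.Fusion

variable {p : ℕ} [hp : Fact p.Prime] {X : Type v} [Group X]

/-- The fixed points sit in the semidirect product as the centralizer of the operators. -/
theorem range_inl_inf_centralizer {G : Type u} [Group G] (A : Subgroup (MulAut G)) (C : Subgroup G)
    (hC : ∀ g : G, g ∈ C ↔ ∀ a ∈ A, a g = g) :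
    (SemidirectProduct.inl : G →* G ⋊[A.subtype] A).range ⊓
        Subgroup.centralizer
          (((SemidirectProduct.inr : A →* G ⋊[A.subtype] A).range : Subgroup _) : Set _) =
      C.map (SemidirectProduct.inl : G →* G ⋊[A.subtype] A) := by
  refine le_antisymm ?_ ?_
  · rintro _ ⟨⟨g, rfl⟩, hg⟩
    refine ⟨g, (hC g).2 fun a ha => SemidirectProduct.inl_injective (φ := A.subtype) ?_, rfl⟩
    have h1 := Subgroup.mem_centralizer_iff.1 hg (SemidirectProduct.inr ⟨a, ha⟩) ⟨_, rfl⟩
    have h2 := SemidirectProduct.inl_aut (φ := A.subtype) ⟨a, ha⟩ g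
    rw [map_inv, h1, mul_inv_cancel_right] at h2
    exact h2
  · rintro _ ⟨g, hg, rfl⟩
    refine ⟨⟨g, rfl⟩, Subgroup.mem_centralizer_iff.2 ?_⟩
    rintro _ ⟨a, rfl⟩
    have h2 := SemidirectProduct.inl_aut (φ := A.subtype) a g
    rw [show A.subtype a g = g from (hC g).1 hg a a.2, map_inv] at h2
    exact eq_mul_inv_iff_mul_eq.1 h2 |>.symm

/-- The factorisation, given the input on linear groups. -/
theorem sup_normalizer_eq_top (hI : LinearInput.{u, v} p X) (hp2 : p ≠ 2) {G : Type u} [Group G]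
    [Finite G] (hG : Cfsg.IsPConstrained p G) (S : Sylow p G) (A : Subgroup (MulAut G))
    (hA : (Nat.card A).Coprime (Nat.card G)) (C : Subgroup G)
    (hC : ∀ g : G, g ∈ C ↔ ∀ a ∈ A, a g = g) (hfree : ¬ Cfsg.Involves X C) :
    Cfsg.pPrimeCore p G ⊔
      Subgroup.normalizer (Cfsg.centerThompsonAOf (S : Subgroup G) : Set G) = ⊤ := by
  set K := Cfsg.pPrimeCore p G with hKdef
  by_cases hpG : p ∣ Nat.card G
  swap
  · have : K = ⊤ := top_le_iff.1 (le_pPrimeCore (N := (⊤ : Subgroup G))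
      (by rw [Subgroup.card_top]; exact ((Nat.Prime.coprime_iff_not_dvd hp.out).2 hpG).symm))
    rw [this, top_sup_eq]
  have hK : (Nat.card K).Coprime p := card_pPrimeCore_coprime p G
  have hpA : (Nat.card A).Coprime p := hA.coprime_dvd_right hpG
  haveI : Finite (MulAut G) := Finite.of_injective (fun e => (e : G → G)) DFunLike.coe_injective
  haveI : Finite (G ⋊[A.subtype] A) := Finite.of_equiv _ SemidirectProduct.equivProd.symm
  set ι := (SemidirectProduct.inl : G →* G ⋊[A.subtype] A)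
  have hι : Function.Injective ι := SemidirectProduct.inl_injective
  set G₀ := ι.range
  set A₀ := (SemidirectProduct.inr : A →* G ⋊[A.subtype] A).range
  haveI hG₀ : G₀.Normal := by
    show ι.range.Normal
    rw [SemidirectProduct.range_inl_eq_ker_rightHom]; infer_instance
  have hsup : G₀ ⊔ A₀ = ⊤ := top_le_iff.1 fun x _ => by
    rw [← SemidirectProduct.inl_left_mul_inr_right x]
    exact Subgroup.mul_mem_sup ⟨_, rfl⟩ ⟨_, rfl⟩
  have hcA₀ : Nat.card A₀ = Nat.card A :=
    Nat.card_congr (MonoidHom.ofInjective SemidirectProduct.inr_injective).toEquiv.symm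
  have hcG₀ : Nat.card G₀ = Nat.card G :=
    Nat.card_congr (MonoidHom.ofInjective hι).toEquiv.symm
  have hfree₀ : ¬ Cfsg.Involves X
      ↥(G₀ ⊓ Subgroup.centralizer ((A₀ : Subgroup _) : Set (G ⋊[A.subtype] A))) := by
    intro h
    rw [range_inl_inf_centralizer A C hC] at h
    exact hfree (involves_trans h (involves_surjective involves_refl (ι.subgroupMap C)
      (MonoidHom.subgroupMap_surjective _ _)))
  haveI hN : (K.map ι).Normal := ⟨fun x hx y => by
    obtain ⟨k, hk, rfl⟩ := hx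
    rw [← SemidirectProduct.inl_left_mul_inr_right y]
    refine ⟨y.left * A.subtype y.right k * y.left⁻¹,
      (inferInstance : K.Normal).conj_mem _ ?_ _, ?_⟩
    · have he := Subgroup.characteristic_iff_map_eq.1
        (inferInstance : K.Characteristic) (A.subtype y.right)
      exact he ▸ ⟨k, hk, rfl⟩
    · simp only [ι]
      rw [map_mul, map_mul, SemidirectProduct.inl_aut, map_inv, map_inv]
      group⟩
  set π := QuotientGroup.mk' (K.map ι)
  have hπ : Function.Surjective π := QuotientGroup.mk'_surjective _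
  set θ := π.comp ι with hθ
  have hθker : ∀ x : G, θ x = 1 ↔ x ∈ K := fun x => by
    show (QuotientGroup.mk (ι x) : _ ⧸ K.map ι) = 1 ↔ _
    rw [QuotientGroup.eq_one_iff]
    exact ⟨fun ⟨k, hk, he⟩ => hι he ▸ hk, fun h => ⟨x, h, rfl⟩⟩
  set G₁ := G₀.map π
  set A₁ := A₀.map π
  haveI hG₁ : G₁.Normal := Subgroup.Normal.map hG₀ π hπ
  have hsup₁ : G₁ ⊔ A₁ = ⊤ := by
    rw [← Subgroup.map_sup, hsup, Subgroup.map_top_of_surjective π hπ]
  have hdA : Nat.card A₁ ∣ Nat.card A := hcA₀ ▸ Subgroup.card_map_dvd (H := A₀) π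
  have hdG : Nat.card G₁ ∣ Nat.card G := hcG₀ ▸ Subgroup.card_map_dvd (H := G₀) π
  have hrange : θ.range = G₁ := MonoidHom.range_comp _ _
  have hco₁ : (Nat.card A₁).Coprime (Nat.card G₁) :=
    (hA.coprime_dvd_left hdA).coprime_dvd_right hdG
  have hpA₁ : (Nat.card A₁).Coprime p := hpA.coprime_dvd_left hdA
  have hfree₁ := not_involves_fixed (X := X) G₀ A₀
    (by rw [hcA₀, hcG₀]; exact hA) π hfree₀
  -- the constraint
  let θ₁ : G ⧸ K →* ↥G₁ := QuotientGroup.lift K
    (θ.codRestrict G₁ fun x => hrange ▸ ⟨x, rfl⟩) fun x hx => Subtype.ext ((hθker x).2 hx)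
  have hθ₁ : Function.Bijective θ₁ := by
    constructor
    · rw [injective_iff_map_eq_one]
      intro q hq
      induction q using QuotientGroup.induction_on with
      | H x => exact (QuotientGroup.eq_one_iff x).2 ((hθker x).1 (congrArg Subtype.val hq))
    · rintro ⟨y, hy⟩
      obtain ⟨x, rfl⟩ := hrange.ge hy
      exact ⟨x, Subtype.ext rfl⟩
  have hc₁ : Subgroup.centralizer (Cfsg.pCore p G₁ : Set G₁) ≤ Cfsg.pCore p G₁ :=
    centralizer_pCore_equiv (MulEquiv.ofBijective θ₁ hθ₁).symm (centralizer_pCore_quotient_le hG)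
  have hc : G₁ ⊓ Subgroup.centralizer
      (Cfsg.pCore p ((G ⋊[A.subtype] A) ⧸ K.map ι) : Set _) ≤
        Cfsg.pCore p ((G ⋊[A.subtype] A) ⧸ K.map ι) := by
    set O := (Cfsg.pCore p G₁).map G₁.subtype
    haveI hOn : O.Normal := ⟨fun o ho x => conj_mem_pCoreOf
      (by rw [Subgroup.normalizer_eq_top]; trivial) ho⟩
    have hO : O ≤ Cfsg.pCore p _ := le_pCore ((isPGroup_pCore p G₁).map _)
    rintro x ⟨hx1, hx2⟩
    refine hO ⟨⟨x, hx1⟩, hc₁ (Subgroup.mem_centralizer_iff.2 fun o ho => Subtype.ext ?_), rfl⟩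
    exact Subgroup.mem_centralizer_iff.1 hx2 _ (hO ⟨o, ho, rfl⟩)
  -- the Sylow subgroup
  have hinj : Set.InjOn θ (S : Subgroup G) := fun x hx y hy hxy =>
    injOn_mk_of_coprime hK S.isPGroup' hx hy ((QuotientGroup.eq).2 ((hθker _).1 (by
      rw [map_mul, map_inv, hxy, inv_mul_cancel])))
  have hT : SylIn p ((S : Subgroup G).map θ) ⊤ := by
    refine ⟨le_top, S.isPGroup'.map _, ?_⟩
    rw [Subgroup.relIndex_top_right, Subgroup.index_map, hrange]
    intro hd
    rcases (Nat.Prime.dvd_mul hp.out).1 hd with h | h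
    · exact S.not_dvd_index (h.trans (Subgroup.index_dvd_of_le le_sup_left))
    · have hdvd : G₁.index ∣ Nat.card A₁ := by
        rw [← Subgroup.relIndex_top_right, ← hsup₁, Subgroup.relIndex_sup_left]
        exact Subgroup.relIndex_dvd_card _ _
      exact (Nat.Prime.coprime_iff_not_dvd hp.out).1 hpA₁.symm (h.trans hdvd)
  obtain ⟨T, hTeq⟩ := hT.exists_sylow
  have hn := zJ_normal hI hp2 G₁ A₁ hsup₁ hco₁ hpA₁ hfree₁ hc T
  rw [hTeq, ← inducedFunctor_wZA, inducedFunctor_map_of_injOn (isCharPFunctor_wZA (p := p)) θ hinj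
    S.isPGroup', inducedFunctor_wZA] at hn
  -- back to `G`
  set Z := Cfsg.centerThompsonAOf (S : Subgroup G)
  have hVP : Z ≤ (S : Subgroup G) := by
    rw [show Z = _ from (inducedFunctor_wZA _).symm]; exact inducedFunctor_le _ _
  refine top_le_iff.1 fun g _ => ?_
  obtain ⟨n, hn', he⟩ := exists_lift_normalizer hK (S.isPGroup'.to_le hVP)
    (y := QuotientGroup.mk' K g) (by
      refine mem_normalizer_of_cj_le ?_
      rintro _ ⟨_, ⟨z, hz, rfl⟩, rfl⟩
      obtain ⟨z', hz', hzz⟩ := hn.conj_mem (θ z) ⟨z, hz, rfl⟩ (θ g)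
      refine ⟨z', hz', ?_⟩
      show (QuotientGroup.mk z' : G ⧸ K) = QuotientGroup.mk g * QuotientGroup.mk z * (QuotientGroup.mk g)⁻¹
      rw [← QuotientGroup.mk_mul, ← QuotientGroup.mk_inv, ← QuotientGroup.mk_mul]
      refine (QuotientGroup.eq).2 ((hθker _).1 ?_)
      rw [map_mul, map_inv, hzz, map_mul, map_mul, map_inv, inv_mul_cancel])
  rw [← inv_mul_cancel_right g n]
  refine Subgroup.mul_mem_sup ((QuotientGroup.eq_one_iff _).1 ?_) hn'
  show QuotientGroup.mk' K (g * n⁻¹) = 1
  rw [map_mul, map_inv, he, mul_inv_cancel]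

/-- Projective special linear groups over isomorphic fields are isomorphic. -/
theorem involves_psl_congr {R F : Type*} [CommRing R] [CommRing F] (e : R ≃+* F) {G : Type u}
    [Group G] [Finite G]
    (h : Cfsg.Involves (Matrix.ProjectiveSpecialLinearGroup (Fin 2) R) G) :
    Cfsg.Involves (Matrix.ProjectiveSpecialLinearGroup (Fin 2) F) G := by
  let f := Matrix.SpecialLinearGroup.map (n := Fin 2) e.toRingHom
  have hf : Function.Surjective f := fun y =>
    ⟨Matrix.SpecialLinearGroup.map e.symm.toRingHom y, by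
      ext i j
      exact e.apply_symm_apply _⟩
  refine involves_surjective h (QuotientGroup.map _ _ f fun x hx => Subgroup.mem_center_iff.2 fun y => ?_)
    (fun q => ?_)
  · obtain ⟨z, rfl⟩ := hf y
    rw [← map_mul, ← map_mul, Subgroup.mem_center_iff.1 hx z]
  · induction q using QuotientGroup.induction_on with
    | H y =>
      obtain ⟨z, rfl⟩ := hf y
      exact ⟨QuotientGroup.mk z, rfl⟩

end Cfsg.Agent.EquivZJ
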