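import Cfsg.Agent.Lib.Fusion.ZJApply
import Cfsg.Agent.Lib.Fusion.PStableQuotient
import Cfsg.Agent.Lib.Fusion.LinearStable
import Cfsg.Agent.Lib.Solv.Coprime
import Cfsg.Agent.S0205
import Cfsg.Prelude.Def_RootSubgroups

/-!
# Coprime equivariant `ZJ` factorisation of `p`-constrained groups

The module input (`LinearInput`) is a statement on linear groups over `ZMod p`; from it we get that a
group with a coprime group of operators whose fixed points do not involve the excluded group is
stable on the invariant normal `p`-subgroups, and hence the factorisation.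
-/

set_option autoImplicit false
set_option maxHeartbeats 400000

open scoped commutatorElement

universe u v

namespace Cfsg.Agent.EquivZJ

open Cfsg Cfsg.Agent.Fusion

variable (p : ℕ) (X : Type v) [Group X]

/-- The input on linear groups: a coprime pair with quadratic element and trivial core involves `X`
in the fixed points. -/
def LinearInput [Fact p.Prime] : Prop :=
  ∀ (M : Type u) [AddCommGroup M] [Module (ZMod p) M] [Module.Finite (ZMod p) M]
    (G R : Subgroup (LinearMap.GeneralLinearGroup (ZMod p) M))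
    (σ : LinearMap.GeneralLinearGroup (ZMod p) M),
    R ≤ Subgroup.normalizer (G : Set (LinearMap.GeneralLinearGroup (ZMod p) M)) →
    (Nat.card G).Coprime (Nat.card R) → Cfsg.pCore p G = ⊥ →
    σ ∈ G → Cfsg.IsQuadraticOn σ →
    Cfsg.Involves X ↥(G ⊓ Subgroup.centralizer (R : Set (LinearMap.GeneralLinearGroup (ZMod p) M)))

variable {p} {X}

theorem solvable_or {Γ : Type*} [Group Γ] [Finite Γ] {G A : Subgroup Γ}
    (h : (Nat.card A).Coprime (Nat.card G)) : Group.IsSolvable A ∨ Group.IsSolvable G := by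
  rcases Nat.even_or_odd (Nat.card A) with hA | hA
  · right
    refine Cfsg.Agent.S0205.result ?_
    by_contra hG
    rw [Nat.not_odd_iff_even] at hG
    have h2 := Nat.dvd_gcd hA.two_dvd hG.two_dvd
    rw [h.gcd_eq_one] at h2
    exact absurd (Nat.le_of_dvd one_pos h2) (by omega)
  · exact Or.inl (Cfsg.Agent.S0205.result hA)

/-- Under coprime action the fixed points map onto the fixed points. -/
theorem map_fixed {Γ Δ : Type*} [Group Γ] [Finite Γ] [Group Δ] (G A : Subgroup Γ) [G.Normal]
    (hco : (Nat.card A).Coprime (Nat.card G)) (f : Γ →* Δ) :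
    G.map f ⊓ Subgroup.centralizer ((A.map f : Subgroup Δ) : Set Δ) =
      (G ⊓ Subgroup.centralizer (A : Set Γ)).map f := by
  refine le_antisymm ?_ ?_
  · rintro _ ⟨⟨g, hg, rfl⟩, hcen⟩
    have hAG : A ≤ Subgroup.normalizer (G : Set Γ) := by
      rw [Subgroup.normalizer_eq_top]; exact le_top
    have hAD : A ≤ Subgroup.normalizer ((G ⊓ f.ker : Subgroup Γ) : Set Γ) := by
      rw [Subgroup.normalizer_eq_top]; exact le_top
    obtain ⟨c, hc, hcd⟩ := Solv.exists_fixed_in_coset' A G (G ⊓ f.ker) hAG hco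
      (solvable_or hco) inf_le_left hAD hg fun a ha => by
        refine ⟨mul_mem (G.inv_mem hg) ((inferInstance : G.Normal).conj_mem g hg a), ?_⟩
        show f (g⁻¹ * (a * g * a⁻¹)) = 1
        have := Subgroup.mem_centralizer_iff.1 hcen (f a) ⟨a, ha, rfl⟩
        rw [map_mul, map_mul, map_mul, map_inv, map_inv, this, mul_inv_cancel_right,
          inv_mul_cancel]
    refine ⟨c, hc, ?_⟩
    have h1 : f (g⁻¹ * c) = 1 := hcd.2
    rw [map_mul, map_inv, inv_mul_eq_one] at h1
    exact h1.symm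
  · rintro _ ⟨c, hc, rfl⟩
    refine ⟨⟨c, hc.1, rfl⟩, Subgroup.mem_centralizer_iff.2 ?_⟩
    rintro _ ⟨a, ha, rfl⟩
    rw [← map_mul, ← map_mul, Subgroup.mem_centralizer_iff.1 hc.2 a ha]

theorem not_involves_fixed {Γ Δ : Type*} [Group Γ] [Finite Γ] [Group Δ] (G A : Subgroup Γ)
    [G.Normal] (hco : (Nat.card A).Coprime (Nat.card G)) (f : Γ →* Δ)
    (hfree : ¬ Cfsg.Involves X ↥(G ⊓ Subgroup.centralizer (A : Set Γ))) :
    ¬ Cfsg.Involves X ↥(G.map f ⊓ Subgroup.centralizer ((A.map f : Subgroup Δ) : Set Δ)) := by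
  intro h
  rw [map_fixed G A hco f] at h
  exact hfree (involves_trans h (involves_surjective involves_refl
    (f.subgroupMap (G ⊓ Subgroup.centralizer (A : Set Γ))) (MonoidHom.subgroupMap_surjective _ _)))

theorem mem_of_pow_eq_one {Γ : Type*} [Group Γ] [Finite Γ] [hp : Fact p.Prime] {G A : Subgroup Γ}
    [G.Normal] (hsup : G ⊔ A = ⊤) (hpA : (Nat.card A).Coprime p) {a : Γ}
    (ha : ∃ k : ℕ, a ^ p ^ k = 1) : a ∈ G := by
  obtain ⟨k, hk⟩ := ha
  rw [← QuotientGroup.eq_one_iff, ← orderOf_eq_one_iff]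
  refine Nat.eq_one_of_dvd_coprimes (hpA.pow_right k) ?_ (orderOf_dvd_of_pow_eq_one
    (x := (a : Γ ⧸ G)) (by rw [← QuotientGroup.mk_pow, hk, QuotientGroup.mk_one]))
  refine (orderOf_dvd_natCard _).trans (Subgroup.card_dvd_of_surjective
    ((QuotientGroup.mk' G).comp A.subtype) fun x => ?_)
  induction x using QuotientGroup.induction_on with
  | H g =>
    obtain ⟨a, ha, b, hb, rfl⟩ := exists_mul_of_mem_sup (H := A) (N := G)
      (by rw [Subgroup.normalizer_eq_top]; exact le_top)
      (by rw [sup_comm, hsup]; exact Subgroup.mem_top g)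
    refine ⟨⟨a, ha⟩, (QuotientGroup.eq (s := G)).2 ?_⟩
    show a⁻¹ * (a * b) ∈ G
    rwa [inv_mul_cancel_left]

/-- A normaliser of `H` normalises the image of the core of `H`. -/
theorem conj_mem_pCoreOf {Δ : Type*} [Group Δ] {H : Subgroup Δ} {x o : Δ}
    (hx : x ∈ Subgroup.normalizer (H : Set Δ)) (ho : o ∈ (Cfsg.pCore p H).map H.subtype) :
    x * o * x⁻¹ ∈ (Cfsg.pCore p H).map H.subtype := by
  obtain ⟨y, hy, rfl⟩ := ho
  let e : H ≃* H := ((MulAut.conj x).subgroupMap H).trans (MulEquiv.subgroupCongr (by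
    ext z
    constructor
    · rintro ⟨w, hw, rfl⟩
      exact (Subgroup.mem_normalizer_iff.1 hx w).1 hw
    · intro hz
      exact ⟨x⁻¹ * z * x, (Subgroup.mem_normalizer_iff.1 hx _).2 (by
        rwa [show x * (x⁻¹ * z * x) * x⁻¹ = z by group]),
        show x * (x⁻¹ * z * x) * x⁻¹ = z by group⟩))
  exact ⟨e y, (map_pCore_equiv (p := p) e) ▸ ⟨y, hy, rfl⟩, rfl⟩

variable [hp : Fact p.Prime]

/-- A noncentralising quadratic element on a minimal normal `p`-subgroup of a group with coprime
operators forces `X` into the fixed points. -/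
theorem involves_minimal (hI : LinearInput.{u, v} p X) {Γ : Type u} [Group Γ] [Finite Γ]
    (G A : Subgroup Γ) [G.Normal] (hsup : G ⊔ A = ⊤) (hco : (Nat.card A).Coprime (Nat.card G))
    {V : Subgroup Γ} [V.Normal] (hV : IsPGroup p V)
    (hmin : ∀ N : Subgroup Γ, N.Normal → N ≤ V → N = ⊥ ∨ N = V) {g : Γ} (hgG : g ∈ G)
    (hq : ∀ v ∈ V, ⁅⁅v, g⁆, g⁆ = 1) (hg : g ∉ Subgroup.centralizer (V : Set Γ)) :
    Cfsg.Involves X ↥(G ⊓ Subgroup.centralizer (A : Set Γ)) := by
  classical
  obtain ⟨hcomm, hexp⟩ := isElementaryAbelian_of_minimal hV hmin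
  letI : CommGroup V := { (V.toGroup : Group V) with mul_comm := fun a b => hcomm.1.1 a b }
  have hsmul : ∀ m : Additive V, p • m = 0 := fun m =>
    congrArg Additive.ofMul (Subtype.ext (hexp _ (Additive.toMul m).2) :
      (Additive.toMul m) ^ p = 1)
  have : Module (ZMod p) (Additive V) := AddCommGroup.zmodModule hsmul
  have : Module.Finite (ZMod p) (Additive V) := Module.Finite.of_finite
  have : Finite (Module.End (ZMod p) (Additive V)) :=
    Finite.of_injective (fun f => (f : Additive V → Additive V)) DFunLike.coe_injective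
  have : Finite (LinearMap.GeneralLinearGroup (ZMod p) (Additive V)) :=
    inferInstanceAs (Finite (Module.End (ZMod p) (Additive V))ˣ)
  let act : Γ →* Module.End (ZMod p) (Additive V) :=
    { toFun := fun x => (MonoidHom.toAdditive (MulAut.conjNormal (H := V) x).toMonoidHom).toZModLinearMap p
      map_one' := LinearMap.ext fun m => by
        show Additive.ofMul ((MulAut.conjNormal (H := V) (1 : Γ)) (Additive.toMul m)) = m
        rw [map_one, MulAut.one_apply, ofMul_toMul]
      map_mul' := fun x y => LinearMap.ext fun m => by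
        show Additive.ofMul ((MulAut.conjNormal (H := V) (x * y)) (Additive.toMul m)) =
          Additive.ofMul ((MulAut.conjNormal (H := V) x) ((MulAut.conjNormal (H := V) y) (Additive.toMul m)))
        rw [map_mul, MulAut.mul_apply] }
  let ρ : Γ →* LinearMap.GeneralLinearGroup (ZMod p) (Additive V) := act.toHomUnits
  have hval : ∀ (x : Γ) (v : V), ((ρ x : Module.End (ZMod p) (Additive V)) (Additive.ofMul v)) =
      Additive.ofMul (MulAut.conjNormal x v) := fun _ _ => rfl
  have hker : ∀ x : Γ, ρ x = 1 ↔ x ∈ Subgroup.centralizer (V : Set Γ) := fun x => by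
    rw [Subgroup.mem_centralizer_iff]
    constructor
    · intro h v hv
      have h1 := hval x ⟨v, hv⟩
      rw [h, Units.val_one, Module.End.one_apply] at h1
      have h2 : v = x * v * x⁻¹ := congrArg Subtype.val (Additive.ofMul.injective h1)
      conv_lhs => rw [h2]
      rw [inv_mul_cancel_right]
    · intro h
      refine Units.ext (LinearMap.ext fun m => ?_)
      rw [show m = Additive.ofMul (Additive.toMul m) from rfl, hval, Units.val_one,
        Module.End.one_apply]
      refine congrArg Additive.ofMul (Subtype.ext ?_)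
      show x * ((Additive.toMul m : V) : Γ) * x⁻¹ = _
      rw [← h _ (Additive.toMul m).2, mul_inv_cancel_right]
  have hnorm : A.map ρ ≤ Subgroup.normalizer ((G.map ρ : Subgroup _) : Set _) := by
    rintro _ ⟨a, -, rfl⟩
    refine mem_normalizer_of_cj_le ?_
    rintro _ ⟨_, ⟨y, hy, rfl⟩, rfl⟩
    refine ⟨a * y * a⁻¹, (inferInstance : G.Normal).conj_mem y hy a, ?_⟩
    rw [map_mul, map_mul, map_inv]
    rfl
  have hcore : Cfsg.pCore p (G.map ρ) = ⊥ := by
    set O := (Cfsg.pCore p (G.map ρ)).map (G.map ρ).subtype with hO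
    haveI hDn : (O.comap ρ).Normal := ⟨fun d hd x => by
      show ρ (x * d * x⁻¹) ∈ O
      rw [map_mul, map_mul, map_inv]
      refine conj_mem_pCoreOf ?_ hd
      refine mem_normalizer_of_cj_le ?_
      rintro _ ⟨_, ⟨y, hy, rfl⟩, rfl⟩
      refine ⟨x * y * x⁻¹, (inferInstance : G.Normal).conj_mem y hy x, ?_⟩
      rw [map_mul, map_mul, map_inv]
      rfl⟩
    have hle := le_centralizer_of_minimal hV hmin (D := O.comap ρ) fun d hd => by
      obtain ⟨j, hj⟩ := ((isPGroup_pCore p (G.map ρ)).map (G.map ρ).subtype) ⟨ρ d, hd⟩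
      refine ⟨j, (hker _).1 ?_⟩
      rw [map_pow]
      exact congrArg Subtype.val hj
    refine (Subgroup.eq_bot_iff_forall _).2 fun y hy => ?_
    obtain ⟨x, -, hx⟩ := y.2
    have hxD : ρ x ∈ O := ⟨y, hy, hx.symm⟩
    exact Subtype.ext (hx.symm.trans ((hker x).2 (hle hxD)))
  have hquad : Cfsg.IsQuadraticOn (ρ g) := by
    have hsq : ((ρ g : Module.End (ZMod p) (Additive V)) - 1) *
        ((ρ g : Module.End (ZMod p) (Additive V)) - 1) = 0 := by
      refine LinearMap.ext fun m => ?_
      rw [show m = Additive.ofMul (Additive.toMul m) from rfl, Module.End.mul_apply,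
        LinearMap.sub_apply, LinearMap.sub_apply, Module.End.one_apply, Module.End.one_apply,
        hval, ← ofMul_div, hval, ← ofMul_div]
      refine congrArg Additive.ofMul (Subtype.ext ?_)
      set v : Γ := ((Additive.toMul m : V) : Γ) with hv
      have h := hq v (Additive.toMul m).2
      have hmem : ∀ w ∈ V, g * w * g⁻¹ / w ∈ V := fun w hw =>
        div_mem ((inferInstance : V.Normal).conj_mem w hw g) hw
      simp only [InvMemClass.coe_inv, Subgroup.coe_div, MulAut.conjNormal_apply,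
        Subgroup.coe_one, OneMemClass.coe_one]
      rw [← hv]
      have hc1 : ⁅v, g⁆ ∈ V := by
        rw [commutatorElement_def, mul_assoc v, mul_assoc v]
        exact mul_mem (Additive.toMul m).2
          ((inferInstance : V.Normal).conj_mem _ (inv_mem (Additive.toMul m).2) g)
      have hc2 : g * ⁅v, g⁆ = ⁅v, g⁆ * g := (commutatorElement_eq_one_iff_mul_comm.1 h).symm
      have e : g * v * g⁻¹ / v = ⁅v, g⁆⁻¹ := by
        have hvv : (g * v * g⁻¹) * v⁻¹ = v⁻¹ * (g * v * g⁻¹) :=
          congrArg Subtype.val (hcomm.1.1 ⟨_, (inferInstance : V.Normal).conj_mem v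
            (Additive.toMul m).2 g⟩ ⟨_, inv_mem (Additive.toMul m).2⟩)
        rw [div_eq_mul_inv, commutatorElement_def]
        group
      rw [e, div_eq_one]
      rw [mul_inv_eq_iff_eq_mul, ← Commute.inv_right (show Commute g ⁅v, g⁆ from hc2)]
    have hne : (ρ g : Module.End (ZMod p) (Additive V)) - 1 ≠ 0 := fun h =>
      hg ((hker g).1 (Units.ext (sub_eq_zero.1 h)))
    exact ⟨hsq, hne⟩
  have hco' : (Nat.card (A.map ρ)).Coprime (Nat.card (G.map ρ)) :=
    (hco.coprime_dvd_left (Subgroup.card_map_dvd (H := A) ρ)).coprime_dvd_right (Subgroup.card_map_dvd (H := G) ρ)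
  by_contra hfree
  exact not_involves_fixed G A hco ρ hfree
    (hI (Additive V) (G.map ρ) (A.map ρ) (ρ g) hnorm hco'.symm hcore ⟨g, hgG, rfl⟩ hquad)

/-- Stability on the invariant normal `p`-subgroups. -/
theorem isPStableOn_of_free (hI : LinearInput.{u, v} p X) {Γ : Type u} [Group Γ] [Finite Γ]
    (G A : Subgroup Γ) [G.Normal] (hsup : G ⊔ A = ⊤) (hco : (Nat.card A).Coprime (Nat.card G))
    (hpA : (Nat.card A).Coprime p)
    (hfree : ¬ Cfsg.Involves X ↥(G ⊓ Subgroup.centralizer (A : Set Γ)))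
    (P : Subgroup Γ) [P.Normal] (hP : IsPGroup p P) : Cfsg.IsPStableOn p P := by
  refine isPStableOn_of_pElements hP fun a ha hq => ?_
  by_contra hg
  have haG : a ∈ G := mem_of_pow_eq_one hsup hpA ha
  have hgt : a ∉ trivBetween ⊥ P := fun h => hg (trivBetween_le_comap_pCore hP h)
  obtain ⟨U, V, hc, -, hUP, hne⟩ := exists_chief_of_not_mem_trivBetween hgt
  obtain ⟨hlt, hUn, hVn, hmin⟩ := hc
  haveI := hUn
  haveI := hVn
  set π := QuotientGroup.mk' V
  have hπ : Function.Surjective π := QuotientGroup.mk'_surjective V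
  have hUn' : (U.map π).Normal := Subgroup.Normal.map hUn π hπ
  have hGn' : (G.map π).Normal := Subgroup.Normal.map inferInstance π hπ
  haveI := hUn'
  haveI := hGn'
  have hsup' : G.map π ⊔ A.map π = ⊤ := by
    rw [← Subgroup.map_sup, hsup, Subgroup.map_top_of_surjective π hπ]
  have hco' : (Nat.card (A.map π)).Coprime (Nat.card (G.map π)) :=
    (hco.coprime_dvd_left (Subgroup.card_map_dvd (H := A) π)).coprime_dvd_right
      (Subgroup.card_map_dvd (H := G) π)
  have hU : IsPGroup p (U.map π) := (hP.to_le hUP).map π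
  have hmin' : ∀ N : Subgroup (Γ ⧸ V), N.Normal → N ≤ U.map π → N = ⊥ ∨ N = U.map π := by
    intro N hN hNU
    rcases hmin (N.comap π) inferInstance (fun v hv => by
        show π v ∈ N
        rw [show π v = 1 from (QuotientGroup.eq_one_iff v).2 hv]
        exact one_mem _) (fun x hx => by
        obtain ⟨u, hu, he⟩ := hNU (show π x ∈ N from hx)
        have hmem : u⁻¹ * x ∈ V := QuotientGroup.eq.1 he
        simpa using mul_mem hu (hlt.le hmem)) with h | h
    · left
      rw [← Subgroup.map_comap_eq_self_of_surjective hπ N, h]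
      exact QuotientGroup.map_mk'_self V
    · right
      rw [← Subgroup.map_comap_eq_self_of_surjective hπ N, h]
  have hq' : ∀ w ∈ U.map π, ⁅⁅w, π a⁆, π a⁆ = 1 := by
    rintro _ ⟨u, hu, rfl⟩
    rw [← map_commutatorElement, ← map_commutatorElement,
      show ⁅⁅u, a⁆, a⁆ = 1 from Subgroup.mem_bot.1 (hq ▸ Subgroup.commutator_mem_commutator
        (Subgroup.commutator_mem_commutator (hUP hu) (Subgroup.mem_zpowers a))
        (Subgroup.mem_zpowers a)), map_one]
  have hne' : π a ∉ Subgroup.centralizer ((U.map π : Subgroup (Γ ⧸ V)) : Set (Γ ⧸ V)) := by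
    intro hcen
    refine hne (Subgroup.commutator_le.2 fun u hu z hz => ?_)
    rw [← QuotientGroup.ker_mk' V, MonoidHom.mem_ker, map_commutatorElement,
      commutatorElement_eq_one_iff_mul_comm]
    obtain ⟨i, rfl⟩ := Subgroup.mem_zpowers_iff.1 hz
    rw [map_zpow]
    exact Subgroup.mem_centralizer_iff.1 (zpow_mem hcen i) (π u) ⟨u, hu, rfl⟩
  have hmain := @involves_minimal p X _ _ hI (Γ ⧸ V) _ _ (G.map π) (A.map π) hGn' hsup' hco'
    (U.map π) hUn' hU hmin' (π a) ⟨a, haG, rfl⟩ hq' hne'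
  exact not_involves_fixed G A hco π hfree hmain

/-- The `ZJ` subgroup is normal under coprime operators without `X` in the fixed points. -/
theorem zJ_normal (hI : LinearInput.{u, v} p X) (hp2 : p ≠ 2) {Γ : Type u} [Group Γ] [Finite Γ]
    (G A : Subgroup Γ) [G.Normal] (hsup : G ⊔ A = ⊤) (hco : (Nat.card A).Coprime (Nat.card G))
    (hpA : (Nat.card A).Coprime p)
    (hfree : ¬ Cfsg.Involves X ↥(G ⊓ Subgroup.centralizer (A : Set Γ)))
    (hc : G ⊓ Subgroup.centralizer (Cfsg.pCore p Γ : Set Γ) ≤ Cfsg.pCore p Γ) (T : Sylow p Γ) :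
    (Cfsg.centerThompsonAOf (T : Subgroup Γ)).Normal := by
  rw [← zFam_comm_eq]
  set ok := fun B : Subgroup Γ => IsMulCommutative B
  have hok : ReplFamily ok := replFamily_comm
  have hst : ∀ (P : Subgroup Γ) [P.Normal], IsPGroup p P → Cfsg.IsPStableOn p P :=
    fun P _ hP => isPStableOn_of_free hI G A hsup hco hpA hfree P hP
  set Q := Cfsg.pCore p Γ
  have hQ := isPGroup_pCore p Γ
  set C := Subgroup.centralizer (Q : Set Γ)
  set D := (Cfsg.pCore p (Γ ⧸ C)).comap (QuotientGroup.mk' C) ⊓ G with hD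
  have hDp : IsPGroup p D := by
    rintro ⟨d, hd1, hd2⟩
    obtain ⟨j, hj⟩ := isPGroup_pCore p (Γ ⧸ C) ⟨QuotientGroup.mk' C d, hd1⟩
    have hdC : d ^ p ^ j ∈ C := (QuotientGroup.eq_one_iff _).1 (by
      rw [QuotientGroup.mk_pow]; exact congrArg Subtype.val hj)
    obtain ⟨i, hi⟩ := hQ ⟨d ^ p ^ j, hc ⟨pow_mem hd2 _, hdC⟩⟩
    refine ⟨j + i, Subtype.ext ?_⟩
    show d ^ p ^ (j + i) = 1
    rw [pow_add, pow_mul]
    exact congrArg Subtype.val hi
  have hTG : (T : Subgroup Γ) ≤ G := fun t ht => mem_of_pow_eq_one hsup hpA (by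
    obtain ⟨k, hk⟩ := T.isPGroup' ⟨t, ht⟩
    exact ⟨k, congrArg Subtype.val hk⟩)
  have hZQ : zFam ok (T : Subgroup Γ) ≤ Q := fun z hz => by
    obtain ⟨B, hB⟩ := hok.maxIn_nonempty (T : Subgroup Γ)
    have hZc : IsMulCommutative (zFam ok (T : Subgroup Γ)) :=
      Fusion.isMulCommutative_of_le (hok.comm B hB.2.1) (hok.zFam_le_of_mem hB)
    have hQn : Q ≤ Subgroup.normalizer (zFam ok (T : Subgroup Γ) : Set Γ) :=
      (pCore_le_sylow T).trans (Subgroup.le_normalizer.trans (hok.normalizer_le_zFam _))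
    exact le_pCore (N := D) hDp
      ⟨mem_of_quadratic_stable (hst Q hQ) hZc hQn hz, hTG (inf_le_left (a := (T : Subgroup Γ)) hz)⟩
  have h := inf_zFam_normal hok hp2 hst T Q hQ
  rwa [inf_eq_right.2 hZQ] at h

end Cfsg.Agent.EquivZJ
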