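import Cfsg.Agent.Lib.Local.EquivQuadratic.Core

/-!
The inner part of the coprime equivariant factorisation: the interface.
-/

set_option autoImplicit false
set_option linter.style.haveILetI false

namespace Cfsg.Agent.EquivQuad

open Cfsg

/-- A group of linear maps over the field of p ≥ 5 elements without normal p-subgroups that has a
quadratic element involves PSL₂(p) in the fixed points of any coprime group of linear maps
normalising it. -/
theorem involves_fixed_of_quadratic {p : ℕ} [Fact p.Prime] (hp5 : 5 ≤ p) {M : Type*} [AddCommGroup M]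
    [Module (ZMod p) M] [Module.Finite (ZMod p) M]
    (G R : Subgroup (LinearMap.GeneralLinearGroup (ZMod p) M))
    (hnorm : R ≤ Subgroup.normalizer (G : Set (LinearMap.GeneralLinearGroup (ZMod p) M)))
    (hco : (Nat.card G).Coprime (Nat.card R)) (hcore : Cfsg.pCore p G = ⊥)
    {σ : LinearMap.GeneralLinearGroup (ZMod p) M} (hσ : σ ∈ G) (hq : Cfsg.IsQuadraticOn σ) :
    Cfsg.Involves (Matrix.ProjectiveSpecialLinearGroup (Fin 2) (ZMod p))
      ↥(G ⊓ Subgroup.centralizer (R : Set (LinearMap.GeneralLinearGroup (ZMod p) M))) := by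
  let b := Module.finBasis (ZMod p) M
  let M₀ := Fin (Module.finrank (ZMod p) M) → ZMod p
  let E : Module.End (ZMod p) M ≃ₐ[ZMod p] Module.End (ZMod p) M₀ := b.equivFun.conjAlgEquiv (ZMod p)
  let e : LinearMap.GeneralLinearGroup (ZMod p) M ≃* LinearMap.GeneralLinearGroup (ZMod p) M₀ :=
    Units.mapEquiv E.toMulEquiv
  let G₀ := G.map e.toMonoidHom
  let R₀ := R.map e.toMonoidHom
  have hn₀ : R₀ ≤ Subgroup.normalizer (G₀ : Set _) :=
    (Subgroup.map_mono hnorm).trans (Subgroup.le_normalizer_map e.toMonoidHom)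
  have hco₀ : (Nat.card G₀).Coprime (Nat.card R₀) := by
    rwa [show Nat.card G₀ = Nat.card G from (Nat.card_congr (e.subgroupMap G).toEquiv).symm,
      show Nat.card R₀ = Nat.card R from (Nat.card_congr (e.subgroupMap R).toEquiv).symm]
  have hcore₀ : Cfsg.pCore p G₀ = ⊥ := by
    have h := Fusion.map_pCore_equiv (p := p) (e.subgroupMap G)
    rw [hcore, Subgroup.map_bot] at h
    exact h.symm
  have hq₀ : Cfsg.IsQuadraticOn (e σ) := by
    have hv : (e σ : Module.End (ZMod p) M₀) - 1 = E ((σ : Module.End (ZMod p) M) - 1) := by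
      rw [map_sub, map_one]; rfl
    refine ⟨?_, ?_⟩
    · change ((e σ : Module.End (ZMod p) M₀) - 1) * ((e σ : Module.End (ZMod p) M₀) - 1) = 0
      rw [hv, ← map_mul]
      exact (congrArg E hq.1).trans (map_zero E)
    · change (e σ : Module.End (ZMod p) M₀) - 1 ≠ 0
      rw [hv]
      exact fun h => hq.2 ((map_eq_zero_iff E E.injective).1 h)
  obtain ⟨K, f, hf⟩ := Fusion.involves_exists_surjective
    (involves_fixed_core hp5 G₀ R₀ hn₀ hco₀ hcore₀ (Subgroup.mem_map_of_mem _ hσ) hq₀)
  let C := G ⊓ Subgroup.centralizer (R : Set (LinearMap.GeneralLinearGroup (ZMod p) M))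
  let C₀ := G₀ ⊓ Subgroup.centralizer (R₀ : Set (LinearMap.GeneralLinearGroup (ZMod p) M₀))
  have hC : C.map e.toMonoidHom = C₀ := by
    ext g
    obtain ⟨h, rfl⟩ := e.surjective g
    simp only [Subgroup.mem_map_equiv, MulEquiv.symm_apply_apply, C, C₀, G₀, R₀, Subgroup.mem_inf,
      Subgroup.mem_centralizer_iff, Subgroup.coe_map, Set.forall_mem_image]
    exact and_congr_right fun _ => forall₂_congr fun x _ => by
      change _ ↔ e x * e h = e h * e x
      rw [← map_mul, ← map_mul, e.injective.eq_iff]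
  let eC : C ≃* C₀ := (e.subgroupMap C).trans (MulEquiv.subgroupCongr hC)
  let K' : Subgroup C := K.comap eC.toMonoidHom
  refine Fusion.involves_of_surjective (K := K')
    (f.comp ((eC.toMonoidHom.comp K'.subtype).codRestrict K fun x => x.2)) (hf.comp fun y => ?_)
  exact ⟨⟨eC.symm y, by
    change eC (eC.symm (y : C₀)) ∈ K
    rw [MulEquiv.apply_symm_apply]; exact y.2⟩, Subtype.ext (eC.apply_symm_apply _)⟩

universe u

/-- The same with the quadratic element given as a member of `quadraticElements`. -/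
theorem involves_psl {p : ℕ} [Fact p.Prime] (hp5 : 5 ≤ p) {M : Type u} [AddCommGroup M] [Module (ZMod p) M]
    [FiniteDimensional (ZMod p) M] (G R : Subgroup (LinearMap.GeneralLinearGroup (ZMod p) M))
    (hRG : R ≤ Subgroup.normalizer (G : Set (LinearMap.GeneralLinearGroup (ZMod p) M)))
    (hco : (Nat.card R).Coprime (Nat.card G)) (hcore : Cfsg.pCore p G = ⊥)
    {σ : LinearMap.GeneralLinearGroup (ZMod p) M} (hσ : σ ∈ Cfsg.quadraticElements G) :
    Cfsg.Involves (Matrix.ProjectiveSpecialLinearGroup (Fin 2) (ZMod p))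
      ↥(G ⊓ Subgroup.centralizer (R : Set (LinearMap.GeneralLinearGroup (ZMod p) M))) :=
  involves_fixed_of_quadratic hp5 G R hRG hco.symm hcore hσ.1 hσ.2.1

end Cfsg.Agent.EquivQuad
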