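import Cfsg.Prelude.Def_KGroupFacts
import Cfsg.Agent.Lib.Solv.Extraspecial
import Mathlib.GroupTheory.Complement
import Mathlib.Data.Finset.Card

/-!
# `Aut(2^{1+2n}_+)` does not split over the inner automorphisms for `n ≥ 3`

With pairwise commuting `v₁, v₂, v₃` squaring to `z` and `v₄ = v₁v₂v₃`, the reflection lifts `τ` give
two classes `τ₁τ₂τ₃` and `τ₁τ₂τ₄` modulo `Inn` which commute and have order two, and no lifts of
them generate a four group.
-/

set_option autoImplicit false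

open Cfsg

namespace Cfsg.Agent.Local.XNonsplit

variable {Q : Type*} [Group Q]

/-- What is used about an extraspecial 2-group. -/
structure Data (z : Q) : Prop where
  ne : z ≠ 1
  mem : z ∈ Subgroup.center Q
  center : ∀ x ∈ Subgroup.center Q, x = 1 ∨ x = z
  sq : ∀ x : Q, x * x = 1 ∨ x * x = z
  anti : ∀ x y : Q, ¬ Commute x y → x * y = z * (y * x)

variable {z : Q} (D : Data z)
include D

theorem Data.z_comm (x : Q) : Commute x z := Subgroup.mem_center_iff.1 D.mem x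

theorem Data.zz : z * z = 1 :=
  (D.center _ (mul_mem D.mem D.mem)).resolve_right fun h => D.ne (mul_eq_left.1 h)

theorem Data.commute_mul {x y w : Q} : Commute (x * y) w ↔ (Commute x w ↔ Commute y w) := by
  by_cases hx : Commute x w <;> by_cases hy : Commute y w
  · simp [hx, hy, hx.mul_left hy]
  · simp only [hx, hy, iff_false, not_true_eq_false]
    exact fun h => hy (by simpa using (Commute.mul_left hx.inv_left h))
  · simp only [hx, hy, iff_true, iff_false]
    exact fun (h : Commute (x * y) w) => hx (by simpa using (h.mul_left hy.inv_left))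
  · simp only [hx, hy, iff_self, iff_true]
    show x * y * w = w * (x * y)
    rw [mul_assoc, D.anti y w hy, ← mul_assoc x, (D.z_comm x).eq, mul_assoc z, ← mul_assoc x,
      D.anti x w hx, mul_assoc z, ← mul_assoc z, D.zz, one_mul, mul_assoc]

theorem Data.commute_sq_shift {x v : Q} : Commute (x * v) v ↔ Commute x v :=
  D.commute_mul.trans ⟨fun h => h.2 (Commute.refl v), fun h => iff_of_true h (Commute.refl v)⟩

open Classical in
/-- The reflection lift attached to `v`: multiply by `v` the elements not commuting with it. -/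
noncomputable def Data.tau (v : Q) (hv : v * v = z) : MulAut Q where
  toFun x := if Commute x v then x else x * v
  invFun x := if Commute x v then x else x * v⁻¹
  left_inv x := by
    by_cases h : Commute x v
    · simp [h]
    · simp [h, D.commute_sq_shift]
  right_inv x := by
    by_cases h : Commute x v
    · simp [h]
    · have h' : ¬ Commute (x * v⁻¹) v := fun hc => h (by
        simpa using (D.commute_sq_shift.2 hc))
      simp [h, h']
  map_mul' x y := by
    by_cases hx : Commute x v <;> by_cases hy : Commute y v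
    · simp [hx, hy, hx.mul_left hy]
    · simp [hx, hy, D.commute_mul, mul_assoc]
    · simp only [D.commute_mul, hx, hy, if_true, iff_true, if_false]
      rw [mul_assoc, mul_assoc, hy.eq]
    · simp only [D.commute_mul, hx, hy, iff_self, if_true, if_false]
      have h1 : v * y * v = y := by
        rw [D.anti v y (fun h => hy h.symm), mul_assoc, mul_assoc, hv, (D.z_comm y).eq, ← mul_assoc,
          D.zz, one_mul]
      rw [mul_assoc x v, ← mul_assoc v y v, h1]

open Classical in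
theorem Data.tau_apply {v : Q} (hv : v * v = z) (x : Q) :
    D.tau v hv x = if Commute x v then x else x * v := rfl

theorem Data.tau_fix {v x : Q} (hv : v * v = z) (h : Commute x v) : D.tau v hv x = x := by
  rw [D.tau_apply, if_pos h]

theorem Data.tau_sq {v : Q} (hv : v * v = z) : D.tau v hv * D.tau v hv = MulAut.conj v := by
  refine MulEquiv.ext fun x => ?_
  rw [MulAut.mul_apply, MulAut.conj_apply]
  by_cases h : Commute x v
  · rw [D.tau_fix hv h, D.tau_fix hv h, ← h.eq, mul_inv_cancel_right]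
  · rw [D.tau_apply hv x, if_neg h, D.tau_apply, if_neg (fun hc => h (D.commute_sq_shift.1 hc)),
      D.anti v x (fun hc => h hc.symm), mul_assoc, hv, (D.z_comm x).eq, mul_assoc z (x * v),
      mul_inv_cancel_right]

theorem Data.tau_comm {v w : Q} (hv : v * v = z) (hw : w * w = z) (h : Commute v w) :
    Commute (D.tau v hv) (D.tau w hw) := by
  refine MulEquiv.ext fun x => ?_
  rw [MulAut.mul_apply, MulAut.mul_apply]
  by_cases hxv : Commute x v <;> by_cases hxw : Commute x w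
  · rw [D.tau_fix hw hxw, D.tau_fix hv hxv, D.tau_fix hw hxw]
  · rw [D.tau_apply hw x, if_neg hxw, D.tau_fix hv hxv, D.tau_fix hv (hxv.mul_left h.symm),
      D.tau_apply hw x, if_neg hxw]
  · rw [D.tau_fix hw hxw, D.tau_apply hv x, if_neg hxv, D.tau_fix hw (hxw.mul_left h)]
  · rw [D.tau_apply hw x, if_neg hxw, D.tau_apply hv, if_neg (fun hc => hxv
      (by simpa using hc.mul_left h.symm.inv_left)), D.tau_apply hv x, if_neg hxv, D.tau_apply hw,
      if_neg (fun hc => hxw (by simpa using hc.mul_left h.inv_left)), mul_assoc, mul_assoc, h.eq]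

theorem Data.conj_eq_one {x : Q} : MulAut.conj x = 1 ↔ x ∈ Subgroup.center Q := by
  rw [Subgroup.mem_center_iff, MulEquiv.ext_iff]
  refine forall_congr' fun y => ?_
  rw [MulAut.conj_apply, MulAut.one_apply, mul_inv_eq_iff_eq_mul]
  exact eq_comm

theorem Data.inn_sq (x : Q) : MulAut.conj x * MulAut.conj x = 1 := by
  rw [← map_mul, D.conj_eq_one]
  rcases D.sq x with h | h <;> rw [h]
  exacts [one_mem _, D.mem]

theorem Data.inn_comm (x y : Q) : Commute (MulAut.conj x) (MulAut.conj y) := by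
  by_cases h : Commute x y
  · exact h.map _
  · show MulAut.conj x * MulAut.conj y = MulAut.conj y * MulAut.conj x
    rw [← map_mul, D.anti x y h, map_mul, D.conj_eq_one.2 D.mem, one_mul, map_mul]

omit D in
theorem mul_conj_eq (τ : MulAut Q) (a : Q) : τ * MulAut.conj a = MulAut.conj (τ a) * τ := by
  refine MulEquiv.ext fun x => ?_
  simp [MulAut.mul_apply, MulAut.conj_apply, map_mul, map_inv]

open Classical in
/-- The contribution of `v` to the image of `a` modulo the centre. -/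
noncomputable def Data.part (_D : Data z) (a v : Q) : MulAut Q :=
  if Commute a v then 1 else MulAut.conj v

open Classical in
theorem Data.conj_triple {a v₁ v₂ v₃ : Q} (h1 : v₁ * v₁ = z) (h2 : v₂ * v₂ = z) (h3 : v₃ * v₃ = z)
    (c12 : Commute v₁ v₂) (c13 : Commute v₁ v₃) (c23 : Commute v₂ v₃) :
    MulAut.conj ((D.tau v₁ h1 * D.tau v₂ h2 * D.tau v₃ h3) a) =
      MulAut.conj a * (D.part a v₃ * D.part a v₂ * D.part a v₁) := by
  have key : ∀ (x v : Q) (hv : v * v = z), MulAut.conj (D.tau v hv x) = MulAut.conj x * D.part x v := by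
    intro x v hv
    by_cases h : Commute x v
    · rw [D.tau_fix hv h, Data.part, if_pos h, mul_one]
    · rw [D.tau_apply hv, if_neg h, map_mul, Data.part, if_neg h]
  have shift : ∀ (x v w : Q) (hv : v * v = z), Commute v w → D.part (D.tau v hv x) w = D.part x w := by
    intro x v w hv hvw
    by_cases h : Commute x v
    · rw [D.tau_fix hv h]
    · rw [D.tau_apply hv, if_neg h]
      unfold Data.part
      exact if_congr (D.commute_mul.trans (by simp [hvw])) rfl rfl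
  rw [MulAut.mul_apply, MulAut.mul_apply, key, key, key, shift _ _ _ h2 c12.symm,
    shift _ _ _ h3 c13.symm, shift _ _ _ h3 c23.symm]
  simp only [mul_assoc]

theorem Data.triple_sq {v₁ v₂ v₃ : Q} (h1 : v₁ * v₁ = z) (h2 : v₂ * v₂ = z) (h3 : v₃ * v₃ = z)
    (c12 : Commute v₁ v₂) (c13 : Commute v₁ v₃) (c23 : Commute v₂ v₃) :
    (D.tau v₁ h1 * D.tau v₂ h2 * D.tau v₃ h3) * (D.tau v₁ h1 * D.tau v₂ h2 * D.tau v₃ h3) =
      MulAut.conj (v₁ * v₂ * v₃) := by
  have e12 := D.tau_comm h1 h2 c12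
  have e3 : Commute (D.tau v₁ h1 * D.tau v₂ h2) (D.tau v₃ h3) :=
    (D.tau_comm h1 h3 c13).mul_left (D.tau_comm h2 h3 c23)
  rw [e3.symm.mul_mul_mul_comm, e12.symm.mul_mul_mul_comm, D.tau_sq, D.tau_sq, D.tau_sq, map_mul,
    map_mul]

/-- If `τ₁τ₂τ₃ · conj a` is an involution then `a` commutes with none of `v₁, v₂, v₃`. -/
theorem Data.all_anti {a v₁ v₂ v₃ : Q} (h1 : v₁ * v₁ = z) (h2 : v₂ * v₂ = z) (h3 : v₃ * v₃ = z)
    (c12 : Commute v₁ v₂) (c13 : Commute v₁ v₃) (c23 : Commute v₂ v₃)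
    (n1 : v₁ ∉ Subgroup.center Q) (n2 : v₂ ∉ Subgroup.center Q) (n3 : v₃ ∉ Subgroup.center Q)
    (n12 : v₁ * v₂ ∉ Subgroup.center Q) (n13 : v₁ * v₃ ∉ Subgroup.center Q)
    (n23 : v₂ * v₃ ∉ Subgroup.center Q) (n123 : v₁ * v₂ * v₃ ∉ Subgroup.center Q)
    (hinv : (D.tau v₁ h1 * D.tau v₂ h2 * D.tau v₃ h3) * MulAut.conj a *
      ((D.tau v₁ h1 * D.tau v₂ h2 * D.tau v₃ h3) * MulAut.conj a) = 1) :
    ¬ Commute a v₁ ∧ ¬ Commute a v₂ ∧ ¬ Commute a v₃ := by
  set α := D.tau v₁ h1 * D.tau v₂ h2 * D.tau v₃ h3 with hα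
  have hsq : α * α = MulAut.conj (v₁ * v₂ * v₃) := by rw [hα]; exact D.triple_sq h1 h2 h3 c12 c13 c23
  have h4 : MulAut.conj (α a) * MulAut.conj (v₁ * v₂ * v₃) * MulAut.conj a = 1 := by
    calc _ = MulAut.conj (α a) * α * (α * MulAut.conj a) := by rw [← hsq]; simp only [mul_assoc]
      _ = α * MulAut.conj a * (α * MulAut.conj a) := by rw [← mul_conj_eq]
      _ = 1 := hinv
  rw [hα, D.conj_triple h1 h2 h3 c12 c13 c23, map_mul, map_mul] at h4
  set A := MulAut.conj a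
  set P₁ := D.part a v₁ with hP1
  set P₂ := D.part a v₂ with hP2
  set P₃ := D.part a v₃ with hP3
  have hc : ∀ v w : Q, Commute (D.part a v) (MulAut.conj w) := fun v w => by
    unfold Data.part
    split
    · exact Commute.one_left _
    · exact D.inn_comm _ _
  have hcp : ∀ v w : Q, Commute (D.part a v) (D.part a w) := fun v w => by
    nth_rewrite 2 [Data.part]
    split
    · exact Commute.one_right _
    · exact hc _ _
  have hA : Commute A (P₃ * P₂ * P₁ * (MulAut.conj v₁ * MulAut.conj v₂ * MulAut.conj v₃)) :=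
    (((hc v₃ a).symm.mul_right (hc v₂ a).symm).mul_right (hc v₁ a).symm).mul_right
      (((D.inn_comm a v₁).mul_right (D.inn_comm a v₂)).mul_right (D.inn_comm a v₃))
  rw [mul_assoc A, hA.eq, mul_assoc, D.inn_sq, mul_one,
    show P₃ * P₂ * P₁ = P₁ * P₂ * P₃ by
      rw [((hcp v₃ v₁).mul_left (hcp v₂ v₁)).eq, (hcp v₃ v₂).eq, mul_assoc],
    ((hc v₃ v₁).mul_right (hc v₃ v₂)).mul_mul_mul_comm, (hc v₂ v₁).mul_mul_mul_comm] at h4
  simp only [hP1, hP2, hP3, Data.part] at h4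
  by_cases ha1 : Commute a v₁ <;> by_cases ha2 : Commute a v₂ <;> by_cases ha3 : Commute a v₃ <;>
    simp only [ha1, ha2, ha3, if_true, if_false, one_mul, mul_one, D.inn_sq, ← map_mul,
      D.conj_eq_one] at h4 ⊢
  all_goals first
    | exact ⟨not_false, not_false, not_false⟩
    | exact absurd h4 n123
    | exact absurd h4 n12
    | exact absurd h4 n13
    | exact absurd h4 n23
    | exact absurd h4 n1
    | exact absurd h4 n2
    | exact absurd h4 n3

omit D in
theorem cancel_aux {G : Type*} [CommGroup G] {A C a b c : G}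
    (h : A * (a * b * c) * (C * (a * b * c) * c) = C * c * (A * c * (a * b * c))) : a * b = 1 :=
  mul_left_cancel (a := A * C * (a * b) * (c * c * c)) <|
    calc A * C * (a * b) * (c * c * c) * (a * b) = A * (a * b * c) * (C * (a * b * c) * c) := by ac_rfl
      _ = C * c * (A * c * (a * b * c)) := h
      _ = _ := by rw [mul_one]; ac_rfl

open Classical in
theorem Data.no_lift {v₁ v₂ v₃ a c : Q} (h1 : v₁ * v₁ = z) (h2 : v₂ * v₂ = z) (h3 : v₃ * v₃ = z)
    (h4 : v₁ * v₂ * v₃ * (v₁ * v₂ * v₃) = z)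
    (c12 : Commute v₁ v₂) (c13 : Commute v₁ v₃) (c23 : Commute v₂ v₃)
    (n1 : v₁ ∉ Subgroup.center Q) (n2 : v₂ ∉ Subgroup.center Q) (n3 : v₃ ∉ Subgroup.center Q)
    (n12 : v₁ * v₂ ∉ Subgroup.center Q) (n13 : v₁ * v₃ ∉ Subgroup.center Q)
    (n23 : v₂ * v₃ ∉ Subgroup.center Q) (n123 : v₁ * v₂ * v₃ ∉ Subgroup.center Q)
    (hA : D.tau v₁ h1 * D.tau v₂ h2 * D.tau v₃ h3 * MulAut.conj a *
      (D.tau v₁ h1 * D.tau v₂ h2 * D.tau v₃ h3 * MulAut.conj a) = 1)
    (hB : D.tau v₁ h1 * D.tau v₂ h2 * D.tau (v₁ * v₂ * v₃) h4 * MulAut.conj c *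
      (D.tau v₁ h1 * D.tau v₂ h2 * D.tau (v₁ * v₂ * v₃) h4 * MulAut.conj c) = 1)
    (hAB : Commute (D.tau v₁ h1 * D.tau v₂ h2 * D.tau v₃ h3 * MulAut.conj a)
      (D.tau v₁ h1 * D.tau v₂ h2 * D.tau (v₁ * v₂ * v₃) h4 * MulAut.conj c)) : False := by
  have c14 : Commute v₁ (v₁ * v₂ * v₃) := ((Commute.refl v₁).mul_right c12).mul_right c13
  have c24 : Commute v₂ (v₁ * v₂ * v₃) := (c12.symm.mul_right (Commute.refl v₂)).mul_right c23
  have c34 : Commute v₃ (v₁ * v₂ * v₃) := (c13.symm.mul_right c23.symm).mul_right (Commute.refl v₃)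
  have hz : ∀ x, z * x ∈ Subgroup.center Q ↔ x ∈ Subgroup.center Q := fun x =>
    mul_mem_cancel_left D.mem
  obtain ⟨a1, a2, a3⟩ := D.all_anti h1 h2 h3 c12 c13 c23 n1 n2 n3 n12 n13 n23 n123 hA
  obtain ⟨c1, c2, c4⟩ := D.all_anti h1 h2 h4 c12 c14 c24 n1 n2 n123 n12
    (fun h => n23 ((hz _).1 (by
      rwa [show v₁ * (v₁ * v₂ * v₃) = z * (v₂ * v₃) by
        rw [← mul_assoc, ← mul_assoc, h1, mul_assoc]] at h)))
    (fun h => n13 ((hz _).1 (by
      rwa [show v₂ * (v₁ * v₂ * v₃) = z * (v₁ * v₃) by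
        rw [← mul_assoc, ← mul_assoc, c12.symm.eq, mul_assoc v₁, h2, (D.z_comm v₁).eq, mul_assoc]] at h)))
    (fun h => n3 (by
      rwa [show v₁ * v₂ * (v₁ * v₂ * v₃) = v₃ by
        rw [← mul_assoc, c12.symm.mul_mul_mul_comm, h1, h2, D.zz, one_mul]] at h))
    hB
  have a4 : ¬ Commute a (v₁ * v₂ * v₃) := fun h => by
    have h' := h.symm
    rw [D.commute_mul, D.commute_mul] at h'
    simp [Commute.symm_iff (a := v₁), Commute.symm_iff (a := v₂), Commute.symm_iff (a := v₃), a1, a2, a3] at h'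
  have c3 : ¬ Commute c v₃ := fun h => by
    refine c4 (Commute.symm ?_)
    rw [D.commute_mul, D.commute_mul]
    simp [Commute.symm_iff (a := v₁), Commute.symm_iff (a := v₂), Commute.symm_iff (a := v₃), c1, c2, h]
  set α := D.tau v₁ h1 * D.tau v₂ h2 * D.tau v₃ h3 with hα
  set β := D.tau v₁ h1 * D.tau v₂ h2 * D.tau (v₁ * v₂ * v₃) h4 with hβ
  set P := MulAut.conj v₁ * MulAut.conj v₂ * MulAut.conj v₃ with hP
  have hP4 : MulAut.conj v₁ * MulAut.conj v₂ * MulAut.conj (v₁ * v₂ * v₃) = MulAut.conj v₃ := by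
    rw [map_mul, map_mul, ← mul_assoc (MulAut.conj v₁ * MulAut.conj v₂), (D.inn_comm v₁ v₂).symm.mul_mul_mul_comm,
      D.inn_sq, D.inn_sq, one_mul, one_mul]
  have hrev : ∀ x y w : Q, MulAut.conj w * MulAut.conj y * MulAut.conj x
      = MulAut.conj x * MulAut.conj y * MulAut.conj w := fun x y w => by
    rw [((D.inn_comm w x).mul_left (D.inn_comm y x)).eq, (D.inn_comm w y).eq, mul_assoc]
  have hαa : MulAut.conj (α a) = MulAut.conj a * P := by
    rw [hα, D.conj_triple h1 h2 h3 c12 c13 c23]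
    simp only [Data.part, a1, a2, a3, if_false]
    rw [hrev]
  have hβa : MulAut.conj (β a) = MulAut.conj a * MulAut.conj v₃ := by
    rw [hβ, D.conj_triple h1 h2 h4 c12 c14 c24]
    simp only [Data.part, a1, a2, a4, if_false]
    rw [hrev, hP4]
  have hαc : MulAut.conj (α c) = MulAut.conj c * P := by
    rw [hα, D.conj_triple h1 h2 h3 c12 c13 c23]
    simp only [Data.part, c1, c2, c3, if_false]
    rw [hrev]
  have hβc : MulAut.conj (β c) = MulAut.conj c * MulAut.conj v₃ := by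
    rw [hβ, D.conj_triple h1 h2 h4 c12 c14 c24]
    simp only [Data.part, c1, c2, c4, if_false]
    rw [hrev, hP4]
  have hfix : α v₃ = v₃ ∧ β v₁ = v₁ ∧ β v₂ = v₂ ∧ β v₃ = v₃ := by
    refine ⟨?_, ?_, ?_, ?_⟩ <;>
      simp [hα, hβ, MulAut.mul_apply, D.tau_fix, c12, c13, c23, c14, c24, c34, c12.symm, c13.symm,
        c23.symm, Commute.refl]
  have hcc : Commute α β := by
    have e11 := Commute.refl (D.tau v₁ h1)
    have e22 := Commute.refl (D.tau v₂ h2)
    have e12 := D.tau_comm h1 h2 c12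
    have e13 := D.tau_comm h1 h3 c13
    have e23 := D.tau_comm h2 h3 c23
    have e14 := D.tau_comm h1 h4 c14
    have e24 := D.tau_comm h2 h4 c24
    have e34 := D.tau_comm h3 h4 c34
    exact (((e11.mul_right e12).mul_right e14).mul_left ((e12.symm.mul_right e22).mul_right e24)).mul_left
      ((e13.symm.mul_right e23.symm).mul_right e34)
  have key : ∀ (γ δ : MulAut Q) (x y : Q), γ * MulAut.conj x * (δ * MulAut.conj y)
      = MulAut.conj (γ x) * MulAut.conj (γ (δ y)) * (γ * δ) := fun γ δ x y => by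
    rw [mul_conj_eq γ x, mul_conj_eq δ y, mul_assoc, ← mul_assoc γ, mul_conj_eq γ (δ y), mul_assoc,
      ← mul_assoc]
  have hmul : ∀ (γ : MulAut Q) (x y w : Q), MulAut.conj x = MulAut.conj y * MulAut.conj w →
      MulAut.conj (γ x) = MulAut.conj (γ y) * MulAut.conj (γ w) := fun γ x y w h => by
    have h' : γ * MulAut.conj x = γ * MulAut.conj (y * w) := by rw [map_mul, h]
    rw [mul_conj_eq, mul_conj_eq, map_mul γ, map_mul] at h'
    exact mul_right_cancel h'
  have h5 := hAB.eq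
  rw [key, key, hcc.eq] at h5
  have h6 := mul_right_cancel h5
  have e1 : MulAut.conj (α (β c)) = MulAut.conj c * P * MulAut.conj v₃ := by
    rw [hmul α _ _ _ hβc, hαc, hfix.1]
  have e2 : MulAut.conj (β (α a)) = MulAut.conj a * MulAut.conj v₃ * P := by
    rw [hmul β (α a) a (v₁ * v₂ * v₃) (by rw [hαa, hP, map_mul, map_mul]), hβa, map_mul β, map_mul β,
      hfix.2.1, hfix.2.2.1, hfix.2.2.2, hP, map_mul, map_mul]
  rw [hαa, e1, hβc, e2, hP] at h6
  letI iI : CommGroup (Inn Q) :=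
    { (inferInstance : Group (Inn Q)) with
      mul_comm := by
        rintro ⟨_, x, rfl⟩ ⟨_, y, rfl⟩
        exact Subtype.ext (D.inn_comm x y).eq }
  set J : Q → Inn Q := fun x => ⟨MulAut.conj x, x, rfl⟩ with hJ
  have h6' : J a * (J v₁ * J v₂ * J v₃) * (J c * (J v₁ * J v₂ * J v₃) * J v₃)
      = J c * J v₃ * (J a * J v₃ * (J v₁ * J v₂ * J v₃)) := Subtype.ext h6
  have h8 := congrArg Subtype.val (cancel_aux h6')
  refine n12 (D.conj_eq_one.1 ?_)
  rw [map_mul]
  exact h8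

omit D in
/-- Three pairwise commuting elements with square `z`, independent modulo the centre. -/
theorem exists_triple [Finite Q] {z : Q} (D : Data z) (E : Subgroup Q)
    (hab : ∀ x ∈ E, ∀ y ∈ E, Commute x y) (hsq : ∀ x ∈ E, x * x = 1) (hE : 16 ≤ Nat.card E) :
    ∃ v₁ v₂ v₃ : Q, v₁ * v₁ = z ∧ v₂ * v₂ = z ∧ v₃ * v₃ = z ∧
      v₁ * v₂ * v₃ * (v₁ * v₂ * v₃) = z ∧ Commute v₁ v₂ ∧ Commute v₁ v₃ ∧ Commute v₂ v₃ ∧
      v₁ ∉ Subgroup.center Q ∧ v₂ ∉ Subgroup.center Q ∧ v₃ ∉ Subgroup.center Q ∧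
      v₁ * v₂ ∉ Subgroup.center Q ∧ v₁ * v₃ ∉ Subgroup.center Q ∧
      v₂ * v₃ ∉ Subgroup.center Q ∧ v₁ * v₂ * v₃ ∉ Subgroup.center Q := by
  classical
  haveI := Fintype.ofFinite E
  have pick : ∀ v w : Q, ∃ e ∈ E, e ∉ Subgroup.center Q ∧ Commute e v ∧ Commute e w := by
    intro v w
    obtain ⟨b, -, hb⟩ := Finset.exists_lt_card_fiber_of_mul_lt_card_of_maps_to (n := 3)
      (s := (Finset.univ : Finset E)) (t := (Finset.univ : Finset (Bool × Bool)))
      (f := fun x : E => (decide (Commute (x : Q) v), decide (Commute (x : Q) w)))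
      (fun x _ => Finset.mem_univ _) (by
        rw [Finset.card_univ, Finset.card_univ, ← Nat.card_eq_fintype_card]
        simp
        have hc4 := Nat.card_eq_fintype_card (α := E)
        omega)
    obtain ⟨x, hx⟩ := Finset.card_pos.1 (Nat.zero_lt_of_lt hb)
    obtain ⟨y, hy, y', hy', hne⟩ := Finset.one_lt_card.1 (show 1 < (Finset.erase _ x).card by
      rw [Finset.card_erase_of_mem hx]; omega)
    rw [Finset.mem_erase, Finset.mem_filter] at hy hy'
    rw [Finset.mem_filter] at hx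
    have main : ∀ y : E, y ≠ x → (decide (Commute (y : Q) v), decide (Commute (y : Q) w)) = b →
        Commute ((x : Q) * y) v ∧ Commute ((x : Q) * y) w ∧ (x : Q) * y ≠ 1 := by
      intro y hyx hyb
      have h := hx.2.trans hyb.symm
      rw [Prod.ext_iff, decide_eq_decide, decide_eq_decide] at h
      refine ⟨D.commute_mul.2 h.1, D.commute_mul.2 h.2, fun h1 => hyx (Subtype.ext ?_)⟩
      exact mul_left_cancel (h1.trans (hsq x x.2).symm)
    obtain ⟨p1, p2, p3⟩ := main y hy.1 hy.2.2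
    obtain ⟨q1, q2, q3⟩ := main y' hy'.1 hy'.2.2
    by_cases hc : (x : Q) * y ∈ Subgroup.center Q
    · refine ⟨(x : Q) * y', E.mul_mem x.2 y'.2, fun hc' => ?_, q1, q2⟩
      exact hne (Subtype.ext (mul_left_cancel
        (((D.center _ hc).resolve_left p3).trans ((D.center _ hc').resolve_left q3).symm)))
    · exact ⟨(x : Q) * y, E.mul_mem x.2 y.2, hc, p1, p2⟩
  have partner : ∀ e : Q, e ∉ Subgroup.center Q → ∃ f, ¬ Commute f e := by
    intro e he
    by_contra h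
    simp only [not_exists, not_not] at h
    exact he (Subgroup.mem_center_iff.2 h)
  have fix_ : ∀ f v y : Q, ¬ Commute y v → ∃ g, Commute g v ∧
      (∀ u, Commute y u → (Commute g u ↔ Commute f u)) := by
    intro f v y hy
    by_cases hf : Commute f v
    · exact ⟨f, hf, fun u _ => Iff.rfl⟩
    · exact ⟨f * y, D.commute_mul.2 (iff_of_false hf hy), fun u hu =>
        D.commute_mul.trans (iff_iff_eq.2 (by simp [hu]))⟩
  have square : ∀ e f : Q, e * e = 1 → ¬ Commute f e → ∃ v, v * v = z ∧ ¬ Commute v e ∧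
      ∀ u, Commute e u → Commute f u → Commute v u := by
    intro e f he hf
    rcases D.sq f with h | h
    · refine ⟨e * f, ?_, fun hc => hf ?_, fun u h1 h2 => h1.mul_left h2⟩
      · rw [mul_assoc, ← mul_assoc f e f, D.anti f e hf, mul_assoc z, mul_assoc e f f, h, mul_one,
          (D.z_comm e).symm.eq, ← mul_assoc, he, one_mul]
      · exact (D.commute_mul.1 hc).1 (Commute.refl e)
    · exact ⟨f, h, hf, fun u _ h2 => h2⟩
  obtain ⟨e₁, he₁, he₁z, -, -⟩ := pick 1 1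
  obtain ⟨f₁, hf₁⟩ := partner e₁ he₁z
  obtain ⟨v₁, hv₁, hv₁e, -⟩ := square e₁ f₁ (hsq _ he₁) hf₁
  obtain ⟨e₂, he₂, he₂z, he₂v₁, -⟩ := pick v₁ 1
  obtain ⟨f₂, hf₂⟩ := partner e₂ he₂z
  obtain ⟨g₂, hg₂v, hg₂⟩ := fix_ f₂ v₁ e₁ (fun h => hv₁e h.symm)
  obtain ⟨k₂, hk₂e, hk₂⟩ := fix_ g₂ e₁ v₁ hv₁e
  obtain ⟨v₂, hv₂, hv₂e, hv₂c⟩ := square e₂ k₂ (hsq _ he₂)
    (fun h => hf₂ ((hg₂ e₂ (hab _ he₁ _ he₂)).1 ((hk₂ e₂ he₂v₁.symm).1 h)))
  have c12 : Commute v₁ v₂ := (hv₂c v₁ he₂v₁ ((hk₂ v₁ (Commute.refl _)).2 hg₂v)).symm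
  have hv₂e₁ : Commute v₂ e₁ := hv₂c e₁ (hab _ he₂ _ he₁) hk₂e
  obtain ⟨e₃, he₃, he₃z, he₃v₁, he₃v₂⟩ := pick v₁ v₂
  obtain ⟨f₃, hf₃⟩ := partner e₃ he₃z
  obtain ⟨g₃, hg₃v, hg₃⟩ := fix_ f₃ v₁ e₁ (fun h => hv₁e h.symm)
  obtain ⟨k₃, hk₃v, hk₃⟩ := fix_ g₃ v₂ e₂ (fun h => hv₂e h.symm)
  obtain ⟨v₃, hv₃, hv₃e, hv₃c⟩ := square e₃ k₃ (hsq _ he₃)
    (fun h => hf₃ ((hg₃ e₃ (hab _ he₁ _ he₃)).1 ((hk₃ e₃ (hab _ he₂ _ he₃)).1 h)))
  have c13 : Commute v₁ v₃ := (hv₃c v₁ he₃v₁ ((hk₃ v₁ he₂v₁).2 hg₃v)).symm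
  have c23 : Commute v₂ v₃ := (hv₃c v₂ he₃v₂ hk₃v).symm
  have nc : ∀ {x e : Q}, ¬ Commute x e → x ∉ Subgroup.center Q := fun h hx =>
    h (Subgroup.mem_center_iff.1 hx _).symm
  refine ⟨v₁, v₂, v₃, hv₁, hv₂, hv₃, ?_, c12, c13, c23, nc hv₁e, nc hv₂e, nc hv₃e, ?_, ?_, ?_, ?_⟩
  · rw [(c13.mul_left c23).symm.mul_mul_mul_comm, c12.symm.mul_mul_mul_comm, hv₁, hv₂, hv₃, D.zz, one_mul]
  · exact nc fun h => hv₂e ((D.commute_mul.1 h).1 he₂v₁.symm)
  · exact nc fun h => hv₃e ((D.commute_mul.1 h).1 he₃v₁.symm)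
  · exact nc fun h => hv₃e ((D.commute_mul.1 h).1 he₃v₂.symm)
  · exact nc fun h => hv₃e ((D.commute_mul.1 h).1 (he₃v₁.symm.mul_left he₃v₂.symm))

omit D in
/-- The inner automorphism group of a plus type extraspecial 2-group of order at least `2 ^ 7` has no
complement. -/
theorem main [Finite Q] (n : ℕ) (hn : 3 ≤ n) (hQ : IsExtraspecial 2 Q)
    (hplus : ∃ E : Subgroup Q, IsElementaryAbelian 2 E ∧ Nat.card ↥E = 2 ^ (n + 1))
    (L : Subgroup (MulAut Q)) : ¬ (Inn Q).IsComplement' L := by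
  intro hL
  obtain ⟨z₀, hz₀, huniq⟩ : ∃ z₀ ∈ Subgroup.center Q, z₀ ≠ 1 ∧ ∀ x ∈ Subgroup.center Q, x = 1 ∨ x = z₀ := by
    obtain ⟨a, b, hab, huniv⟩ := Nat.card_eq_two_iff.1 hQ.2
    have key : ∀ x : Subgroup.center Q, x = a ∨ x = b := fun x => by
      have := Set.eq_univ_iff_forall.1 huniv x
      simpa using this
    rcases key 1 with h | h
    · exact ⟨b, b.2, fun hb => hab (h.symm.trans (Subtype.ext hb.symm)), fun x hx =>
        (key ⟨x, hx⟩).imp (fun e => (congrArg Subtype.val (e.trans h.symm))) (congrArg Subtype.val)⟩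
    · exact ⟨a, a.2, fun ha => hab ((Subtype.ext ha).trans h), fun x hx =>
        ((key ⟨x, hx⟩).imp (congrArg Subtype.val) (fun e => congrArg Subtype.val (e.trans h.symm))).symm⟩
  have D : Data z₀ :=
    { ne := huniq.1
      mem := hz₀
      center := huniq.2
      sq := fun x => huniq.2 _ (by rw [← pow_two]; exact Cfsg.Agent.Solv.extraspecial_pow_mem_center hQ x)
      anti := fun x y h => by
        have hc : x * y * x⁻¹ * y⁻¹ ∈ Subgroup.center Q := hQ.1.2.2 ▸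
          Subgroup.commutator_mem_commutator (Subgroup.mem_top x) (Subgroup.mem_top y)
        rcases huniq.2 _ hc with h1 | h1
        · rw [mul_inv_eq_one, mul_inv_eq_iff_eq_mul] at h1
          exact absurd h1 h
        · rw [← h1]; group }
  obtain ⟨E, hE, hcE⟩ := hplus
  have hab : ∀ x ∈ E, ∀ y ∈ E, Commute x y := fun x hx y hy => congrArg Subtype.val (hE.1.1.1 ⟨x, hx⟩ ⟨y, hy⟩)
  obtain ⟨v₁, v₂, v₃, h1, h2, h3, h4, c12, c13, c23, n1, n2, n3, n12, n13, n23, n123⟩ :=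
    exists_triple D E hab (fun x hx => by rw [← pow_two]; exact hE.2 x hx)
      (hcE ▸ le_trans (by norm_num) (Nat.pow_le_pow_right (by norm_num : 0 < 2) (by omega : 4 ≤ n + 1)))
  have lift : ∀ γ : MulAut Q, ∃ a, γ * MulAut.conj a ∈ L := by
    intro γ
    obtain ⟨⟨⟨i, hi⟩, ⟨l, hl⟩⟩, h⟩ := hL.2 γ⁻¹
    obtain ⟨a, rfl⟩ := hi
    refine ⟨a, ?_⟩
    have h' : l⁻¹ = γ * MulAut.conj a := by
      rw [← inv_inv γ, ← show MulAut.conj a * l = γ⁻¹ from h, mul_inv_rev, inv_mul_cancel_right]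
    exact h' ▸ L.inv_mem hl
  have hone : ∀ {l : MulAut Q}, l ∈ L → l ∈ Inn Q → l = 1 := fun hl hi =>
    Subgroup.mem_bot.1 (hL.disjoint.le_bot ⟨hi, hl⟩)
  have hnorm : ∀ (γ : MulAut Q) (i : MulAut Q), i ∈ Inn Q → γ * i * γ⁻¹ ∈ Inn Q := by
    rintro γ _ ⟨x, rfl⟩
    exact ⟨γ x, by rw [mul_conj_eq, mul_inv_cancel_right]⟩
  obtain ⟨a, ha⟩ := lift (D.tau v₁ h1 * D.tau v₂ h2 * D.tau v₃ h3)
  obtain ⟨c, hc⟩ := lift (D.tau v₁ h1 * D.tau v₂ h2 * D.tau (v₁ * v₂ * v₃) h4)
  have c14 : Commute v₁ (v₁ * v₂ * v₃) := ((Commute.refl v₁).mul_right c12).mul_right c13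
  have c24 : Commute v₂ (v₁ * v₂ * v₃) := (c12.symm.mul_right (Commute.refl v₂)).mul_right c23
  have c34 : Commute v₃ (v₁ * v₂ * v₃) := (c13.symm.mul_right c23.symm).mul_right (Commute.refl v₃)
  have hsqI : ∀ (γ : MulAut Q) (x : Q), γ * γ ∈ Inn Q → γ * MulAut.conj x * (γ * MulAut.conj x) ∈ Inn Q := by
    intro γ x h
    have e : γ * MulAut.conj x * (γ * MulAut.conj x)
        = MulAut.conj (γ x) * (γ * γ) * MulAut.conj x := by
      calc _ = MulAut.conj (γ x) * γ * (γ * MulAut.conj x) := by rw [← mul_conj_eq]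
        _ = _ := by simp only [mul_assoc]
    rw [e]
    exact mul_mem (mul_mem ⟨_, rfl⟩ h) ⟨_, rfl⟩
  refine D.no_lift h1 h2 h3 h4 c12 c13 c23 n1 n2 n3 n12 n13 n23 n123
    (hone (L.mul_mem ha ha) (hsqI _ _ ?_)) (hone (L.mul_mem hc hc) (hsqI _ _ ?_)) ?_
  · exact ⟨_, (D.triple_sq h1 h2 h3 c12 c13 c23).symm⟩
  · exact ⟨_, (D.triple_sq h1 h2 h4 c12 c14 c24).symm⟩
  · set α := D.tau v₁ h1 * D.tau v₂ h2 * D.tau v₃ h3
    set β := D.tau v₁ h1 * D.tau v₂ h2 * D.tau (v₁ * v₂ * v₃) h4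
    have hcc : Commute α β := by
      have e12 := D.tau_comm h1 h2 c12
      exact ((((Commute.refl (D.tau v₁ h1)).mul_right e12).mul_right (D.tau_comm h1 h4 c14)).mul_left
        ((e12.symm.mul_right (Commute.refl _)).mul_right (D.tau_comm h2 h4 c24))).mul_left
        (((D.tau_comm h1 h3 c13).symm.mul_right (D.tau_comm h2 h3 c23).symm).mul_right (D.tau_comm h3 h4 c34))
    have h := hone (L.mul_mem (L.mul_mem (L.mul_mem ha hc) (L.inv_mem ha)) (L.inv_mem hc)) ?_
    · rw [mul_inv_eq_one, mul_inv_eq_iff_eq_mul] at h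
      exact h
    have e : α * MulAut.conj a * (β * MulAut.conj c) * (α * MulAut.conj a)⁻¹ * (β * MulAut.conj c)⁻¹
        = α * MulAut.conj a * α⁻¹ * ((α * β) * (MulAut.conj c * (MulAut.conj a)⁻¹) * (α * β)⁻¹)
          * (α * β * α⁻¹ * β⁻¹) * (β * (MulAut.conj c)⁻¹ * β⁻¹) := by group
    rw [e, hcc.eq, mul_inv_cancel_right, mul_inv_cancel, mul_one]
    exact mul_mem (mul_mem (hnorm _ _ ⟨_, rfl⟩) (hnorm _ _ (mul_mem ⟨_, rfl⟩ (inv_mem ⟨_, rfl⟩))))
      (hnorm _ _ (inv_mem ⟨_, rfl⟩))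

end Cfsg.Agent.Local.XNonsplit
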