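import Mathlib.GroupTheory.PGroup
import Mathlib.Algebra.Group.End
import Mathlib.FieldTheory.Finite.Basic
import Mathlib.Tactic.Group

/-!
# Automorphism groups of abelian `p`-groups generated by an element fixing a hyperplane

`G` is a group of automorphisms of an abelian `p`-group `V` all of whose `p`-subgroups have order at
most `p`, and `a ∈ G` of order `p` fixes a subgroup of index `p` and generates a non-normal subgroup.
-/

set_option autoImplicit false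

namespace Cfsg.Agent.Local.TransPair

variable {V : Type*} [CommGroup V] {p : ℕ}

/-- The elements fixed by an automorphism. -/
def fixSub (a : MulAut V) : Subgroup V where
  carrier := {x | a x = x}
  one_mem' := map_one a
  mul_mem' := fun {x y} hx hy => show a (x * y) = x * y by rw [map_mul, show a x = x from hx, show a y = y from hy]
  inv_mem' := fun {x} hx => show a x⁻¹ = x⁻¹ by rw [map_inv, show a x = x from hx]

theorem mem_fixSub {a : MulAut V} {x : V} : x ∈ fixSub a ↔ a x = x := Iff.rfl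

theorem mem_fixSub_conj {γ a : MulAut V} {x : V} :
    x ∈ fixSub (γ * a * γ⁻¹) ↔ γ⁻¹ x ∈ fixSub a := by
  rw [mem_fixSub, mem_fixSub, MulAut.mul_apply, MulAut.mul_apply]
  exact ⟨fun h => γ.injective (h.trans (MulAut.apply_inv_self _ γ x).symm),
    fun h => by rw [h]; exact MulAut.apply_inv_self _ γ x⟩

theorem diff_conj (γ a : MulAut V) (x : V) :
    x⁻¹ * (γ * a * γ⁻¹) x = γ ((γ⁻¹ x)⁻¹ * a (γ⁻¹ x)) := by
  rw [map_mul, map_inv, MulAut.apply_inv_self]; rfl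

theorem pow_apply {a : MulAut V} {x : V} (h : a (x⁻¹ * a x) = x⁻¹ * a x) :
    ∀ n : ℕ, (a ^ n) x = x * (x⁻¹ * a x) ^ n := by
  intro n
  induction n with
  | zero => simp
  | succ n ih =>
    rw [pow_succ', MulAut.mul_apply, ih, map_mul, map_pow, h, pow_succ', ← mul_assoc x (x⁻¹ * a x),
      mul_inv_cancel_left]

/-- Automorphisms fixing `K` pointwise and moving every element only within `L`. -/
def stab (K L : Subgroup V) : Subgroup (MulAut V) where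
  carrier := {α | (∀ x ∈ K, α x = x) ∧ ∀ x, x⁻¹ * α x ∈ L}
  one_mem' := ⟨fun _ _ => rfl, fun x => by
    show x⁻¹ * x ∈ L
    rw [inv_mul_cancel]; exact L.one_mem⟩
  mul_mem' := fun {α β} hα hβ => ⟨fun x hx => show α (β x) = x by rw [hβ.1 x hx, hα.1 x hx],
    fun x => by
      have := L.mul_mem (hβ.2 x) (hα.2 (β x))
      show x⁻¹ * α (β x) ∈ L
      simpa [mul_assoc] using this⟩
  inv_mem' := fun {α} hα => ⟨fun x hx => by
      conv_lhs => rw [← hα.1 x hx]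
      exact MulAut.inv_apply_self _ α x,
    fun x => by
      have := L.inv_mem (hα.2 (α⁻¹ x))
      rw [MulAut.apply_inv_self, mul_inv_rev, inv_inv] at this
      exact this⟩

theorem isPGroup_stab (hV : IsPGroup p V) {K L : Subgroup V} (hLK : L ≤ K) [Finite V] [Fact p.Prime] :
    IsPGroup p ↥(stab K L) := by
  obtain ⟨m, hm⟩ := IsPGroup.iff_card.1 hV
  rintro ⟨α, hα⟩
  refine ⟨m, Subtype.ext (MulEquiv.ext fun x => ?_)⟩
  show (α ^ p ^ m) x = x
  rw [pow_apply (hα.1 _ (hLK (hα.2 x))), ← hm, pow_card_eq_one', mul_one]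

theorem mem_zpowers_swap [Fact p.Prime] {G : Type*} [Group G] {x y : G} (hy : y ^ p = 1)
    (hx : x ≠ 1) (h : x ∈ Subgroup.zpowers y) : y ∈ Subgroup.zpowers x := by
  have hy1 : y ≠ 1 := by
    rintro rfl
    rw [Subgroup.zpowers_one_eq_bot, Subgroup.mem_bot] at h
    exact hx h
  have hc : Nat.card ↥(Subgroup.zpowers y) = p := by
    rw [Nat.card_zpowers]; exact orderOf_eq_prime hy hy1
  have := mem_zpowers_of_prime_card (p := p) hc (g := ⟨x, h⟩) (g' := ⟨y, Subgroup.mem_zpowers y⟩)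
    (fun e => hx (congrArg Subtype.val e))
  obtain ⟨k, hk⟩ := this
  exact ⟨k, congrArg Subtype.val hk⟩

theorem exists_npow [Fact p.Prime] {G : Type*} [Group G] {z y : G} (hz : z ^ p = 1)
    (h : y ∈ Subgroup.zpowers z) : ∃ m : ℕ, z ^ m = y :=
  (isOfFinOrder_iff_pow_eq_one.2 ⟨p, (Fact.out : p.Prime).pos, hz⟩).mem_powers_iff_mem_zpowers.2 h

theorem pow_of_mem_zpowers {G : Type*} [Group G] {z y : G} {n : ℕ} (hz : z ^ n = 1)
    (h : y ∈ Subgroup.zpowers z) : y ^ n = 1 := by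
  obtain ⟨k, rfl⟩ := h
  show (z ^ k) ^ n = 1
  rw [← zpow_natCast, ← zpow_mul, mul_comm, zpow_mul, zpow_natCast, hz, one_zpow]

variable (p) in
/-- The setting: `a` moves elements within `⟨u⟩`. -/
structure Datum (G : Subgroup (MulAut V)) (a : MulAut V) (u : V) : Prop where
  isP : IsPGroup p V
  mem : a ∈ G
  pow : a ^ p = 1
  ne : a ≠ 1
  fa : ∀ P : Subgroup (MulAut V), P ≤ G → IsPGroup p ↥P → Nat.card ↥P ≤ p
  u_pow : u ^ p = 1
  u_ne : u ≠ 1
  u_fix : a u = u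
  diff : ∀ x : V, x⁻¹ * a x ∈ Subgroup.zpowers u

/-- The conclusion: `V` is the product of `⟨u, w⟩` and `C`, both invariant. -/
structure Pair (G : Subgroup (MulAut V)) (a : MulAut V) (u w : V) (C : Subgroup V) : Prop where
  w_notMem : a w ≠ w
  u_notMem : u ∉ C
  C_fix : ∀ c ∈ C, a c = c
  decomp : ∀ x : V, ∃ i j : ℕ, ∃ c ∈ C, x = u ^ i * w ^ j * c
  fix_decomp : ∀ x : V, a x = x → ∃ i : ℕ, ∃ c ∈ C, x = u ^ i * c
  C_inv : ∀ γ ∈ G, ∀ c ∈ C, γ c ∈ C
  W_inv : ∀ γ ∈ G, ∀ x ∈ Subgroup.zpowers u ⊔ Subgroup.zpowers w,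
    γ x ∈ Subgroup.zpowers u ⊔ Subgroup.zpowers w
  exists_normalizing : ∀ γ ∈ G, ∃ n ∈ G, n * a * n⁻¹ ∈ Subgroup.zpowers a ∧ ∀ c ∈ C, n c = γ c

variable [Finite V] [Fact p.Prime] {G : Subgroup (MulAut V)} {a : MulAut V} {u : V}

theorem exists_datum (hV : IsPGroup p V) (ha : a ∈ G) (hap : a ^ p = 1) (ha1 : a ≠ 1)
    (hfa : ∀ P : Subgroup (MulAut V), P ≤ G → IsPGroup p ↥P → Nat.card ↥P ≤ p)
    (hidx : (fixSub a).index = p) :
    ∃ u, Datum p G a u := by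
  have hp : p.Prime := Fact.out
  let δ : V →* V := MonoidHom.mk' (fun x => x⁻¹ * a x) fun x y => by
    rw [map_mul, mul_inv]; exact mul_mul_mul_comm _ _ _ _
  have hker : δ.ker = fixSub a := by
    ext x
    rw [MonoidHom.mem_ker, mem_fixSub, show δ x = x⁻¹ * a x from rfl, inv_mul_eq_one, eq_comm]
  have hcard : Nat.card ↥δ.range = p := by rw [← Subgroup.index_ker, hker, hidx]
  obtain ⟨x₀, hx₀⟩ : ∃ x, δ x ≠ 1 := by
    by_contra h
    simp only [not_exists, not_not] at h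
    refine ha1 (MulEquiv.ext fun x => ?_)
    exact (inv_mul_eq_one.1 (h x)).symm
  set u := δ x₀ with hu
  have hup : u ^ p = 1 := by
    have := congrArg Subtype.val
      (pow_card_eq_one' (x := (⟨u, x₀, rfl⟩ : δ.range)))
    rwa [hcard] at this
  have hdiff : ∀ x, δ x ∈ Subgroup.zpowers u := by
    intro x
    obtain ⟨k, hk⟩ := mem_zpowers_of_prime_card (p := p) hcard (g := (⟨u, x₀, rfl⟩ : δ.range))
      (g' := (⟨δ x, x, rfl⟩ : δ.range)) (fun e => hx₀ (congrArg Subtype.val e))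
    exact ⟨k, congrArg Subtype.val hk⟩
  obtain ⟨k, hk⟩ := exists_npow hup (hdiff u)
  have hau : a u = u ^ (k + 1) := by
    rw [pow_succ', hk]; exact (mul_inv_cancel_left _ _).symm
  have hiter : ∀ n : ℕ, (a ^ n) u = u ^ ((k + 1) ^ n) := by
    intro n
    induction n with
    | zero => simp
    | succ n ih => rw [pow_succ', MulAut.mul_apply, ih, map_pow, hau, ← pow_mul, ← pow_succ']
  have hmod : (k + 1) ^ p ≡ k + 1 [MOD p] := by
    rw [← ZMod.natCast_eq_natCast_iff, Nat.cast_pow, ZMod.pow_card]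
  refine ⟨u, hV, ha, hap, ha1, hfa, hup, hx₀, ?_, hdiff⟩
  have h1 := hiter p
  rw [hap] at h1
  rw [hau, ← pow_eq_pow_iff_modEq.2 (show (k + 1) ^ p ≡ k + 1 [MOD orderOf u] by
    rwa [orderOf_eq_prime hup hx₀]), ← h1]
  rfl

variable (D : Datum p G a u)
include D

theorem Datum.apply_pow (x : V) (n : ℕ) : (a ^ n) x = x * (x⁻¹ * a x) ^ n := by
  refine pow_apply ?_ n
  obtain ⟨k, hk⟩ := exists_npow D.u_pow (D.diff x)
  rw [← hk, map_pow, D.u_fix]

theorem Datum.conj_diff (γ : MulAut V) (x : V) :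
    x⁻¹ * (γ * a * γ⁻¹) x ∈ Subgroup.zpowers (γ u) := by
  obtain ⟨k, hk⟩ := D.diff (γ⁻¹ x)
  refine ⟨k, ?_⟩
  rw [diff_conj, ← hk, map_zpow]

theorem Datum.conj_u_fix (γ : MulAut V) : γ u ∈ fixSub (γ * a * γ⁻¹) := by
  rw [mem_fixSub_conj, MulAut.inv_apply_self]; exact D.u_fix

theorem Datum.conj_u_pow (γ : MulAut V) : (γ u) ^ p = 1 := by rw [← map_pow, D.u_pow, map_one]

theorem Datum.conj_u_ne (γ : MulAut V) : γ u ≠ 1 := fun h =>
  D.u_ne (γ.injective (h.trans (map_one γ).symm))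

theorem Datum.conj_ne (γ : MulAut V) : γ * a * γ⁻¹ ≠ 1 := fun h => D.ne (by
  rwa [mul_inv_eq_one, mul_eq_left] at h)

theorem Datum.conj_pow (γ : MulAut V) : (γ * a * γ⁻¹) ^ p = 1 := by
  rw [_root_.conj_pow, D.pow, mul_one, mul_inv_cancel]

/-- A conjugate generating the same subgroup fixes the same elements and the same line. -/
theorem Datum.of_mem {γ : MulAut V} (h : γ * a * γ⁻¹ ∈ Subgroup.zpowers a) :
    (∀ x, x ∈ fixSub a → γ⁻¹ x ∈ fixSub a) ∧ (∀ x, γ⁻¹ x ∈ fixSub a → x ∈ fixSub a) ∧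
      γ u ∈ Subgroup.zpowers u := by
  obtain ⟨i, hi⟩ := exists_npow D.pow h
  have key : ∀ x, x⁻¹ * (γ * a * γ⁻¹) x = (x⁻¹ * a x) ^ i := fun x => by
    rw [← hi, D.apply_pow, inv_mul_cancel_left]
  have hfix : ∀ x, γ⁻¹ x ∈ fixSub a ↔ x ∈ fixSub a := by
    intro x
    rw [← mem_fixSub_conj, mem_fixSub, mem_fixSub, ← inv_mul_eq_one.trans eq_comm, key,
      ← inv_mul_eq_one.trans (eq_comm (a := x) (b := a x))]
    refine ⟨fun hx => ?_, fun hx => by rw [hx, one_pow]⟩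
    by_contra hne
    have hord : orderOf (x⁻¹ * a x) = p :=
      orderOf_eq_prime (pow_of_mem_zpowers D.u_pow (D.diff x)) hne
    have hdvd : p ∣ i := hord ▸ orderOf_dvd_of_pow_eq_one hx
    obtain ⟨j, rfl⟩ := hdvd
    exact D.conj_ne γ (by rw [← hi, pow_mul, D.pow, one_pow])
  refine ⟨fun x hx => (hfix x).2 hx, fun x hx => (hfix x).1 hx, ?_⟩
  obtain ⟨x₀, hx₀⟩ : ∃ x, x⁻¹ * a x ≠ 1 := by
    by_contra hne
    simp only [not_exists, not_not] at hne
    exact D.ne (MulEquiv.ext fun x => (inv_mul_eq_one.1 (hne x)).symm)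
  have hu : u ∈ Subgroup.zpowers (x₀⁻¹ * a x₀) := mem_zpowers_swap D.u_pow hx₀ (D.diff x₀)
  obtain ⟨k, hk⟩ := hu
  have h1 : γ (x₀⁻¹ * a x₀) = ((γ x₀)⁻¹ * a (γ x₀)) ^ i := by
    rw [← key, diff_conj, MulAut.inv_apply_self]
  rw [show γ u = γ ((x₀⁻¹ * a x₀) ^ k) from congrArg γ hk.symm, map_zpow, h1]
  exact zpow_mem (pow_mem (D.diff _) _) _

theorem Datum.mem_of_stab {d : MulAut V} (hd : d ∈ G) {K L : Subgroup V} (hLK : L ≤ K)
    (ha : a ∈ stab K L) (hdS : d ∈ stab K L) : d ∈ Subgroup.zpowers a := by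
  set P := Subgroup.closure ({a, d} : Set (MulAut V))
  have hPG : P ≤ G := (Subgroup.closure_le _).2 (by
    rintro x (rfl | rfl)
    exacts [D.mem, hd])
  have hPS : P ≤ stab K L := (Subgroup.closure_le _).2 (by
    rintro x (rfl | rfl)
    exacts [ha, hdS])
  haveI : Finite (MulAut V) := Finite.of_injective (fun α : MulAut V => (α : V → V)) DFunLike.coe_injective
  have hle : Subgroup.zpowers a ≤ P := Subgroup.zpowers_le.2 (Subgroup.subset_closure (Or.inl rfl))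
  have hP : Subgroup.zpowers a = P := by
    refine Subgroup.eq_of_le_of_card_ge hle ?_
    rw [Nat.card_zpowers, orderOf_eq_prime D.pow D.ne]
    exact D.fa P hPG ((isPGroup_stab D.isP hLK).to_le hPS)
  rw [hP]; exact Subgroup.subset_closure (Or.inr rfl)

theorem Datum.mem_of_both {γ : MulAut V} (hγ : γ ∈ G) (h1 : γ u ∈ fixSub a)
    (h2 : γ⁻¹ u ∈ fixSub a) : γ * a * γ⁻¹ ∈ Subgroup.zpowers a := by
  refine D.mem_of_stab (mul_mem (mul_mem hγ D.mem) (inv_mem hγ))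
    (K := fixSub a ⊓ fixSub (γ * a * γ⁻¹)) (L := Subgroup.zpowers u ⊔ Subgroup.zpowers (γ u)) ?_ ?_ ?_
  · rw [sup_le_iff, Subgroup.zpowers_le, Subgroup.zpowers_le]
    exact ⟨⟨D.u_fix, mem_fixSub_conj.2 h2⟩, h1, D.conj_u_fix γ⟩
  · exact ⟨fun x hx => hx.1, fun x => Subgroup.mem_sup_left (D.diff x)⟩
  · exact ⟨fun x hx => hx.2, fun x => Subgroup.mem_sup_right (D.conj_diff γ x)⟩

theorem Datum.mem_of_image {γ : MulAut V} (hγ : γ ∈ G) (h1 : γ u ∈ fixSub a) :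
    γ * a * γ⁻¹ ∈ Subgroup.zpowers a := by
  by_cases h2 : γ⁻¹ u ∈ fixSub a
  · exact D.mem_of_both hγ h1 h2
  exfalso
  set d := γ * a * γ⁻¹
  have hd : d ∈ G := mul_mem (mul_mem hγ D.mem) (inv_mem hγ)
  have hle : Subgroup.zpowers (γ u) ≤ fixSub a := Subgroup.zpowers_le.2 h1
  have hdu : d u ∈ fixSub a := by
    have := mul_mem (show u ∈ fixSub a from D.u_fix) (hle (D.conj_diff γ u))
    rwa [mul_inv_cancel_left] at this
  have hdu' : d⁻¹ u ∈ fixSub a := by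
    have := mul_mem (show u ∈ fixSub a from D.u_fix) (inv_mem (hle (D.conj_diff γ (d⁻¹ u))))
    rw [MulAut.apply_inv_self, mul_inv_rev, inv_inv, mul_inv_cancel_left] at this
    exact this
  obtain ⟨-, -, h3⟩ := D.of_mem (D.mem_of_both hd hdu hdu')
  have hne : u⁻¹ * d u ≠ 1 := fun h => h2 (mem_fixSub_conj.1 (inv_mul_eq_one.1 h).symm)
  have h4 : u⁻¹ * d u ∈ Subgroup.zpowers u := mul_mem (inv_mem (Subgroup.mem_zpowers u)) h3
  have h5 : u ∈ Subgroup.zpowers (γ u) :=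
    Subgroup.zpowers_le.2 (D.conj_diff γ u) (mem_zpowers_swap D.u_pow hne h4)
  exact h2 (mem_fixSub_conj.1 (Subgroup.zpowers_le.2 (D.conj_u_fix γ) h5))

theorem Datum.mem_of_inv_image {γ : MulAut V} (hγ : γ ∈ G) (h : γ⁻¹ u ∈ fixSub a) :
    γ * a * γ⁻¹ ∈ Subgroup.zpowers a := by
  obtain ⟨k, hk⟩ := D.mem_of_image (inv_mem hγ) h
  rw [inv_inv] at hk
  have h1 : a ∈ Subgroup.zpowers (γ * a * γ⁻¹) := by
    refine ⟨k, ?_⟩
    show (γ * a * γ⁻¹) ^ k = a
    rw [conj_zpow, show a ^ k = γ⁻¹ * a * γ from hk]; group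
  exact mem_zpowers_swap (D.conj_pow γ) D.ne h1

theorem Datum.pair (hn : ∃ g ∈ G, g * a * g⁻¹ ∉ Subgroup.zpowers a) :
    ∃ (w : V) (C : Subgroup V), Pair G a u w C ∧ w ^ p = 1 ∧
      (p ≠ 2 → ∃ τ ∈ G, τ * a * τ⁻¹ = a ∧ τ u = u⁻¹ ∧ ∀ c ∈ C, τ c = c) := by
  obtain ⟨g, hg, hga⟩ := hn
  set b := g * a * g⁻¹ with hb
  set w := g u with hw
  set C := fixSub a ⊓ fixSub b with hC
  have hbG : b ∈ G := mul_mem (mul_mem hg D.mem) (inv_mem hg)
  have hwp : w ^ p = 1 := D.conj_u_pow g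
  have hwa : a w ≠ w := fun h => hga (D.mem_of_image hg h)
  have hub : b u ≠ u := fun h => hga (D.mem_of_inv_image hg (mem_fixSub_conj.1 h))
  have hbw : b w = w := D.conj_u_fix g
  have hδw1 : w⁻¹ * a w ≠ 1 := fun h => hwa (inv_mul_eq_one.1 h).symm
  have hδu1 : u⁻¹ * b u ≠ 1 := fun h => hub (inv_mul_eq_one.1 h).symm
  -- every power of `u` is the difference of a power of `a` at `w`, and symmetrically
  have hA : ∀ v ∈ Subgroup.zpowers u, ∃ m : ℕ, (a ^ m) w = w * v := by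
    intro v hv
    obtain ⟨m, hm⟩ := exists_npow (pow_of_mem_zpowers D.u_pow (D.diff w))
      (Subgroup.zpowers_le.2 (mem_zpowers_swap D.u_pow hδw1 (D.diff w)) hv)
    exact ⟨m, by rw [D.apply_pow, hm]⟩
  have hB : ∀ v ∈ Subgroup.zpowers w, ∃ m : ℕ, (b ^ m) u = u * v := by
    intro v hv
    obtain ⟨m, hm⟩ := exists_npow (pow_of_mem_zpowers hwp (D.conj_diff g u))
      (Subgroup.zpowers_le.2 (mem_zpowers_swap hwp hδu1 (D.conj_diff g u)) hv)
    refine ⟨m, ?_⟩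
    rw [pow_apply ?_, hm]
    obtain ⟨k, hk⟩ := D.conj_diff g u
    rw [← hk]
    show b (w ^ k) = w ^ k
    rw [map_zpow, hbw]
  have hau : ∀ m : ℕ, (a ^ m) u = u := fun m => by
    rw [D.apply_pow, D.u_fix, inv_mul_cancel, one_pow, mul_one]
  have hbw' : ∀ m : ℕ, (b ^ m) w = w := fun m => by
    rw [pow_apply (by rw [hbw, inv_mul_cancel, map_one]), hbw, inv_mul_cancel, one_pow, mul_one]
  have hCa : ∀ m : ℕ, ∀ c ∈ C, (a ^ m) c = c := fun m c hc => by
    rw [D.apply_pow, show a c = c from hc.1, inv_mul_cancel, one_pow, mul_one]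
  have hCb : ∀ m : ℕ, ∀ c ∈ C, (b ^ m) c = c := fun m c hc => by
    have hbc : b c = c := hc.2
    rw [pow_apply (by rw [hbc, inv_mul_cancel, map_one]), hbc, inv_mul_cancel, one_pow, mul_one]
  -- decompositions
  have hfd : ∀ x : V, a x = x → ∃ i : ℕ, ∃ c ∈ C, x = u ^ i * c := by
    intro x hx
    have h1 : x⁻¹ * b x ∈ Subgroup.zpowers (u⁻¹ * b u) :=
      Subgroup.zpowers_le.2 (mem_zpowers_swap hwp hδu1 (D.conj_diff g u)) (D.conj_diff g x)
    obtain ⟨i, hi⟩ := exists_npow (pow_of_mem_zpowers hwp (D.conj_diff g u)) h1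
    refine ⟨i, (u ^ i)⁻¹ * x, ⟨?_, ?_⟩, (mul_inv_cancel_left _ _).symm⟩
    · show _ ∈ fixSub a
      exact (fixSub a).mul_mem ((fixSub a).inv_mem ((fixSub a).pow_mem D.u_fix i)) hx
    · show b ((u ^ i)⁻¹ * x) = (u ^ i)⁻¹ * x
      rw [map_mul, map_inv, map_pow]
      rw [show b x = x * (u⁻¹ * b u) ^ i by rw [hi, mul_inv_cancel_left], mul_pow, inv_pow,
        mul_left_comm x, ← mul_assoc, ← mul_assoc]
      rw [mul_comm ((b u ^ i)⁻¹ * (u ^ i)⁻¹) x, mul_assoc, mul_comm ((b u ^ i)⁻¹) _, mul_assoc,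
        inv_mul_cancel, mul_one, mul_comm]
  have hdec : ∀ x : V, ∃ i j : ℕ, ∃ c ∈ C, x = u ^ i * w ^ j * c := by
    intro x
    obtain ⟨j, hj⟩ := exists_npow (pow_of_mem_zpowers D.u_pow (D.diff w))
      (Subgroup.zpowers_le.2 (mem_zpowers_swap D.u_pow hδw1 (D.diff w)) (D.diff x))
    have hx : a ((w ^ j)⁻¹ * x) = (w ^ j)⁻¹ * x := by
      rw [map_mul, map_inv, map_pow]
      rw [show a x = x * (w⁻¹ * a w) ^ j by rw [hj, mul_inv_cancel_left], mul_pow, inv_pow,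
        mul_comm x, ← mul_assoc, ← mul_assoc, mul_comm ((a w ^ j)⁻¹) _, mul_assoc ((w ^ j)⁻¹),
        inv_mul_cancel, mul_one]
    obtain ⟨i, c, hc, he⟩ := hfd _ hx
    exact ⟨i, j, c, hc, by rw [mul_comm (u ^ i), mul_assoc, ← he, mul_inv_cancel_left]⟩
  -- elements of the plane
  set W := Subgroup.zpowers u ⊔ Subgroup.zpowers w with hW
  have hWp : ∀ x ∈ W, x ^ p = 1 := by
    intro x hx
    obtain ⟨y, hy, z, hz, rfl⟩ := Subgroup.mem_sup.1 hx
    rw [mul_pow, pow_of_mem_zpowers D.u_pow hy, pow_of_mem_zpowers hwp hz, mul_one]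
  have hnorm : ∀ v ∈ W, v ∉ Subgroup.zpowers u →
      ∃ n : ℕ, ∃ y ∈ Subgroup.zpowers u, v ^ n = y * w := by
    intro v hv hvu
    obtain ⟨y, hy, z, hz, rfl⟩ := Subgroup.mem_sup.1 hv
    have hz1 : z ≠ 1 := fun h => hvu (by rwa [h, mul_one])
    obtain ⟨n, hn⟩ := exists_npow (pow_of_mem_zpowers hwp hz) (mem_zpowers_swap hwp hz1 hz)
    exact ⟨n, y ^ n, pow_mem hy n, by rw [mul_pow, hn]⟩
  -- the claim
  have hclaim : ∀ γ ∈ G, γ u ∈ W ∧ ∀ c ∈ C, γ⁻¹ c ∈ fixSub a := by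
    intro γ hγ
    set d := γ * a * γ⁻¹
    obtain ⟨v, hvW, hv1, hvd⟩ : ∃ v ∈ W, v ≠ 1 ∧ v ∈ fixSub d := by
      by_cases h : u⁻¹ * d u = 1
      · exact ⟨u, Subgroup.mem_sup_left (Subgroup.mem_zpowers u), D.u_ne, (inv_mul_eq_one.1 h).symm⟩
      obtain ⟨n, hn⟩ := exists_npow (pow_of_mem_zpowers (D.conj_u_pow γ) (D.conj_diff γ u))
        (Subgroup.zpowers_le.2 (mem_zpowers_swap (D.conj_u_pow γ) h (D.conj_diff γ u)) (D.conj_diff γ w))
      refine ⟨(u ^ n)⁻¹ * w, mul_mem (Subgroup.mem_sup_left (inv_mem (pow_mem (Subgroup.mem_zpowers u) n)))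
        (Subgroup.mem_sup_right (Subgroup.mem_zpowers w)), fun he => hwa ?_, ?_⟩
      · rw [← inv_mul_eq_one.1 he, map_pow, D.u_fix]
      · show d ((u ^ n)⁻¹ * w) = (u ^ n)⁻¹ * w
        rw [map_mul, map_inv, map_pow,
          show d w = w * (u⁻¹ * d u) ^ n by rw [hn, mul_inv_cancel_left], mul_pow, inv_pow,
          mul_comm w, ← mul_assoc, ← mul_assoc, mul_comm ((d u ^ n)⁻¹) _, mul_assoc ((u ^ n)⁻¹),
          inv_mul_cancel, mul_one]
    obtain ⟨h, hhG, hhW, hhv, hhC⟩ : ∃ h ∈ G, h u ∈ W ∧ h u ∈ Subgroup.zpowers v ∧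
        ∀ c ∈ C, h⁻¹ c ∈ fixSub a := by
      by_cases hvu : v ∈ Subgroup.zpowers u
      · exact ⟨1, one_mem G, Subgroup.mem_sup_left (Subgroup.mem_zpowers u),
          mem_zpowers_swap D.u_pow hv1 hvu, fun c hc => hc.1⟩
      obtain ⟨n, y, hy, hn⟩ := hnorm v hvW hvu
      obtain ⟨m, hm⟩ := hA y hy
      have hhu : (a ^ m * g) u = v ^ n := by
        rw [MulAut.mul_apply, ← hw, hm, hn, mul_comm]
      refine ⟨a ^ m * g, mul_mem (pow_mem D.mem m) hg, hhu ▸ pow_mem hvW n,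
        hhu ▸ pow_mem (Subgroup.mem_zpowers v) n, fun c hc => ?_⟩
      have hcm : (a ^ m)⁻¹ c = c :=
        (congrArg _ (hCa m c hc).symm).trans (MulAut.inv_apply_self _ _ c)
      rw [mul_inv_rev, MulAut.mul_apply, hcm]
      exact mem_fixSub_conj.1 hc.2
    have h1 : γ⁻¹ (h u) ∈ fixSub a :=
      mem_fixSub_conj.1 (Subgroup.zpowers_le.2 hvd hhv)
    have h2 := D.mem_of_image (mul_mem (inv_mem hγ) hhG) (show (γ⁻¹ * h) u ∈ fixSub a from h1)
    obtain ⟨-, h3, h4⟩ := D.of_mem h2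
    refine ⟨?_, fun c hc => h3 _ ?_⟩
    · obtain ⟨k, hk⟩ := h4
      have h5 : h u ∈ Subgroup.zpowers (γ u) := by
        refine ⟨k, ?_⟩
        show (γ u) ^ k = h u
        rw [← map_zpow, show u ^ k = (γ⁻¹ * h) u from hk]
        exact MulAut.apply_inv_self _ γ _
      exact Subgroup.zpowers_le.2 hhW (mem_zpowers_swap (D.conj_u_pow γ) (D.conj_u_ne h) h5)
    · rw [mul_inv_rev, inv_inv, MulAut.mul_apply, MulAut.apply_inv_self]
      exact hhC c hc
  have hCinv : ∀ γ ∈ G, ∀ c ∈ C, γ c ∈ C := by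
    intro γ hγ c hc
    refine ⟨?_, mem_fixSub_conj.2 ?_⟩
    · have := (hclaim γ⁻¹ (inv_mem hγ)).2 c hc
      rwa [inv_inv] at this
    · have := (hclaim (γ⁻¹ * g) (mul_mem (inv_mem hγ) hg)).2 c hc
      rwa [mul_inv_rev, inv_inv, MulAut.mul_apply] at this
  have hWinv : ∀ γ ∈ G, ∀ x ∈ W, γ x ∈ W := by
    intro γ hγ
    have h1 := (hclaim γ hγ).1
    have h2 := (hclaim (γ * g) (mul_mem hγ hg)).1
    have : W ≤ W.comap γ.toMonoidHom :=
      sup_le (Subgroup.zpowers_le.2 h1) (Subgroup.zpowers_le.2 h2)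
    exact fun x hx => this hx
  have hnz : ∀ γ ∈ G, ∃ n ∈ G, n * a * n⁻¹ ∈ Subgroup.zpowers a ∧ ∀ c ∈ C, n c = γ c := by
    intro γ hγ
    by_cases hv : γ u ∈ Subgroup.zpowers u
    · exact ⟨γ, hγ, D.mem_of_image hγ (Subgroup.zpowers_le.2 (show u ∈ fixSub a from D.u_fix) hv),
        fun c _ => rfl⟩
    obtain ⟨n, y, hy, hn⟩ := hnorm _ (hclaim γ hγ).1 hv
    obtain ⟨m, hm⟩ := hA (u * y⁻¹) (mul_mem (Subgroup.mem_zpowers u) (inv_mem hy))
    obtain ⟨t, ht⟩ := hB w (Subgroup.mem_zpowers w)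
    have hyfix : (a ^ m) y = y := by
      obtain ⟨k, rfl⟩ := hy
      show (a ^ m) (u ^ k) = u ^ k
      rw [map_zpow, hau]
    set e := (b ^ t)⁻¹ * a ^ m with he
    have heG : e ∈ G := mul_mem (inv_mem (pow_mem hbG t)) (pow_mem D.mem m)
    have h1 : e ((γ u) ^ n) = u := by
      rw [hn, he, MulAut.mul_apply, map_mul, hyfix, hm,
        show y * (w * (u * y⁻¹)) = u * w by rw [mul_left_comm y, mul_left_comm y, mul_inv_cancel,
          mul_one, mul_comm], ← ht, MulAut.inv_apply_self]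
    have hn1 : (γ u) ^ n ≠ 1 := fun h => by
      rw [h, map_one] at h1; exact D.u_ne h1.symm
    have h2 : (e * γ) u ∈ fixSub a := by
      obtain ⟨k, hk⟩ := mem_zpowers_swap (D.conj_u_pow γ) hn1 (pow_mem (Subgroup.mem_zpowers _) n)
      rw [MulAut.mul_apply, ← show ((γ u) ^ n) ^ k = γ u from hk, map_zpow, h1]
      exact zpow_mem (show u ∈ fixSub a from D.u_fix) k
    refine ⟨e * γ, mul_mem heG hγ, D.mem_of_image (mul_mem heG hγ) h2, fun c hc => ?_⟩
    have hc' := hCinv γ hγ c hc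
    rw [MulAut.mul_apply, he, MulAut.mul_apply, hCa m _ hc']
    exact (congrArg _ (hCb t _ hc').symm).trans (MulAut.inv_apply_self _ _ _)
  refine ⟨w, C, ⟨hwa, fun h => hub h.2, fun c hc => hc.1, hdec, hfd, hCinv, hWinv, hnz⟩, hwp,
    fun _ => ?_⟩
  obtain ⟨m, hm⟩ := hA u (Subgroup.mem_zpowers u)
  obtain ⟨t, ht⟩ := hB w⁻¹ (inv_mem (Subgroup.mem_zpowers w))
  set T := a ^ m * b ^ t * a ^ m with hT
  have hTu : T u = w⁻¹ := by
    rw [hT, MulAut.mul_apply, MulAut.mul_apply, hau, ht, map_mul, hau, map_inv, hm, mul_inv_rev,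
      mul_inv_cancel_left]
  have hTw : T w = u := by
    rw [hT, MulAut.mul_apply, MulAut.mul_apply, hm, map_mul, hbw', ht,
      show w * (u * w⁻¹) = u by rw [mul_left_comm, mul_inv_cancel, mul_one], hau]
  have hTc : ∀ c ∈ C, T c = c := fun c hc => by
    rw [hT, MulAut.mul_apply, MulAut.mul_apply, hCa m c hc, hCb t c hc, hCa m c hc]
  have hu2 : (T * T) u = u⁻¹ := by rw [MulAut.mul_apply, hTu, map_inv, hTw]
  have hw2 : (T * T) w = w⁻¹ := by rw [MulAut.mul_apply, hTw, hTu]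
  have hc2 : ∀ c ∈ C, (T * T) c = c := fun c hc => by rw [MulAut.mul_apply, hTc c hc, hTc c hc]
  have hTG : T ∈ G := mul_mem (mul_mem (pow_mem D.mem m) (pow_mem hbG t)) (pow_mem D.mem m)
  refine ⟨T * T, mul_mem hTG hTG, ?_, hu2, hc2⟩
  rw [mul_inv_eq_iff_eq_mul]
  refine MulEquiv.ext fun x => ?_
  obtain ⟨i, j, c, hc, rfl⟩ := hdec x
  show (T * T) (a (u ^ i * w ^ j * c)) = a ((T * T) (u ^ i * w ^ j * c))
  obtain ⟨k, hk⟩ := exists_npow D.u_pow (D.diff w)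
  have hawk : a w = w * u ^ k := by rw [hk, mul_inv_cancel_left]
  simp only [map_mul, map_pow, D.u_fix, hu2, hw2, hc2 c hc, show a c = c from hc.1, hawk, map_inv]
  simp only [mul_inv, mul_pow, inv_pow]

end Cfsg.Agent.Local.TransPair
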