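import Cfsg.Agent.Lib.Local.QuadraticSection
import Cfsg.Agent.Lib.Fusion.ZJ
import Cfsg.Agent.Lib.Fusion.ZJFamilyWeak

/-!
# Inverted `p`-elements are controlled by the normalizer of `Z(J)`

For an odd prime `p`, if a finite group inverts a nontrivial `p`-element then so does the
normalizer of `Z(J(T))`, `T` a Sylow `p`-subgroup.
-/

set_option autoImplicit false

open scoped commutatorElement
open Cfsg.Agent.Fusion

namespace Cfsg.Agent.Local.InvControl

universe u

/-- The abelian subgroups. -/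
abbrev abOk {G : Type*} [Group G] : Subgroup G → Prop := fun A => IsMulCommutative A

/-- `Z(J(T))` of the largest abelian subgroups. -/
abbrev zJ {G : Type*} [Group G] (T : Subgroup G) : Subgroup G := zFam abOk T

theorem map_zJ {G G' : Type*} [Group G] [Group G'] {f : G' →* G} (hf : Function.Injective f)
    (T : Subgroup G') : (zJ T).map f = zJ (T.map f) := by
  have hcard : ∀ A : Subgroup G', Nat.card (A.map f) = Nat.card A := fun A =>
    Subgroup.card_map_of_injective hf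
  have hpull : ∀ A : Subgroup G, A ≤ T.map f → IsMulCommutative A →
      IsMulCommutative (A.comap f) := fun A _ hA =>
    ⟨⟨fun x y => Subtype.ext (hf (by
      rw [Subgroup.coe_mul, Subgroup.coe_mul, map_mul, map_mul]
      exact congrArg Subtype.val (hA.1.1 ⟨_, x.2⟩ ⟨_, y.2⟩)))⟩⟩
  have hmc : ∀ A : Subgroup G, A ≤ T.map f → (A.comap f).map f = A := fun A hA =>
    Subgroup.map_comap_eq_self (hA.trans (Subgroup.map_le_range f T))
  ext x
  constructor
  · rintro ⟨y, hy, rfl⟩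
    refine ⟨⟨y, hy.1, rfl⟩, Subgroup.mem_sInf.2 fun A hA => ?_⟩
    refine Subgroup.mem_sInf.1 hy.2 (A.comap f) ⟨fun a ha => ?_, hpull A hA.1 hA.2.1, fun B hB hB' => ?_⟩
    · obtain ⟨b, hb, he⟩ := hA.1 ha
      exact hf he ▸ hb
    · rw [← hcard, ← hcard (A.comap f), hmc A hA.1]
      exact hA.2.2 _ (Subgroup.map_mono hB) (isMulCommutative_map f hB')
  · rintro ⟨⟨y, hy, rfl⟩, hx⟩
    refine ⟨y, ⟨hy, Subgroup.mem_sInf.2 fun A hA => ?_⟩, rfl⟩
    have h := Subgroup.mem_sInf.1 hx (A.map f) ⟨Subgroup.map_mono hA.1,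
      isMulCommutative_map f hA.2.1, fun B hB hB' => by
        have hle : B.comap f ≤ T := fun a ha => by
          obtain ⟨b, hb, he⟩ := hB ha
          exact hf he ▸ hb
        rw [← hmc B hB, hcard, hcard]
        exact hA.2.2 _ hle (hpull B hB hB')⟩
    obtain ⟨a, ha, he⟩ := h
    exact hf he ▸ ha

variable {G : Type u} [Group G] [Finite G] {p : ℕ} [hp : Fact p.Prime]

theorem zJ_ne_bot {P : Subgroup G} (hP : IsPGroup p P) (hne : P ≠ ⊥) : zJ P ≠ ⊥ := by
  haveI : Nontrivial P := P.nontrivial_iff_ne_bot.2 hne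
  haveI := hP.center_nontrivial
  obtain ⟨⟨⟨z, hz⟩, hzc⟩, hz1⟩ := exists_ne (1 : Subgroup.center P)
  intro hbot
  have hmem : z ∈ zJ P := ⟨hz, Subgroup.mem_sInf.2 fun A hA => mem_of_maxIn hA hz
    (isMulCommutative_closure_insert hA.2.1 fun a ha =>
      (congrArg Subtype.val (Subgroup.mem_center_iff.1 hzc ⟨a, hA.1 ha⟩)).symm)⟩
  rw [hbot, Subgroup.mem_bot] at hmem
  exact hz1 (Subtype.ext (Subtype.ext hmem))

omit hp in
theorem isMulCommutative_zJ (P : Subgroup G) : IsMulCommutative (zJ P) := by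
  obtain ⟨A, hA⟩ := replFamily_comm.maxIn_nonempty P
  exact isMulCommutative_of_le hA.2.1 (replFamily_comm.zFam_le_of_mem hA)

omit hp in
theorem Inv.top_of {H : Subgroup G} (h : Inv p H) : Inv p (⊤ : Subgroup H) := by
  obtain ⟨x, hx, hx1, ⟨k, hk⟩, g, hg, he⟩ := h
  exact ⟨⟨x, hx⟩, trivial, fun h1 => hx1 (congrArg Subtype.val h1), ⟨k, Subtype.ext hk⟩,
    ⟨g, hg⟩, trivial, Subtype.ext he⟩

omit [Finite G] in
theorem lt_inf_normalizer_of_lt {Q P : Subgroup G} [Finite P] (hP : IsPGroup p P) (h : Q < P) :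
    Q < P ⊓ Subgroup.normalizer (Q : Set G) := by
  haveI : Group.IsNilpotent P := hP.isNilpotent
  have h1 : Q.subgroupOf P < ⊤ := by
    rw [lt_top_iff_ne_top, Ne, Subgroup.subgroupOf_eq_top]
    exact fun h' => h.not_ge h'
  obtain ⟨x, hx, hxQ⟩ :=
    SetLike.exists_of_lt (normalizerCondition_of_isNilpotent (Q.subgroupOf P) h1)
  refine lt_of_le_of_ne (le_inf h.le Subgroup.le_normalizer) fun e => hxQ ?_
  rw [← Subgroup.subgroupOf_normalizer_eq h.le, Subgroup.mem_subgroupOf] at hx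
  rw [Subgroup.mem_subgroupOf, e]
  exact ⟨x.2, hx⟩

section Step

variable (IH : ∀ (X : Type u) [Group X] [Finite X], Nat.card X < Nat.card G →
  Inv p (⊤ : Subgroup X) → ∀ T : Sylow p X, Inv p (Subgroup.normalizer (zJ (T : Subgroup X) : Set X)))
  (hno : ∀ T : Sylow p G, ¬ Inv p (Subgroup.normalizer (zJ (T : Subgroup G) : Set G)))
include IH

omit hp in
theorem inv_step {H : Subgroup G} (hH : H ≠ ⊤) (hI : Inv p H) (T : Sylow p H) :
    Inv p (Subgroup.normalizer (zJ ((T : Subgroup H).map H.subtype) : Set G)) := by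
  have hlt : Nat.card H < Nat.card G :=
    lt_of_le_of_ne (Subgroup.card_le_card_group H) fun h => hH (Subgroup.eq_top_of_card_eq H h)
  refine ((IH H hlt hI.top_of T).map H.subtype_injective).mono ?_
  rw [← map_zJ H.subtype_injective]
  exact Subgroup.le_normalizer_map H.subtype

include hno

omit hp in
theorem not_inv_of_sylow_le {H : Subgroup G} (hH : H ≠ ⊤) (S : Sylow p G)
    (hS : (S : Subgroup G) ≤ H) : ¬ Inv p H := fun hI => hno S (by
  have h := inv_step IH hH hI (S.subtype hS)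
  rwa [Sylow.coe_subtype, Subgroup.map_subgroupOf_eq_of_le hS] at h)

theorem exists_normal_zJ {H : Subgroup G} (hH : H ≠ ⊤) (hI : Inv p H) {T₀ : Subgroup G}
    (hT : T₀ ≤ H) (hTp : IsPGroup p T₀) :
    ∃ T₁ : Subgroup G, T₀ ≤ T₁ ∧ IsPGroup p T₁ ∧ T₁ ≠ ⊥ ∧ (zJ T₁).Normal := by
  induction hn : Nat.card G - Nat.card T₀ using Nat.strong_induction_on generalizing H T₀ with
  | _ n ih =>
  obtain ⟨T, hT₀⟩ := (hTp.comap_subtype : IsPGroup p (T₀.subgroupOf H)).exists_le_sylow
  set P := (T : Subgroup H).map H.subtype with hP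
  have hPp : IsPGroup p P := T.2.map _
  have hPH : P ≤ H := Subgroup.map_subtype_le _
  have hle : T₀ ≤ P := (Subgroup.map_subgroupOf_eq_of_le hT).ge.trans (Subgroup.map_mono hT₀)
  have hI' := inv_step IH hH hI T
  have hPne : P ≠ ⊥ := by
    intro h
    have hbot : (T : Subgroup H) = ⊥ := (Subgroup.map_eq_bot_iff_of_injective _ H.subtype_injective).1 h
    obtain ⟨x, hx, hx1, ⟨k, hk⟩, -⟩ := hI
    have hz : IsPGroup p (Subgroup.zpowers (⟨x, hx⟩ : H)) := by
      rintro ⟨z, hz⟩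
      obtain ⟨i, rfl⟩ := Subgroup.mem_zpowers_iff.1 hz
      refine ⟨k, Subtype.ext ?_⟩
      show ((⟨x, hx⟩ : H) ^ i) ^ p ^ k = 1
      rw [← zpow_natCast, ← zpow_mul, mul_comm, zpow_mul, zpow_natCast,
        show (⟨x, hx⟩ : H) ^ p ^ k = 1 from Subtype.ext hk, one_zpow]
    obtain ⟨T', hT'⟩ := hz.exists_le_sylow
    obtain ⟨g, rfl⟩ := MulAction.exists_smul_eq H T T'
    have h1 := hT' (Subgroup.mem_zpowers _)
    rw [Sylow.coe_subgroup_smul, hbot, Subgroup.smul_bot, Subgroup.mem_bot] at h1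
    exact hx1 (congrArg Subtype.val h1)
  by_cases hN : Subgroup.normalizer (zJ P : Set G) = ⊤
  · exact ⟨P, hle, hPp, hPne, Subgroup.normalizer_eq_top_iff.1 hN⟩
  obtain ⟨S, hPS⟩ := hPp.exists_le_sylow
  rcases eq_or_lt_of_le hPS with he | hlt
  · exact absurd (he ▸ hI') (hno S)
  have hlt2 := lt_inf_normalizer_of_lt S.2 hlt
  have hcard : Nat.card T₀ < Nat.card ((S : Subgroup G) ⊓ Subgroup.normalizer (P : Set G) : Subgroup G) :=
    lt_of_le_of_lt (Subgroup.card_le_of_le hle) (replacement_property.card_lt_card_of_lt hlt2)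
  have hcardG := Subgroup.card_le_card_group
      ((S : Subgroup G) ⊓ Subgroup.normalizer (P : Set G) : Subgroup G)
  obtain ⟨T₁, h1, h2⟩ := ih _ (by omega) hN hI'
    (inf_le_right.trans (replFamily_comm.normalizer_le_zFam P)) (S.2.to_le inf_le_left) rfl
  exact ⟨T₁, (hle.trans hlt2.le).trans h1, h2⟩

theorem pCore_ne_bot (hI : Inv p (⊤ : Subgroup G)) : pCore p G ≠ ⊥ := by
  intro hbot
  by_cases hex : ∃ H : Subgroup G, H ≠ ⊤ ∧ Inv p H
  · obtain ⟨H, hH, hIH⟩ := hex
    obtain ⟨T₁, -, h2, h3, h4⟩ := exists_normal_zJ IH hno hH hIH bot_le IsPGroup.of_bot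
    haveI := h4
    exact zJ_ne_bot h2 h3 (le_bot_iff.1 (hbot ▸ le_pCore (h2.to_le inf_le_left)))
  · push Not at hex
    obtain ⟨x, -, hx1, ⟨k, hk⟩, h, -, he⟩ := hI
    have hgen : Subgroup.closure ({x, h} : Set G) = ⊤ := by
      by_contra hne
      exact hex _ hne ⟨x, Subgroup.subset_closure (by simp), hx1, ⟨k, hk⟩, h,
        Subgroup.subset_closure (by simp), he⟩
    haveI : (Subgroup.zpowers x).Normal := by
      refine Subgroup.normalizer_eq_top_iff.1 (top_le_iff.1 (hgen ▸ (Subgroup.closure_le _).2 ?_))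
      rintro z (rfl | rfl)
      · exact Subgroup.le_normalizer (Subgroup.mem_zpowers _)
      · refine mem_normalizer_of_cj_le ?_
        rw [cj, MonoidHom.map_zpowers, Subgroup.zpowers_le]
        show z * x * z⁻¹ ∈ _
        rw [he]
        exact inv_mem (Subgroup.mem_zpowers x)
    have hz : IsPGroup p (Subgroup.zpowers x) := by
      rintro ⟨z, hz⟩
      obtain ⟨i, rfl⟩ := Subgroup.mem_zpowers_iff.1 hz
      refine ⟨k, Subtype.ext ?_⟩
      show (x ^ i) ^ p ^ k = 1
      rw [← zpow_natCast, ← zpow_mul, mul_comm, zpow_mul, zpow_natCast, hk, one_zpow]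
    have h1 := le_pCore hz (Subgroup.mem_zpowers x)
    rw [hbot, Subgroup.mem_bot] at h1
    exact hx1 h1

omit IH hno

/-- An inverting element may be taken of 2-power order. -/
theorem exists_two_inverting (hp2 : p ≠ 2) {x h : G} {k : ℕ} (hk : x ^ p ^ k = 1) (hx : x ≠ 1)
    (he : h * x * h⁻¹ = x⁻¹) :
    ∃ a m : ℕ, (h ^ m) ^ 2 ^ a = 1 ∧ h ^ m * x * (h ^ m)⁻¹ = x⁻¹ ∧ x⁻¹ ≠ x := by
  obtain ⟨a, m, hm, hn⟩ := Nat.exists_eq_pow_mul_and_not_dvd (orderOf_pos h).ne' 2 (by decide)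
  obtain ⟨i, rfl⟩ := Nat.odd_iff.2 (Nat.two_dvd_ne_zero.1 hm)
  refine ⟨a, 2 * i + 1, by rw [← pow_mul, mul_comm, ← hn, pow_orderOf_eq_one], ?_, ?_⟩
  · have hh : Commute (h * h) x := by
      have h2 : h * h * x * (h * h)⁻¹ = x := by
        calc h * h * x * (h * h)⁻¹ = h * (h * x * h⁻¹) * h⁻¹ := by group
          _ = h * x⁻¹ * h⁻¹ := by rw [he]
          _ = (h * x * h⁻¹)⁻¹ := conj_inv.symm
          _ = x := by rw [he, inv_inv]
      exact mul_inv_eq_iff_eq_mul.1 h2
    have hc := hh.pow_left i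
    rw [pow_succ', pow_mul, pow_two]
    calc h * (h * h) ^ i * x * (h * (h * h) ^ i)⁻¹
        = h * ((h * h) ^ i * x) * ((h * h) ^ i)⁻¹ * h⁻¹ := by group
      _ = h * x * h⁻¹ := by rw [hc.eq]; group
      _ = x⁻¹ := he
  · intro hxx
    apply hx
    obtain ⟨j, hj⟩ := ((Fact.out : p.Prime).odd_of_ne_two hp2).pow (n := k)
    have h2 : x * x = 1 := by
      conv_lhs => arg 1; rw [← hxx]
      exact inv_mul_cancel x
    rwa [hj, pow_succ, pow_mul, pow_two, h2, one_pow, one_mul] at hk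

include IH hno

theorem exists_two_not_centralizing (hp2 : p ≠ 2) (hI : Inv p (⊤ : Subgroup G)) :
    ∃ s : G, (∃ a : ℕ, s ^ 2 ^ a = 1) ∧ s ∉ Subgroup.centralizer (pCore p G : Set G) := by
  set Q := pCore p G
  set π := QuotientGroup.mk' Q
  have hπ : Function.Surjective π := QuotientGroup.mk'_surjective Q
  have hQ := pCore_ne_bot IH hno hI
  have hno' : ¬ Inv p (⊤ : Subgroup (G ⧸ Q)) := by
    intro hI'
    have hlt : Nat.card (G ⧸ Q) < Nat.card G := by
      haveI : Nontrivial Q := Q.nontrivial_iff_ne_bot.2 hQ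
      rw [Subgroup.card_eq_card_quotient_mul_card_subgroup Q]
      exact lt_mul_of_one_lt_right Nat.card_pos Finite.one_lt_card
    obtain ⟨S⟩ : Nonempty (Sylow p G) := inferInstance
    set Sb := S.mapSurjective hπ
    obtain ⟨x', hx', hx1, ⟨k, hk⟩, h', hh', he⟩ := IH (G ⧸ Q) hlt hI' Sb
    set N := Subgroup.normalizer (zJ (Sb : Subgroup (G ⧸ Q)) : Set (G ⧸ Q))
    obtain ⟨h, rfl⟩ := hπ h'
    obtain ⟨x, rfl⟩ := hπ x'
    set H := N.comap π
    have hQH : Q ≤ H := fun q hq => by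
      show π q ∈ N
      rw [show π q = 1 from (QuotientGroup.eq_one_iff q).2 hq]
      exact one_mem N
    have hSH : (S : Subgroup G) ≤ H := by
      rw [← Subgroup.map_le_iff_le_comap, ← Sylow.coe_mapSurjective hπ S]
      exact Subgroup.le_normalizer.trans (replFamily_comm.normalizer_le_zFam _)
    have hker : IsPGroup p π.ker := by rw [QuotientGroup.ker_mk']; exact isPGroup_pCore p G
    have hSb : (Sb : Subgroup (G ⧸ Q)) ≠ ⊥ := by
      intro hb
      have hz : IsPGroup p (Subgroup.zpowers (π x)) := by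
        rintro ⟨z, hz⟩
        obtain ⟨i, rfl⟩ := Subgroup.mem_zpowers_iff.1 hz
        refine ⟨k, Subtype.ext ?_⟩
        show (π x ^ i) ^ p ^ k = 1
        rw [← zpow_natCast, ← zpow_mul, mul_comm, zpow_mul, zpow_natCast, hk, one_zpow]
      obtain ⟨T', hT'⟩ := hz.exists_le_sylow
      obtain ⟨g, rfl⟩ := MulAction.exists_smul_eq (G ⧸ Q) Sb T'
      have h1 := hT' (Subgroup.mem_zpowers _)
      rw [Sylow.coe_subgroup_smul, hb, Subgroup.smul_bot, Subgroup.mem_bot] at h1
      exact hx1 h1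
    have hH : H ≠ ⊤ := by
      intro htop
      have hN : N = ⊤ := top_le_iff.1 (by
        rw [← Subgroup.map_top_of_surjective π hπ, ← htop]
        exact Subgroup.map_comap_le _ _)
      haveI := Subgroup.normalizer_eq_top_iff.1 hN
      have hle : (zJ (Sb : Subgroup (G ⧸ Q))).comap π ≤ Q :=
        le_pCore ((Sb.2.to_le inf_le_left).comap_of_ker_isPGroup π hker)
      refine zJ_ne_bot Sb.2 hSb (le_bot_iff.1 fun z hz => ?_)
      obtain ⟨g, rfl⟩ := hπ z
      exact Subgroup.mem_bot.2 ((QuotientGroup.eq_one_iff g).2 (hle hz))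
    refine not_inv_of_sylow_le IH hno hH S hSH ?_
    obtain ⟨a, m, hm, hinv, hne⟩ := exists_two_inverting hp2 hk hx1 he
    -- a lift of 2-power order
    obtain ⟨b, hb⟩ : ∃ b, h ^ (m * b) ∈ H ∧ π (h ^ (m * b)) * π x * (π (h ^ (m * b)))⁻¹ = (π x)⁻¹ ∧
        ∃ c, (h ^ (m * b)) ^ 2 ^ c = 1 := by
      obtain ⟨c, r, hr, hn⟩ := Nat.exists_eq_pow_mul_and_not_dvd (orderOf_pos (h ^ m)).ne' 2 (by decide)
      obtain ⟨i, rfl⟩ := Nat.odd_iff.2 (Nat.two_dvd_ne_zero.1 hr)
      refine ⟨2 * i + 1, pow_mem (show h ∈ H from hh') _, ?_,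
        c, by rw [pow_mul, ← pow_mul, mul_comm, ← hn, pow_orderOf_eq_one]⟩
      have hh2 : Commute (π h ^ m * π h ^ m) (π x) := by
        refine mul_inv_eq_iff_eq_mul.1 ?_
        calc π h ^ m * π h ^ m * π x * (π h ^ m * π h ^ m)⁻¹
            = π h ^ m * (π h ^ m * π x * (π h ^ m)⁻¹) * (π h ^ m)⁻¹ := by group
          _ = π h ^ m * (π x)⁻¹ * (π h ^ m)⁻¹ := by rw [hinv]
          _ = (π h ^ m * π x * (π h ^ m)⁻¹)⁻¹ := conj_inv.symm
          _ = π x := by rw [hinv, inv_inv]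
      have hc := (hh2.pow_left i).eq
      rw [map_pow, pow_mul (π h) m, pow_succ', pow_mul, pow_two]
      generalize π h ^ m = w at hc hinv ⊢
      calc w * (w * w) ^ i * π x * (w * (w * w) ^ i)⁻¹
          = w * ((w * w) ^ i * π x) * ((w * w) ^ i)⁻¹ * w⁻¹ := by group
        _ = w * π x * w⁻¹ := by rw [hc]; group
        _ = _ := hinv
    set s := h ^ (m * b)
    obtain ⟨hsH, hsx, c, hc⟩ := hb
    set W := (Subgroup.zpowers (π x)).comap π
    have hz : IsPGroup p (Subgroup.zpowers (π x)) := by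
      rintro ⟨z, hz⟩
      obtain ⟨i, rfl⟩ := Subgroup.mem_zpowers_iff.1 hz
      refine ⟨k, Subtype.ext ?_⟩
      show (π x ^ i) ^ p ^ k = 1
      rw [← zpow_natCast, ← zpow_mul, mul_comm, zpow_mul, zpow_natCast, hk, one_zpow]
    refine inv_of_two_action (hz.comap_of_ker_isPGroup π hker) (fun w hw => ?_) hsH ?_ ?_
      ⟨c, by rw [hc]; exact one_mem _⟩
    · exact Subgroup.zpowers_le.2 hx' hw
    · refine mem_normalizer_of_cj_le ?_
      rintro _ ⟨w, hw, rfl⟩
      show π (s * w * s⁻¹) ∈ Subgroup.zpowers (π x)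
      obtain ⟨i, hi⟩ := Subgroup.mem_zpowers_iff.1 (show π w ∈ Subgroup.zpowers (π x) from hw)
      rw [map_mul, map_mul, map_inv, ← hi, ← conj_zpow, hsx]
      exact zpow_mem (inv_mem (Subgroup.mem_zpowers _)) i
    · intro hcs
      apply hne
      have hcx := congrArg π (Subgroup.mem_centralizer_iff.1 hcs x (Subgroup.mem_zpowers _))
      rw [map_mul, map_mul] at hcx
      rw [← hsx, ← hcx, mul_inv_cancel_right]
  obtain ⟨x, -, hx1, ⟨k, hk⟩, h, -, he⟩ := hI
  obtain ⟨a, m, hm, hinv, hne⟩ := exists_two_inverting hp2 hk hx1 he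
  refine ⟨h ^ m, ⟨a, hm⟩, fun hc => ?_⟩
  have hxQ : x ∈ Q := by
    by_contra hxQ
    exact hno' ⟨π x, trivial, fun h1 => hxQ ((QuotientGroup.eq_one_iff x).1 h1),
      ⟨k, by rw [← map_pow, hk, map_one]⟩, π h, trivial, by
        rw [← map_inv, ← map_mul, ← map_mul, he, map_inv]⟩
  apply hne
  rw [← hinv, ← Subgroup.mem_centralizer_iff.1 hc x hxQ, mul_inv_cancel_right]

theorem inf_zJ_normal (hp2 : p ≠ 2) (S : Sylow p G) :
    (pCore p G ⊓ zJ (S : Subgroup G)).Normal := by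
  refine inf_zFam_normal' replFamily_comm hp2 S ?_ (pCore p G) (isPGroup_pCore p G)
  intro B _ hB hgen A hA hBA a ha
  set C := Subgroup.centralizer (B : Set G)
  by_contra haD
  obtain ⟨U, V, hc, -, hUB, hne⟩ := exists_chief_of_not_mem_trivBetween
    (show a ∉ trivBetween ⊥ B from fun h => haD (trivBetween_le_comap_pCore hB h))
  haveI := hc.2.2.1
  have hcomm : ∀ x ∈ A, ∀ y ∈ A, x * y = y * x := fun x hx y hy =>
    congrArg Subtype.val (hA.2.1.1.1 ⟨x, hx⟩ ⟨y, hy⟩)
  obtain ⟨H, hH, hI, hmem⟩ := exists_proper_inv hp2 hc (hB.to_le hUB) (u := a)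
    (fun v hv => by
      have h1 : ⁅v, a⁆ ∈ A := mul_mem ((Subgroup.mem_normalizer_iff.1 (hBA (hUB hv)) a).1 ha)
        (inv_mem ha)
      rw [commutatorElement_eq_one_iff_mul_comm.2 (hcomm _ h1 a ha)]
      exact one_mem V)
    (fun h => hne (Subgroup.commutator_le.2 fun v hv z hz =>
      mem_sectionKernel.1 (Subgroup.zpowers_le.2 h hz) v hv))
  obtain ⟨T₁, hAT, hT₁, -, hn⟩ := exists_normal_zJ IH hno hH hI (T₀ := A)
    (fun x hx => hmem x (by
      rw [commutatorElement_eq_one_iff_mul_comm.2 (hcomm x hx a ha)]; exact one_mem _))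
    (S.2.to_le hA.1)
  haveI := hn
  obtain ⟨S', hS'⟩ := hT₁.exists_le_sylow
  obtain ⟨g, hg⟩ := MulAction.exists_smul_eq G S S'
  have hS'S : (S' : Subgroup G) = (S : Subgroup G).map (MulAut.conj g).toMonoidHom := by
    rw [← hg, Sylow.coe_subgroup_smul]; rfl
  have hZ' : zJ (S' : Subgroup G) = (zJ (S : Subgroup G)).map (MulAut.conj g).toMonoidHom := by
    rw [hS'S]; exact (replFamily_comm.map_zFam _ _).symm
  have hmaxS : ∀ D : Subgroup G, D ≤ S' → IsMulCommutative D → Nat.card D ≤ Nat.card A := by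
    intro D hD hDc
    have hcard : Nat.card (D.map ((MulAut.conj g).symm : G ≃* G).toMonoidHom) = Nat.card D :=
      Subgroup.card_map_of_injective (MulEquiv.injective _)
    rw [← hcard]
    refine hA.2.2 _ ?_ (isMulCommutative_map _ hDc)
    rintro _ ⟨d, hd, rfl⟩
    obtain ⟨s, hs, he⟩ := hS'S.le (hD hd)
    rw [← he]
    show (MulAut.conj g).symm ((MulAut.conj g) s) ∈ _
    rwa [MulEquiv.symm_apply_apply]
  have hAmem : A ∈ maxIn abOk T₁ :=
    ⟨hAT, hA.2.1, fun D hD hDc => hmaxS D (hD.trans hS') hDc⟩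
  have hle : zJ (S' : Subgroup G) ≤ zJ T₁ := by
    refine le_inf ?_ (le_sInf fun D hD => ?_)
    · exact (replFamily_comm.zFam_le_of_mem (⟨hAT.trans hS', hA.2.1, hmaxS⟩ :
        A ∈ maxIn abOk (S' : Subgroup G))).trans hAT
    · exact replFamily_comm.zFam_le_of_mem (⟨hD.1.trans hS', hD.2.1, fun E hE hEc =>
        (hmaxS E hE hEc).trans (hD.2.2 A hAT hA.2.1)⟩ : D ∈ maxIn abOk (S' : Subgroup G))
  have hBA' : B ≤ A := by
    refine le_trans ?_ (replFamily_comm.zFam_le_of_mem hAmem)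
    rw [← hgen]
    refine Subgroup.normalClosure_le_normal fun z hz => ?_
    have h1 : g * z * g⁻¹ ∈ zJ T₁ := hle (hZ' ▸ ⟨z, hz.2, rfl⟩)
    have h2 := hn.conj_mem _ h1 g⁻¹
    simpa [mul_assoc] using h2
  apply haD
  show QuotientGroup.mk' C a ∈ pCore p (G ⧸ C)
  rw [show QuotientGroup.mk' C a = 1 from (QuotientGroup.eq_one_iff a).2
    (Subgroup.mem_centralizer_iff.2 fun b hb => hcomm b (hBA' hb) a ha)]
  exact one_mem _

theorem not_inv_top (hp2 : p ≠ 2) : ¬ Inv p (⊤ : Subgroup G) := by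
  intro hI
  obtain ⟨S⟩ : Nonempty (Sylow p G) := inferInstance
  obtain ⟨s, hs2, hsC⟩ := exists_two_not_centralizing IH hno hp2 hI
  set Q := pCore p G with hQdef
  set Z := zJ (S : Subgroup G)
  have hQS : Q ≤ S := pCore_le_sylow S
  have hQp : IsPGroup p Q := isPGroup_pCore p G
  have hSZ : (S : Subgroup G) ≤ Subgroup.normalizer (Z : Set G) :=
    Subgroup.le_normalizer.trans (replFamily_comm.normalizer_le_zFam _)
  have hZQ : ¬ Z ≤ Q := by
    intro hle
    have h := inf_zJ_normal IH hno hp2 S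
    rw [inf_eq_right.2 hle] at h
    haveI := h
    refine hno S ?_
    rw [Subgroup.normalizer_eq_top]
    exact hI
  set C := Subgroup.centralizer (Q : Set G)
  set π := QuotientGroup.mk' C
  set K := (pCore p (G ⧸ C)).comap π
  by_cases hZK : Z ≤ K
  · set R := (S : Subgroup G) ⊓ K
    have hR : SylIn p R K :=
      (sylIn_top S).inf_normal le_top (by rw [Subgroup.normalizer_eq_top])
    have hH : Subgroup.normalizer (R : Set G) ≠ ⊤ := by
      intro htop
      haveI := Subgroup.normalizer_eq_top_iff.1 htop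
      exact hZQ ((le_inf inf_le_left hZK).trans (le_pCore (S.2.to_le inf_le_left)))
    have hSR : (S : Subgroup G) ≤ Subgroup.normalizer (R : Set G) := fun x hx => by
      refine mem_normalizer_iff_cj.2 ?_
      rw [cj_inf, cj_of_normal K, cj_eq_self (Subgroup.le_normalizer hx)]
    -- `s` agrees on `Q` with an element of the normalizer of `R`
    obtain ⟨n, hn, hnc⟩ : ∃ n ∈ Subgroup.normalizer (R : Set G), n⁻¹ * s ∈ C := by
      obtain ⟨l, hl, he⟩ := (hR.cj' (g := s⁻¹)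
        (by rw [Subgroup.normalizer_eq_top]; exact Subgroup.mem_top _)).conj_eq hR
      have hm : (l * s⁻¹)⁻¹ ∈ Subgroup.normalizer (R : Set G) :=
        inv_mem (mem_normalizer_iff_cj.2 (by rw [← cj_cj]; exact he))
      obtain ⟨t, ht, htl⟩ : ∃ t ∈ (S : Subgroup G), t⁻¹ * l ∈ C := by
        have hl' : π l ∈ (S.mapSurjective (QuotientGroup.mk'_surjective C) : Subgroup (G ⧸ C)) :=
          pCore_le_sylow _ hl
        rw [Sylow.coe_mapSurjective] at hl'
        obtain ⟨t, ht, hte⟩ := hl'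
        exact ⟨t, ht, QuotientGroup.eq.1 hte⟩
      refine ⟨(l * s⁻¹)⁻¹ * t, mul_mem hm (hSR ht), ?_⟩
      rw [show ((l * s⁻¹)⁻¹ * t)⁻¹ * s = t⁻¹ * l by group]
      exact htl
    refine not_inv_of_sylow_le IH hno hH S hSR ?_
    refine inv_of_two_action hQp (hQS.trans hSR) hn
      (by rw [Subgroup.normalizer_eq_top]; exact Subgroup.mem_top n) (fun hnC => hsC ?_) ?_
    · simpa using mul_mem hnC hnc
    · obtain ⟨a, ha⟩ := hs2
      refine ⟨a, (QuotientGroup.eq_one_iff _).1 ?_⟩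
      show π (n ^ 2 ^ a) = 1
      rw [map_pow, show π n = π s from QuotientGroup.eq.2 hnc, ← map_pow, ha, map_one]
  · obtain ⟨z, hz, hzK⟩ := SetLike.not_le_iff_exists.1 hZK
    obtain ⟨U, V, hc, -, hUQ, hne⟩ := exists_chief_of_not_mem_trivBetween
      (show z ∉ trivBetween ⊥ Q from fun h => hzK (trivBetween_le_comap_pCore hQp h))
    haveI := hc.2.1
    haveI := hc.2.2.1
    set L := sectionKernel U V
    haveI : L.Normal := sectionKernel_normal U V
    have hzL : z ∉ L := fun h => hne (Subgroup.commutator_le.2 fun v hv w hw =>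
      mem_sectionKernel.1 (Subgroup.zpowers_le.2 h hw) v hv)
    haveI : Group.IsNilpotent (S : Subgroup G) := S.2.isNilpotent
    have hnZ : (Z.subgroupOf (S : Subgroup G)).Normal :=
      Subgroup.normal_subgroupOf_iff_le_normalizer inf_le_left |>.2 hSZ
    obtain ⟨u, huZ, huL, hfix⟩ := exists_fixed_mod (N := L.subgroupOf (S : Subgroup G))
      (C := Z.subgroupOf (S : Subgroup G)) (Q := ⊤) (by rw [Subgroup.normalizer_eq_top])
      (fun h => hzL (h (show (⟨z, inf_le_left (a := (S : Subgroup G)) hz⟩ : (S : Subgroup G)) ∈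
        Z.subgroupOf (S : Subgroup G) from hz)))
    obtain ⟨H, hH, hIH, hmem⟩ := exists_proper_inv hp2 hc (hQp.to_le hUQ) (u := (u : G))
      (fun v hv => by
        have h1 : ⁅v, (u : G)⁆ ∈ Z := mul_mem
          ((Subgroup.mem_normalizer_iff.1 (hSZ (hQS (hUQ hv))) _).1 huZ) (inv_mem huZ)
        have h2 : ⁅v, (u : G)⁆ * (u : G) = (u : G) * ⁅v, (u : G)⁆ := congrArg Subtype.val
          ((isMulCommutative_zJ (S : Subgroup G)).1.1 ⟨_, h1⟩ ⟨_, huZ⟩)
        rw [commutatorElement_eq_one_iff_mul_comm.2 h2]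
        exact one_mem V) huL
    refine not_inv_of_sylow_le IH hno hH S (fun x hx => hmem x ?_) hIH
    have h := inv_mem (hfix ⟨x, hx⟩ trivial)
    rw [commutatorElement_inv] at h
    exact h

end Step

/-- Inverted `p`-elements are found in the normalizer of `Z(J(T))`. -/
theorem inv_normalizer_zJ (hp2 : p ≠ 2) (hI : Inv p (⊤ : Subgroup G)) (T : Sylow p G) :
    Inv p (Subgroup.normalizer (zJ (T : Subgroup G) : Set G)) := by
  suffices key : ∀ n, ∀ (X : Type u) [Group X] [Finite X], Nat.card X = n →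
      Inv p (⊤ : Subgroup X) → ∀ T : Sylow p X,
        Inv p (Subgroup.normalizer (zJ (T : Subgroup X) : Set X)) from key _ G rfl hI T
  intro n
  induction n using Nat.strong_induction_on with
  | _ n ih =>
  intro X _ _ hn hIX T
  by_contra hT
  refine not_inv_top (G := X) (fun Y _ _ hlt hY => ih _ (hn ▸ hlt) Y rfl hY) (fun T' hT' => hT ?_)
    hp2 hIX
  obtain ⟨g, hg⟩ := MulAction.exists_smul_eq X T' T
  refine (hT'.map (f := (MulAut.conj g).toMonoidHom) (MulAut.conj g).injective).mono ?_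
  refine (Subgroup.le_normalizer_map _).trans (le_of_eq ?_)
  rw [replFamily_comm.map_zFam, ← hg, Sylow.coe_subgroup_smul]
  rfl

end Cfsg.Agent.Local.InvControl
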