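import Cfsg.Agent.Lib.Local.InvertedControl

/-!
# Inverted odd elements and a normal Sylow 2-subgroup
-/

set_option autoImplicit false

namespace Cfsg.Agent.Local.InvControl

open Cfsg.Agent.Fusion

universe u

variable {G : Type u} [Group G] [Finite G]

theorem sylow_normal_of_subgroup {p : ℕ} [Fact p.Prime] (h : ∀ P : Sylow p G, (P : Subgroup G).Normal)
    (N : Subgroup G) (P : Sylow p N) : (P : Subgroup N).Normal := by
  obtain ⟨S, hS⟩ := (P.2.map N.subtype).exists_le_sylow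
  haveI := h S
  have hle : (P : Subgroup N) ≤ (S : Subgroup G).subgroupOf N := Subgroup.map_le_iff_le_comap.1 hS
  rw [← P.3 S.2.comap_subtype hle]
  infer_instance

/-- With a normal Sylow 2-subgroup no nontrivial element of odd prime power order is inverted. -/
theorem not_inv_of_two_closed {q : ℕ} [Fact q.Prime] (hq : q ≠ 2)
    (h : ∀ P : Sylow 2 G, (P : Subgroup G).Normal) : ¬ Inv q (⊤ : Subgroup G) := by
  haveI : Fact (Nat.Prime 2) := ⟨Nat.prime_two⟩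
  rintro ⟨x, -, hx1, ⟨k, hk⟩, g, -, he⟩
  obtain ⟨a, m, hm, hinv, hne⟩ := exists_two_inverting hq hk hx1 he
  have hz : IsPGroup 2 (Subgroup.zpowers (g ^ m)) := by
    rintro ⟨z, hz⟩
    obtain ⟨i, rfl⟩ := Subgroup.mem_zpowers_iff.1 hz
    refine ⟨a, Subtype.ext ?_⟩
    show ((g ^ m) ^ i) ^ 2 ^ a = 1
    rw [← zpow_natCast, ← zpow_mul, mul_comm, zpow_mul, zpow_natCast, hm, one_zpow]
  obtain ⟨P, hP⟩ := hz.exists_le_sylow
  have hs : g ^ m ∈ (P : Subgroup G) := hP (Subgroup.mem_zpowers _)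
  have hc : g ^ m * x * (g ^ m)⁻¹ * x⁻¹ ∈ (P : Subgroup G) := by
    have h1 := (h P).conj_mem _ (inv_mem hs) x
    simpa [mul_assoc] using mul_mem hs h1
  rw [hinv] at hc
  obtain ⟨j, hj⟩ := P.2 ⟨_, hc⟩
  have h2 : (x⁻¹ * x⁻¹) ^ 2 ^ j = 1 := congrArg Subtype.val hj
  have h3 : (x⁻¹ * x⁻¹) ^ q ^ k = 1 := by
    rw [← pow_two, ← pow_mul, mul_comm, pow_mul, inv_pow, hk, inv_one, one_pow]
  have hq' : Nat.Coprime (2 ^ j) (q ^ k) :=
    Nat.Coprime.pow _ _ ((Nat.coprime_primes Nat.prime_two (Fact.out : q.Prime)).2 (Ne.symm hq))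
  have h4 := pow_gcd_eq_one.2 ⟨h2, h3⟩
  rw [hq'.gcd_eq_one, pow_one] at h4
  exact hne (eq_inv_of_mul_eq_one_left h4 |>.trans (inv_inv x))

/-- Without a normal Sylow 2-subgroup some element of odd prime order is inverted. -/
theorem exists_inv_of_not_two_closed (h : ¬ ∀ P : Sylow 2 G, (P : Subgroup G).Normal) :
    ∃ q : ℕ, q.Prime ∧ q ≠ 2 ∧ Inv q (⊤ : Subgroup G) := by
  haveI : Fact (Nat.Prime 2) := ⟨Nat.prime_two⟩
  set Q := pCore 2 G
  set π := QuotientGroup.mk' Q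
  have hπ : Function.Surjective π := QuotientGroup.mk'_surjective Q
  obtain ⟨t, ht⟩ : ∃ t : G ⧸ Q, orderOf t = 2 := by
    by_contra hno
    push Not at hno
    refine h fun P => ?_
    have hle : (P : Subgroup G) ≤ Q := by
      intro s hs
      rw [← QuotientGroup.eq_one_iff (N := Q) s]
      by_contra hs1
      obtain ⟨j, hj⟩ := P.2 ⟨s, hs⟩
      have hj' : π s ^ 2 ^ j = 1 := by
        rw [← map_pow, show s ^ 2 ^ j = 1 from congrArg Subtype.val hj, map_one]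
      have hdvd : 2 ∣ orderOf (π s) := by
        obtain ⟨i, -, hi⟩ := (Nat.dvd_prime_pow Nat.prime_two).1 (orderOf_dvd_of_pow_eq_one hj')
        rcases i with _ | i
        · exact absurd (orderOf_eq_one_iff.1 hi) hs1
        · exact hi ▸ dvd_pow_self 2 i.succ_ne_zero
      exact hno (π s ^ (orderOf (π s) / 2))
        (orderOf_pow_orderOf_div (orderOf_pos _).ne' hdvd)
    rw [le_antisymm hle (pCore_le_sylow P)]
    infer_instance
  have htO : t ∉ pCore 2 (G ⧸ Q) := fun hm => by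
    rw [Fusion.pCore_quotient_eq_bot, Subgroup.mem_bot] at hm
    rw [hm, orderOf_one] at ht
    exact absurd ht (by decide)
  obtain ⟨h0, hh0, hodd, hinv⟩ := Solv.exists_odd_inverted ht htO
  obtain ⟨q, hq, hqd⟩ := Nat.exists_prime_and_dvd (orderOf_eq_one_iff.not.2 hh0)
  haveI : Fact q.Prime := ⟨hq⟩
  have hq2 : q ≠ 2 := fun e => Nat.not_even_iff_odd.2 hodd (even_iff_two_dvd.2 (e ▸ hqd))
  set d := h0 ^ (orderOf h0 / q) with hd
  have hdq : orderOf d = q := orderOf_pow_orderOf_div (orderOf_pos h0).ne' hqd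
  have hdt : t * d * t⁻¹ = d⁻¹ := by rw [hd, ← conj_pow, hinv, inv_pow]
  refine ⟨q, hq, hq2, ?_⟩
  set W := (Subgroup.zpowers d).comap π
  set M := Subgroup.normalizer (W : Set G)
  have hWM : W ≤ M := Subgroup.le_normalizer
  obtain ⟨g, rfl⟩ := hπ t
  have hgM : g ∈ M := by
    refine mem_normalizer_of_cj_le ?_
    rintro _ ⟨w, hw, rfl⟩
    show π (g * w * g⁻¹) ∈ Subgroup.zpowers d
    obtain ⟨i, hi⟩ := Subgroup.mem_zpowers_iff.1 (show π w ∈ Subgroup.zpowers d from hw)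
    rw [map_mul, map_mul, map_inv, ← hi, ← conj_zpow, hdt]
    exact zpow_mem (inv_mem (Subgroup.mem_zpowers _)) i
  haveI : (W.subgroupOf M).Normal := Subgroup.normal_in_normalizer
  obtain ⟨T⟩ : Nonempty (Sylow q (W.subgroupOf M)) := inferInstance
  set R := (T : Subgroup (W.subgroupOf M)).map (W.subgroupOf M).subtype
  obtain ⟨n, hn, w, hw, hnw⟩ := Fusion.exists_mul_of_mem_sup
    (show Subgroup.normalizer (R : Set M) ≤ Subgroup.normalizer ((W.subgroupOf M : Subgroup M) : Set M) from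
      le_top.trans (Subgroup.normalizer_eq_top_iff.2 (inferInstance : (W.subgroupOf M).Normal)).ge)
    ((Sylow.normalizer_sup_eq_top T).ge (Subgroup.mem_top (⟨g, hgM⟩ : M)))
  have hg : π g = π (n : G) * π (w : G) := by
    rw [← map_mul]; exact congrArg π (congrArg Subtype.val hnw).symm
  obtain ⟨i, hi⟩ := Subgroup.mem_zpowers_iff.1 (show π (w : G) ∈ Subgroup.zpowers d from hw)
  have hnd : π (n : G) * d * (π (n : G))⁻¹ = d⁻¹ := by
    rw [← hdt, hg, ← hi]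
    group
  -- `R` maps injectively
  have hinj : ∀ x ∈ R, π (x : G) = 1 → x = 1 := by
    rintro _ ⟨x, hx, rfl⟩ hπx
    obtain ⟨j, hj⟩ := T.2 ⟨x, hx⟩
    have hxQ : (((x : M) : G)) ∈ Q := (QuotientGroup.eq_one_iff _).1 hπx
    obtain ⟨l, hl⟩ := isPGroup_pCore 2 G ⟨_, hxQ⟩
    have h1 : ((x : M) : G) ^ q ^ j = 1 := congrArg (fun z : W.subgroupOf M => ((z : M) : G))
      (congrArg Subtype.val hj)
    have h2 : ((x : M) : G) ^ 2 ^ l = 1 := congrArg Subtype.val hl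
    have h4 := pow_gcd_eq_one.2 ⟨h1, h2⟩
    rw [(Nat.Coprime.pow _ _ ((Nat.coprime_primes hq Nat.prime_two).2 hq2)).gcd_eq_one, pow_one] at h4
    exact Subtype.ext h4
  have hTne : (T : Subgroup (W.subgroupOf M)) ≠ ⊥ := by
    apply Sylow.ne_bot_of_dvd_card T
    obtain ⟨e, he⟩ := hπ d
    have heW : e ∈ W := by
      show π e ∈ Subgroup.zpowers d
      rw [he]; exact Subgroup.mem_zpowers d
    have hmem : (⟨e, hWM heW⟩ : M) ∈ W.subgroupOf M := heW
    have h1 : orderOf (π e) ∣ orderOf (⟨_, hmem⟩ : W.subgroupOf M) :=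
      orderOf_map_dvd (π.comp (M.subtype.comp (W.subgroupOf M).subtype)) (⟨_, hmem⟩ : W.subgroupOf M)
    rw [he] at h1
    exact hdq ▸ h1.trans (orderOf_dvd_natCard _)
  obtain ⟨x, hx, hx1⟩ := (Subgroup.bot_or_exists_ne_one (T : Subgroup (W.subgroupOf M))).resolve_left hTne
  have hxR : (x : M) ∈ R := ⟨x, hx, rfl⟩
  obtain ⟨j, hj⟩ := T.2 ⟨x, hx⟩
  refine ⟨((x : M) : G), trivial, fun h1 => hx1 (Subtype.ext (Subtype.ext h1)),
    ⟨j, congrArg (fun z : W.subgroupOf M => ((z : M) : G)) (congrArg Subtype.val hj)⟩,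
    ((n : M) : G), trivial, ?_⟩
  obtain ⟨r, hr⟩ := Subgroup.mem_zpowers_iff.1 (show π ((x : M) : G) ∈ Subgroup.zpowers d from x.2)
  have h5 := hinj (n * (x : M) * n⁻¹ * (x : M))
    (mul_mem ((Subgroup.mem_normalizer_iff.1 hn _).1 hxR) hxR) (by
      show π ((n : G) * ((x : M) : G) * (n : G)⁻¹ * ((x : M) : G)) = 1
      rw [map_mul, map_mul, map_mul, map_inv, ← hr, ← conj_zpow, hnd, inv_zpow, inv_mul_cancel])
  exact eq_inv_of_mul_eq_one_left (congrArg Subtype.val h5)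

theorem exists_inverted_mem_sylow {q : ℕ} [Fact q.Prime] (hq : q ≠ 2)
    (h : Inv q (⊤ : Subgroup G)) (T : Sylow q G) :
    ∃ x ∈ (T : Subgroup G), x ≠ 1 ∧
      ∃ g ∈ Subgroup.normalizer (centerThompsonAOf (T : Subgroup G) : Set G), g * x * g⁻¹ = x⁻¹ := by
  have hN := inv_normalizer_zJ hq h T
  rw [show zJ (T : Subgroup G) = centerThompsonAOf (T : Subgroup G) from zFam_comm_eq _] at hN
  set N := Subgroup.normalizer (centerThompsonAOf (T : Subgroup G) : Set G) with hNdef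
  have hTN : (T : Subgroup G) ≤ N := by
    rw [hNdef, ← zFam_comm_eq]
    exact Subgroup.le_normalizer.trans (replFamily_comm.normalizer_le_zFam _)
  obtain ⟨x, hx, hx1, ⟨k, hk⟩, g, hg, he⟩ := hN
  have hz : IsPGroup q (Subgroup.zpowers (⟨x, hx⟩ : N)) := by
    rintro ⟨z, hz⟩
    obtain ⟨i, rfl⟩ := Subgroup.mem_zpowers_iff.1 hz
    refine ⟨k, Subtype.ext (Subtype.ext ?_)⟩
    show (x ^ i) ^ q ^ k = 1
    rw [← zpow_natCast, ← zpow_mul, mul_comm, zpow_mul, zpow_natCast, hk, one_zpow]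
  obtain ⟨T', hT'⟩ := hz.exists_le_sylow
  obtain ⟨n, hn⟩ := MulAction.exists_smul_eq N T' (T.subtype hTN)
  have h1 : (n : G) * x * (n : G)⁻¹ ∈ (T : Subgroup G) := by
    have h2 : n * (⟨x, hx⟩ : N) * n⁻¹ ∈ ((T.subtype hTN : Sylow q N) : Subgroup N) := by
      rw [← hn, Sylow.coe_subgroup_smul]
      exact ⟨⟨x, hx⟩, hT' (Subgroup.mem_zpowers _), rfl⟩
    exact h2
  refine ⟨_, h1, conj_eq_one_iff.not.2 hx1, (n : G) * g * (n : G)⁻¹,
    mul_mem (mul_mem n.2 hg) (inv_mem n.2), ?_⟩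
  calc (n : G) * g * (n : G)⁻¹ * ((n : G) * x * (n : G)⁻¹) * ((n : G) * g * (n : G)⁻¹)⁻¹
      = (n : G) * (g * x * g⁻¹) * (n : G)⁻¹ := by group
    _ = ((n : G) * x * (n : G)⁻¹)⁻¹ := by rw [he, conj_inv]

end Cfsg.Agent.Local.InvControl
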