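import Mathlib
import Cfsg.Agent.Lib.Fusion.QuadraticPair

/-!
# Involutions generated by two quadratic elements

Two quadratic units `U = 1 + N`, `V = 1 + M` generate a group inside the image of the quaternion
algebra over `ℤ[S]`, `S = NM + MN`. The sum of an element and its inverse is therefore central
there, so an involution of that group commutes with `U`.
-/

set_option autoImplicit false

open scoped Quaternion

namespace Cfsg.Agent.Local.QuadInv

variable {R : Type*} [Ring R]

/-- An involution in the group generated by two quadratic units commutes with both. -/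
theorem commute_of_sq_one (h2 : IsUnit (2 : R)) {U V g : Rˣ}
    (hU : ((U : R) - 1) * ((U : R) - 1) = 0) (hV : ((V : R) - 1) * ((V : R) - 1) = 0)
    (hg : g ∈ Subgroup.closure ({U * U, V * V} : Set Rˣ)) (hg2 : g * g = 1) :
    (g : R) * (U : R) = (U : R) * (g : R) := by
  set N : R := (U : R) - 1 with hN
  set M : R := (V : R) - 1 with hM
  set S : R := N * M + M * N with hS
  have hNS : S * N = N * S := by
    rw [hS, add_mul, mul_add, mul_assoc M, hU, mul_zero, ← mul_assoc N N, hU, zero_mul,
      mul_assoc, add_zero, zero_add]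
  have hMS : S * M = M * S := by
    rw [hS, add_mul, mul_add, mul_assoc N M M, hV, mul_zero, ← mul_assoc M M, hV, zero_mul,
      mul_assoc, add_zero, zero_add]
  let R' := Subring.centralizer ({S} : Set R)
  have memR : ∀ x : R, S * x = x * S → x ∈ R' := fun x hx => by
    rw [Subring.mem_centralizer_iff]
    rintro _ rfl
    exact hx
  let N' : R' := ⟨N, memR N hNS⟩
  let M' : R' := ⟨M, memR M hMS⟩
  have hS' : (N' * M' + M' * N' : R') ∈ Subring.center R' := by
    rw [Subring.mem_center_iff]
    intro x
    have hx := Subring.mem_centralizer_iff.1 x.2 S rfl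
    exact Subtype.ext hx.symm
  let c : Subring.center R' := ⟨N' * M' + M' * N', hS'⟩
  have hN2 : N' * N' = 0 := Subtype.ext hU
  have hM2 : M' * M' = 0 := Subtype.ext hV
  have hsmul : ∀ (z : Subring.center R') (x : R'), z • x = (z : R') * x := fun _ _ => rfl
  have hcI : (N' + M') * (N' + M') = (c : R') := by
    show _ = N' * M' + M' * N'
    rw [add_mul, mul_add, mul_add, hN2, hM2]; abel
  have hcJ : (N' - M') * (N' - M') = -(c : R') := by
    show _ = -(N' * M' + M' * N')
    rw [sub_mul, mul_sub, mul_sub, hN2, hM2]; abel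
  have hJI : (N' - M') * (N' + M') = -((N' + M') * (N' - M')) := by
    simp only [sub_mul, mul_add, add_mul, mul_sub, hN2, hM2]; abel
  let q : QuaternionAlgebra.Basis R' c 0 (-c) :=
    { i := N' + M'
      j := N' - M'
      k := (N' + M') * (N' - M')
      i_mul_i := by rw [hsmul, hcI, zero_smul, add_zero, mul_one]
      j_mul_j := by rw [hsmul, hcJ, mul_one]; rfl
      i_mul_j := rfl
      j_mul_i := by rw [hJI, zero_smul, zero_sub] }
  let Φ := q.liftHom
  -- the good elements
  let Good : Rˣ → Prop := fun x => ∃ a, ((Φ a : R') : R) = (x : R) ∧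
    ((Φ (star a) : R') : R) = ((x⁻¹ : Rˣ) : R)
  have hinv : ∀ (W : Rˣ) (D : R), (W : R) = 1 + D → D * D = 0 →
      (((W * W)⁻¹ : Rˣ) : R) = 1 - (D + D) := by
    intro W D hW hD
    refine Units.inv_eq_of_mul_eq_one_right ?_
    rw [Units.val_mul, hW]
    simp only [mul_add, add_mul, mul_sub, one_mul, mul_one, hD, add_zero, zero_add]
    simp [mul_assoc, hD]
  have hgen : ∀ (W : Rˣ) (D : R) (b : Subring.center R'), (W : R) = 1 + D → D * D = 0 →
      ((Φ ⟨1, 1, b, 0⟩ : R') : R) = 1 + (D + D) →
      ((Φ ⟨1, -1, -b, 0⟩ : R') : R) = 1 - (D + D) → Good (W * W) := by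
    intro W D b hW hD h1 h1'
    refine ⟨⟨1, 1, b, 0⟩, ?_, ?_⟩
    · rw [h1, Units.val_mul, hW]
      simp only [mul_add, add_mul, one_mul, mul_one, hD]; abel
    · rw [hinv W D hW hD, ← h1']
      congr 2
      ext <;> simp
  have lift_val : ∀ a b : Subring.center R', Φ ⟨1, a, b, 0⟩ =
      1 + (a : R') * (N' + M') + (b : R') * (N' - M') := by
    intro a b
    show q.lift _ = _
    rw [QuaternionAlgebra.Basis.lift]
    simp only [map_one, hsmul]
    show (1 : R') + (a : R') * (N' + M') + (b : R') * (N' - M') +
      ((0 : Subring.center R') : R') * q.k = _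
    rw [show ((0 : Subring.center R') : R') = 0 from rfl, zero_mul, add_zero]
  have hgood : ∀ x ∈ Subgroup.closure ({U * U, V * V} : Set Rˣ), Good x := by
    intro x hx
    induction hx using Subgroup.closure_induction with
    | mem x hx =>
      rcases hx with rfl | rfl
      · refine hgen U N 1 (by rw [hN]; abel) hU ?_ ?_
        · rw [lift_val]
          show (1 : R) + (1 : R) * (N + M) + (1 : R) * (N - M) = _
          rw [one_mul, one_mul]; abel
        · rw [lift_val]
          show (1 : R) + (-(1 : R)) * (N + M) + (-(1 : R)) * (N - M) = _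
          rw [neg_one_mul, neg_one_mul]; abel
      · refine hgen V M (-1) (by rw [hM]; abel) hV ?_ ?_
        · rw [lift_val]
          show (1 : R) + (1 : R) * (N + M) + (-(1 : R)) * (N - M) = _
          rw [one_mul, neg_one_mul]; abel
        · rw [lift_val]
          show (1 : R) + (-(1 : R)) * (N + M) + (-(-(1 : R))) * (N - M) = _
          rw [neg_neg, one_mul, neg_one_mul]; abel
    | one => exact ⟨1, by simp, by simp⟩
    | mul x y _ _ hx hy =>
      obtain ⟨a, ha, ha'⟩ := hx
      obtain ⟨b, hb, hb'⟩ := hy
      exact ⟨a * b, by rw [map_mul, Subring.coe_mul, ha, hb, Units.val_mul],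
        by rw [star_mul, map_mul, Subring.coe_mul, ha', hb', mul_inv_rev, Units.val_mul]⟩
    | inv x _ hx =>
      obtain ⟨a, ha, ha'⟩ := hx
      exact ⟨star a, ha', by rw [star_star, inv_inv, ha]⟩
  obtain ⟨a, ha, ha'⟩ := hgood g hg
  rw [inv_eq_of_mul_eq_one_right hg2] at ha'
  have hSU : S * (U : R) = (U : R) * S := by
    rw [show (U : R) = 1 + N by rw [hN]; abel]
    exact ((Commute.one_right S).add_right hNS).eq
  have hsum : Φ (a + star a) * ⟨(U : R), memR _ hSU⟩ =
      ⟨(U : R), memR _ hSU⟩ *
      Φ (a + star a) := by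
    rw [QuaternionAlgebra.self_add_star', ← congrFun QuaternionAlgebra.coe_algebraMap,
      AlgHom.commutes]
    exact Algebra.commutes _ _
  have h := congrArg Subtype.val hsum
  rw [Subring.coe_mul, Subring.coe_mul, map_add, Subring.coe_add, ha, ha'] at h
  change ((g : R) + g) * (U : R) = (U : R) * ((g : R) + g) at h
  rw [← two_mul, mul_assoc, ← mul_assoc (U : R), show (U : R) * 2 = 2 * U from
    (Commute.ofNat_right _ 2).eq, mul_assoc] at h
  exact h2.mul_left_cancel h

end Cfsg.Agent.Local.QuadInv
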