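import Cfsg.Agent.Lib.Fusion.QuadraticPair
import Cfsg.Agent.Lib.Small.PSL2

/-!
# Quadratic pairs against relations in the acting group

A quadratic pair for an odd prime maps onto a nonabelian subgroup of `SL₂(k)`, with the elements
centralizing the module in the kernel. Hence no word `x y⁻¹ x` of such a pair is an involution
modulo that centralizer, and the pair cannot live where 2-subgroups are abelian (`p = 3`).
-/

set_option autoImplicit false

open Matrix
open scoped commutatorElement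

namespace Cfsg.Agent.Local.QuadRel

section SL

variable {k : Type*} [Field k]

local notation "SL2" => Matrix.SpecialLinearGroup (Fin 2) k

theorem commute_of_fixed {a b : SL2} {r : Fin 2 → k} (hr : r ≠ 0) (ha : a.1 *ᵥ r = r)
    (hb : b.1 *ᵥ r = r) : a * b = b * a := by
  have hda := a.2; have hdb := b.2
  rw [Matrix.det_fin_two] at hda hdb
  have a0 := congrFun ha 0; have a1 := congrFun ha 1
  have b0 := congrFun hb 0; have b1 := congrFun hb 1
  simp only [mulVec, dotProduct, Fin.sum_univ_two] at a0 a1 b0 b1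
  apply Subtype.ext
  show a.1 * b.1 = b.1 * a.1
  by_cases h0 : r 0 = 0
  · have h1 : r 1 ≠ 0 := by
      intro h1; apply hr; ext i; fin_cases i <;> assumption
    simp only [h0, mul_zero, zero_add] at a0 a1 b0 b1
    have ea : a.1 0 1 = 0 := (mul_eq_zero.1 a0).resolve_right h1
    have eb : b.1 0 1 = 0 := (mul_eq_zero.1 b0).resolve_right h1
    have fa : a.1 1 1 = 1 := mul_right_cancel₀ h1 (by rw [a1, one_mul])
    have fb : b.1 1 1 = 1 := mul_right_cancel₀ h1 (by rw [b1, one_mul])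
    simp only [ea, fa, zero_mul, sub_zero, mul_one] at hda
    simp only [eb, fb, zero_mul, sub_zero, mul_one] at hdb
    ext i j
    fin_cases i <;> fin_cases j <;>
      simp [Matrix.mul_apply, Fin.sum_univ_two, ea, eb, fa, fb, hda, hdb] <;> ring
  · set t := r 1 / r 0 with ht
    have ht' : r 1 = t * r 0 := by rw [ht, div_mul_cancel₀ _ h0]
    have key : ∀ m : Matrix (Fin 2) (Fin 2) k, m 0 0 * m 1 1 - m 0 1 * m 1 0 = 1 →
        m 0 0 * r 0 + m 0 1 * r 1 = r 0 → m 1 0 * r 0 + m 1 1 * r 1 = r 1 →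
        m 1 1 = 1 + m 0 1 * t ∧ m 0 0 = 1 - m 0 1 * t ∧ m 1 0 = -(m 0 1 * t * t) := by
      intro m hd e0 e1
      rw [ht'] at e0 e1
      have f0 : m 0 0 = 1 - m 0 1 * t := mul_right_cancel₀ h0 (by linear_combination e0)
      have f1 : m 1 0 = t - m 1 1 * t := mul_right_cancel₀ h0 (by linear_combination e1)
      have f2 : m 1 1 = 1 + m 0 1 * t := by
        rw [f0, f1] at hd; linear_combination hd
      exact ⟨f2, f0, by rw [f1, f2]; ring⟩
    obtain ⟨p1, p2, p3⟩ := key _ hda a0 a1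
    obtain ⟨q1, q2, q3⟩ := key _ hdb b0 b1
    ext i j
    fin_cases i <;> fin_cases j <;>
      simp [Matrix.mul_apply, Fin.sum_univ_two, p1, p2, p3, q1, q2, q3] <;> ring

theorem central_of_sq (h2 : (2 : k) ≠ 0) {z : SL2} (hz : z * z = 1) (g : SL2) :
    z * g = g * z := by
  have hd := z.2
  rw [Matrix.det_fin_two] at hd
  have e : z.1 * z.1 = 1 := congrArg Subtype.val hz
  have e00 := congrFun (congrFun e 0) 0; have e01 := congrFun (congrFun e 0) 1
  have e10 := congrFun (congrFun e 1) 0; have e11 := congrFun (congrFun e 1) 1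
  simp [Matrix.mul_apply, Fin.sum_univ_two] at e00 e01 e10 e11
  have htr : z.1 0 0 * (z.1 0 0 + z.1 1 1) = 2 := by linear_combination e00 + hd
  have hne : z.1 0 0 + z.1 1 1 ≠ 0 := fun h => h2 (by rw [← htr, h, mul_zero])
  have hb : z.1 0 1 = 0 := (mul_eq_zero.1 (show z.1 0 1 * (z.1 0 0 + z.1 1 1) = 0 by
    linear_combination e01)).resolve_right hne
  have hc : z.1 1 0 = 0 := (mul_eq_zero.1 (show z.1 1 0 * (z.1 0 0 + z.1 1 1) = 0 by
    linear_combination e10)).resolve_right hne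
  simp only [hb, hc, mul_zero, zero_mul, add_zero, zero_add, sub_zero] at e00 e11 hd
  have had : z.1 1 1 = z.1 0 0 := by linear_combination z.1 0 0 * hd - z.1 1 1 * e00
  apply Subtype.ext
  show z.1 * g.1 = g.1 * z.1
  ext i j
  fin_cases i <;> fin_cases j <;>
    simp [Matrix.mul_apply, Fin.sum_univ_two, hb, hc, had, mul_comm]

end SL

/-- An element of order `4` of `SL₂(3)`. -/
def q8i : Matrix.SpecialLinearGroup (Fin 2) (ZMod 3) := ⟨!![0, 1; -1, 0], by decide⟩

/-- An element of order `4` of `SL₂(3)` inverted by `q8i`. -/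
def q8j : Matrix.SpecialLinearGroup (Fin 2) (ZMod 3) := ⟨!![1, 1; 1, -1], by decide⟩

theorem q8_ne : q8i * q8j ≠ q8j * q8i := by decide +kernel

/-- The quaternion subgroup of `SL₂(3)`. -/
theorem q8_pgroup : IsPGroup 2 (Subgroup.zpowers q8j ⊔ Subgroup.zpowers q8i : Subgroup _) := by
  have hpow : ∀ g : Matrix.SpecialLinearGroup (Fin 2) (ZMod 3), g ^ 4 = 1 →
      IsPGroup 2 (Subgroup.zpowers g) := by
    rintro g hg ⟨z, hz⟩
    obtain ⟨i, rfl⟩ := Subgroup.mem_zpowers_iff.1 hz
    refine ⟨2, Subtype.ext ?_⟩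
    show (g ^ i) ^ 2 ^ 2 = 1
    rw [← zpow_natCast, ← _root_.zpow_mul, mul_comm, _root_.zpow_mul, zpow_natCast,
      show (2 : ℕ) ^ 2 = 4 from rfl, hg, _root_.one_zpow]
  refine IsPGroup.to_sup_of_normal_left' (hpow _ (by decide +kernel)) (hpow _ (by decide +kernel))
    (Subgroup.zpowers_le.2 (Subgroup.mem_normalizer_iff_map_conj_eq.2 ?_))
  rw [MonoidHom.map_zpowers]
  show Subgroup.zpowers (q8i * q8j * q8i⁻¹) = _
  rw [show q8i * q8j * q8i⁻¹ = q8j⁻¹ by decide +kernel, Subgroup.zpowers_inv]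

variable {G : Type*} [Group G] [Finite G] {p : ℕ} [Fact p.Prime]

/-- The representation of a quadratic pair, killing the centralizer of the module. -/
theorem exists_theta (V H : Subgroup G) (hV : Cfsg.IsElementaryAbelian p V)
    (hHV : H ≤ Subgroup.normalizer (V : Set G)) {x y : G} (hx : x ∈ H) (hy : y ∈ H)
    (hqx : ∀ v ∈ V, ⁅⁅v, x⁆, x⁆ = 1) (hqy : ∀ v ∈ V, ⁅⁅v, y⁆, y⁆ = 1)
    (hpg : ∃ g ∈ Subgroup.closure ({x, y} : Set G),
      ∀ j : ℕ, g ^ p ^ j ∉ Subgroup.centralizer (V : Set G)) :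
    ∃ θ : Subgroup.closure ({x, y} : Set G) →*
        Matrix.SpecialLinearGroup (Fin 2) (AlgebraicClosure (ZMod p)),
      (∀ g : Subgroup.closure ({x, y} : Set G),
        (g : G) ∈ Subgroup.centralizer (V : Set G) → θ g = 1) ∧
      (∃ a b, θ a ^ p = 1 ∧ θ b ^ p = 1 ∧ θ a * θ b ≠ θ b * θ a) ∧
      θ ⟨x, Subgroup.subset_closure (by simp)⟩ * θ ⟨y, Subgroup.subset_closure (by simp)⟩ ≠
        θ ⟨y, Subgroup.subset_closure (by simp)⟩ * θ ⟨x, Subgroup.subset_closure (by simp)⟩ := by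
  classical
  obtain ⟨n, co, A, θ, hco, -, hA, ⟨a, b, hpa, hpb, hne⟩, C, hC0, hC⟩ :=
    Fusion.exists_quadratic_data V H hV hHV hx hy hqx hqy hpg
  haveI : CharP (AlgebraicClosure (ZMod p)) p := charP_of_injective_algebraMap
    (algebraMap (ZMod p) (AlgebraicClosure (ZMod p))).injective p
  refine ⟨θ, ?_, ⟨a, b, hpa, hpb, hne⟩, ?_⟩
  · -- the kernel of `C` is invariant, hence trivial
    have hinj : ∀ r : Fin 2 → AlgebraicClosure (ZMod p), C *ᵥ r = 0 → r = 0 := by
      intro r hr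
      by_contra hr0
      have hinv : ∀ g, C *ᵥ ((θ g).1 *ᵥ r) = 0 := fun g => by
        rw [mulVec_mulVec, ← hC, ← mulVec_mulVec, hr, mulVec_zero]
      have hdet : ∀ g, r 0 * ((θ g).1 *ᵥ r) 1 - r 1 * ((θ g).1 *ᵥ r) 0 = 0 := by
        intro g
        by_contra hd
        apply hC0
        ext i j
        have u := congrFun hr i
        have w := congrFun (hinv g) i
        simp only [mulVec, dotProduct, Fin.sum_univ_two, Pi.zero_apply] at u w hd
        rw [Matrix.zero_apply]
        fin_cases j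
        · refine (mul_eq_zero.1 ?_).resolve_right hd
          simp only [Fin.zero_eta]
          linear_combination ((θ g).1 1 0 * r 0 + (θ g).1 1 1 * r 1) * u - r 1 * w
        · refine (mul_eq_zero.1 ?_).resolve_right hd
          simp only [Fin.mk_one]
          linear_combination r 0 * w - ((θ g).1 0 0 * r 0 + (θ g).1 0 1 * r 1) * u
      have heig : ∀ g, θ g ^ p = 1 → (θ g).1 *ᵥ r = r := by
        intro g hg
        obtain ⟨l, hl⟩ : ∃ l : AlgebraicClosure (ZMod p), (θ g).1 *ᵥ r = l • r := by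
          have h := hdet g
          by_cases h0 : r 0 = 0
          · have h1 : r 1 ≠ 0 := by
              intro h1; apply hr0; ext i; fin_cases i <;> assumption
            rw [h0, zero_mul, zero_sub, neg_eq_zero] at h
            have e0 := (mul_eq_zero.1 h).resolve_left h1
            refine ⟨((θ g).1 *ᵥ r) 1 / r 1, ?_⟩
            ext i; fin_cases i
            · simp [e0, h0]
            · simp [div_mul_cancel₀ _ h1]
          · refine ⟨((θ g).1 *ᵥ r) 0 / r 0, ?_⟩
            ext i; fin_cases i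
            · simp [div_mul_cancel₀ _ h0]
            · simp only [Pi.smul_apply, smul_eq_mul, Fin.mk_one]
              field_simp
              linear_combination h
        have hp : ∀ j : ℕ, ((θ g).1 ^ j) *ᵥ r = l ^ j • r := by
          intro j
          induction j with
          | zero => simp
          | succ j ih =>
            rw [pow_succ, ← mulVec_mulVec, hl, mulVec_smul, ih, smul_smul, ← pow_succ']
        have h1 := hp p
        rw [show (θ g).1 ^ p = (θ g ^ p).1 from (Matrix.SpecialLinearGroup.coe_pow (θ g) p).symm, hg] at h1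
        replace h1 : r = l ^ p • r := (one_mulVec r).symm.trans h1
        have hlp : l ^ p = 1 := by
          by_contra hl1
          apply hr0
          have h2 : (l ^ p - 1) • r = 0 := by rw [sub_smul, one_smul, ← h1, sub_self]
          exact (smul_eq_zero.1 h2).resolve_left (sub_ne_zero.2 hl1)
        have hl1 : l = 1 := by
          have : (l - 1) ^ p = 0 := by rw [sub_pow_char, hlp, one_pow, sub_self]
          exact sub_eq_zero.1 (eq_zero_of_pow_eq_zero this)
        rw [hl, hl1, one_smul]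
      exact hne (commute_of_fixed hr0 (heig a hpa) (heig b hpb))
    intro g hg
    have hA1 : A g = 1 := by
      refine Matrix.ext_iff_mulVec.2 fun e => ?_
      obtain ⟨v, rfl⟩ := hco.2 e
      rw [one_mulVec]
      refine (hA g v v ?_).symm
      rw [← Subgroup.mem_centralizer_iff.1 hg v v.2, mul_inv_cancel_right]
    have hCg := hC g
    rw [hA1, Matrix.map_one _ (map_zero _) (map_one _), Matrix.one_mul] at hCg
    apply Subtype.ext
    refine Matrix.ext_iff_mulVec.2 fun e => ?_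
    have h0 : C *ᵥ ((θ g).1 *ᵥ e - e) = 0 := by
      rw [mulVec_sub, mulVec_mulVec, ← hCg, sub_self]
    exact (sub_eq_zero.1 (hinj _ h0)).trans (one_mulVec e).symm
  · intro hc
    apply hne
    let K := Subgroup.closure ({x, y} : Set G)
    let X : K := ⟨x, Subgroup.subset_closure (by simp)⟩
    let Y : K := ⟨y, Subgroup.subset_closure (by simp)⟩
    have hgen : Subgroup.closure ({X, Y} : Set K) = ⊤ := by
      refine Subgroup.map_injective K.subtype_injective ?_
      rw [MonoidHom.map_closure, Set.image_pair, ← MonoidHom.range_eq_map, Subgroup.range_subtype]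
      rfl
    have all : ∀ s, θ s * θ X = θ X * θ s → θ s * θ Y = θ Y * θ s → ∀ t, θ s * θ t = θ t * θ s := by
      intro s hX hY t
      have ht : t ∈ (Subgroup.centralizer {θ s}).comap θ := by
        refine (hgen ▸ (Subgroup.closure_le _).2 ?_ : (⊤ : Subgroup K) ≤ _) (Subgroup.mem_top t)
        rintro z (rfl | rfl) <;> rw [SetLike.mem_coe, Subgroup.mem_comap,
          Subgroup.mem_centralizer_singleton_iff]
        · exact hX.symm
        · exact hY.symm
      rw [Subgroup.mem_comap, Subgroup.mem_centralizer_singleton_iff] at ht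
      exact ht.symm
    exact all a ((all X rfl hc a).symm) ((all Y hc.symm rfl a).symm) b

/-- For an odd prime, `x y⁻¹ x` of a quadratic pair is never an involution modulo the
centralizer of the module. -/
theorem sq_relation (hp2 : p ≠ 2) (V H : Subgroup G) (hV : Cfsg.IsElementaryAbelian p V)
    (hHV : H ≤ Subgroup.normalizer (V : Set G)) {x y : G} (hx : x ∈ H) (hy : y ∈ H)
    (hqx : ∀ v ∈ V, ⁅⁅v, x⁆, x⁆ = 1) (hqy : ∀ v ∈ V, ⁅⁅v, y⁆, y⁆ = 1)
    (hw2 : x * y⁻¹ * x * (x * y⁻¹ * x) ∈ Subgroup.centralizer (V : Set G)) :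
    x * y⁻¹ * x ∈ Subgroup.centralizer (V : Set G) := by
  by_contra hw
  set w := x * y⁻¹ * x with hwdef
  have hxK : x ∈ Subgroup.closure ({x, y} : Set G) := Subgroup.subset_closure (by simp)
  have hyK : y ∈ Subgroup.closure ({x, y} : Set G) := Subgroup.subset_closure (by simp)
  obtain ⟨θ, hker, -, hne⟩ := exists_theta V H hV hHV hx hy hqx hqy
    ⟨w, mul_mem (mul_mem hxK (inv_mem hyK)) hxK, fun j hj => by
      obtain ⟨i, hi⟩ := ((Fact.out : p.Prime).odd_of_ne_two hp2).pow (n := j)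
      apply hw
      rw [hi, pow_add, pow_mul, pow_one, pow_two] at hj
      exact (Subgroup.mul_mem_cancel_left _ (pow_mem hw2 i)).1 hj⟩
  set X : Subgroup.closure ({x, y} : Set G) := ⟨x, hxK⟩
  set Y : Subgroup.closure ({x, y} : Set G) := ⟨y, hyK⟩
  haveI : CharP (AlgebraicClosure (ZMod p)) p := charP_of_injective_algebraMap
    (algebraMap (ZMod p) (AlgebraicClosure (ZMod p))).injective p
  have h2 : (2 : AlgebraicClosure (ZMod p)) ≠ 0 := Ring.two_ne_zero (by
    rw [ringChar.eq (AlgebraicClosure (ZMod p)) p]; exact hp2)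
  set W := θ X * (θ Y)⁻¹ * θ X with hW
  have hW2 : W * W = 1 := by
    rw [hW, ← map_inv, ← map_mul, ← map_mul, ← map_mul]
    exact hker _ hw2
  have hY : θ Y = θ X * W⁻¹ * θ X := by rw [hW]; group
  have hc : θ X * W⁻¹ = W⁻¹ * θ X := (Commute.inv_left (central_of_sq h2 hW2 (θ X))).eq.symm
  apply hne
  show θ X * θ Y = θ Y * θ X
  rw [hY, hc]
  simp only [← mul_assoc]
  rw [hc]

set_option maxHeartbeats 1000000 in
/-- In characteristic `3` the 2-subgroups acting with a quadratic pair are not all abelian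
modulo the centralizer of the module. -/
theorem not_two_abelian (hp3 : p = 3) (V H : Subgroup G) (hV : Cfsg.IsElementaryAbelian p V)
    (hHV : H ≤ Subgroup.normalizer (V : Set G)) {x y : G} (hx : x ∈ H) (hy : y ∈ H)
    (hqx : ∀ v ∈ V, ⁅⁅v, x⁆, x⁆ = 1) (hqy : ∀ v ∈ V, ⁅⁅v, y⁆, y⁆ = 1)
    (hpg : ∃ g ∈ Subgroup.closure ({x, y} : Set G),
      ∀ j : ℕ, g ^ p ^ j ∉ Subgroup.centralizer (V : Set G))
    (hab : ∀ T : Subgroup G, T ≤ H → IsPGroup 2 T → ∀ a ∈ T, ∀ b ∈ T,
      ⁅a, b⁆ ∈ Subgroup.centralizer (V : Set G)) : False := by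
  classical
  subst hp3
  haveI : Fact (Nat.Prime 2) := ⟨Nat.prime_two⟩
  obtain ⟨θ, hker, ⟨a, b, hpa, hpb, hne⟩, -⟩ := exists_theta V H hV hHV hx hy hqx hqy hpg
  haveI : CharP (AlgebraicClosure (ZMod 3)) 3 := charP_of_injective_algebraMap
    (algebraMap (ZMod 3) (AlgebraicClosure (ZMod 3))).injective 3
  let K := Subgroup.closure ({x, y} : Set G)
  have hKH : K ≤ H := (Subgroup.closure_le _).2 (by rintro z (rfl | rfl) <;> assumption)
  haveI : Finite θ.range := Finite.of_surjective θ.rangeRestrict θ.rangeRestrict_surjective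
  obtain ⟨L, hL, ⟨iso⟩⟩ := Fusion.Dickson.exists_sl2_le 3 (by norm_num) θ.range
    ⟨_, ⟨a, rfl⟩, _, ⟨b, rfl⟩, hpa, hpb, hne⟩
  let R : Subgroup (Matrix.SpecialLinearGroup (Fin 2) (ZMod 3)) :=
    Subgroup.zpowers q8j ⊔ Subgroup.zpowers q8i
  have hR : IsPGroup 2 R := q8_pgroup
  let f : R →* θ.range :=
    (Subgroup.inclusion hL).comp (iso.symm.toMonoidHom.comp R.subtype)
  have hf : Function.Injective f :=
    ((Subgroup.inclusion_injective hL).comp iso.symm.injective).comp R.subtype_injective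
  obtain ⟨Q, hQ⟩ := (hR.of_surjective f.rangeRestrict f.rangeRestrict_surjective :
    IsPGroup 2 f.range).exists_le_sylow
  obtain ⟨P⟩ : Nonempty (Sylow 2 K) := inferInstance
  obtain ⟨g, hg⟩ := MulAction.exists_smul_eq θ.range
    (P.mapSurjective θ.rangeRestrict_surjective) Q
  have comm : ∀ s t : K, s ∈ P → t ∈ P → Commute (θ.rangeRestrict s) (θ.rangeRestrict t) := by
    intro s t hs ht
    have hc := hab ((P : Subgroup K).map K.subtype) ((Subgroup.map_subtype_le _).trans hKH)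
      (P.2.map _) s ⟨s, hs, rfl⟩ t ⟨t, ht, rfl⟩
    have h1 := hker ⁅s, t⁆ (by rw [← Subgroup.coe_subtype, map_commutatorElement]; exact hc)
    rw [map_commutatorElement, commutatorElement_eq_one_iff_mul_comm] at h1
    exact Subtype.ext h1
  have hQc : ∀ s ∈ Q, ∀ t ∈ Q, Commute s t := by
    intro s hs t ht
    have hs1 : s ∈ (Q : Subgroup θ.range) := hs
    have ht1 : t ∈ (Q : Subgroup θ.range) := ht
    rw [← hg, Sylow.coe_subgroup_smul, Sylow.coe_mapSurjective] at hs1 ht1
    obtain ⟨_, ⟨s', hs', rfl⟩, rfl⟩ := hs1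
    obtain ⟨_, ⟨t', ht', rfl⟩, rfl⟩ := ht1
    exact (comm s' t' hs' ht').map (MulAut.conj g).toMonoidHom
  have hi : q8i ∈ R := Subgroup.mem_sup_right (Subgroup.mem_zpowers q8i)
  have hj : q8j ∈ R := Subgroup.mem_sup_left (Subgroup.mem_zpowers q8j)
  have hij := hQc (f ⟨q8i, hi⟩) (hQ ⟨_, rfl⟩) (f ⟨q8j, hj⟩) (hQ ⟨_, rfl⟩)
  have h3 : q8i * q8j = q8j * q8i := by
    have := hf (a₁ := ⟨q8i, hi⟩ * ⟨q8j, hj⟩) (a₂ := ⟨q8j, hj⟩ * ⟨q8i, hi⟩) (by
      rw [map_mul, map_mul]; exact hij.eq)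
    exact congrArg Subtype.val this
  exact q8_ne h3

/-- In `PSL₂` over a field of odd order every nontrivial `p`-element has, up to conjugation, a
partner `y` conjugate to its inverse with `x y⁻¹ x` an involution. -/
theorem psl_partner {F : Type*} [Field F] [Fintype F] {n : ℕ} (hF : Fintype.card F = p ^ n)
    (u : Matrix.ProjectiveSpecialLinearGroup (Fin 2) F) (hu : u ≠ 1) (hup : u ^ p = 1) :
    ∃ g h : Matrix.ProjectiveSpecialLinearGroup (Fin 2) F,
      g * u * g⁻¹ * (h * u⁻¹ * h⁻¹)⁻¹ * (g * u * g⁻¹) ≠ 1 ∧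
      g * u * g⁻¹ * (h * u⁻¹ * h⁻¹)⁻¹ * (g * u * g⁻¹) *
        (g * u * g⁻¹ * (h * u⁻¹ * h⁻¹)⁻¹ * (g * u * g⁻¹)) = 1 := by
  open Small.PSL2 in
  classical
  haveI : Finite (Matrix.ProjectiveSpecialLinearGroup (Fin 2) F) :=
    Finite.of_surjective _ pr_surjective
  have hUp : IsPGroup p (U : Subgroup (Matrix.ProjectiveSpecialLinearGroup (Fin 2) F)) :=
    isPGroup_U hF
  let US : Sylow p (Matrix.ProjectiveSpecialLinearGroup (Fin 2) F) :=
    ⟨U, hUp, fun {_} hQ hle => U_maximal hQ hle⟩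
  have hz : IsPGroup p (Subgroup.zpowers u) := by
    rintro ⟨z, hz⟩
    obtain ⟨i, rfl⟩ := Subgroup.mem_zpowers_iff.1 hz
    refine ⟨1, Subtype.ext ?_⟩
    show (u ^ i) ^ p ^ 1 = 1
    rw [pow_one, ← zpow_natCast, ← _root_.zpow_mul, mul_comm, _root_.zpow_mul, zpow_natCast, hup,
      _root_.one_zpow]
  obtain ⟨P, hP⟩ := hz.exists_le_sylow
  obtain ⟨g, hg⟩ := MulAction.exists_smul_eq (Matrix.ProjectiveSpecialLinearGroup (Fin 2) F) P US
  have hgu : g * u * g⁻¹ ∈ (U : Subgroup _) := by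
    have h1 : g * u * g⁻¹ ∈ (US : Subgroup _) := by
      rw [← hg, Sylow.coe_subgroup_smul]
      exact ⟨u, hP (Subgroup.mem_zpowers u), rfl⟩
    exact h1
  obtain ⟨x, hx⟩ := (mem_U _).1 hgu
  have hx0 : x ≠ 0 := by
    intro h0
    have : uS (0 : F) = 1 := by apply Subtype.ext; simp [Matrix.one_fin_two]
    rw [h0, this, map_one] at hx
    exact hu (conj_eq_one_iff.1 hx.symm)
  let a : Fˣ := (Units.mk0 x hx0)⁻¹
  refine ⟨g, pr (wS * hS a) * g, ?_⟩
  have hy : (pr (wS * hS a) * g * u⁻¹ * (pr (wS * hS a) * g)⁻¹)⁻¹ = pr (vS (-x⁻¹)) := by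
    have e1 : wS * hS a * uS x = vS (-x⁻¹) * (wS * hS a) := by
      rw [mul_assoc, hS_uS, ← mul_assoc, wS_uS, mul_assoc]
      congr 2
      simp only [a, Units.val_inv_eq_inv_val, Units.val_mk0]
      field_simp
    calc _ = pr (wS * hS a) * (g * u * g⁻¹) * (pr (wS * hS a))⁻¹ := by group
      _ = _ := by rw [← hx, ← map_mul, e1, map_mul, mul_inv_cancel_right]
  rw [hy, ← hx, ← map_mul, ← map_mul, ← map_mul]
  have e2 : (uS x * vS (-x⁻¹) * uS x).1 = !![0, x; -x⁻¹, 0] := by
    rw [val_mul, val_mul, uS_val, vS_val]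
    simp [Matrix.mul_fin_two, hx0]
  constructor
  · intro h
    rw [← map_one pr] at h
    obtain ⟨ε, -, he⟩ := (pr_eq_iff _ _).1 h
    rw [e2] at he
    have h01 := congrFun (congrFun he 0) 1
    simp at h01
    exact hx0 h01
  · rw [← map_one pr, pr_eq_iff]
    refine ⟨-1, by ring, ?_⟩
    rw [val_mul, e2]
    ext i j
    fin_cases i <;> fin_cases j <;> simp [Matrix.mul_apply, hx0]

end Cfsg.Agent.Local.QuadRel
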