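import Cfsg.Agent.Lib.Local.QuadraticRelation
import Cfsg.Agent.Lib.Local.QuadraticInvolution
import Cfsg.Agent.Lib.Fusion.LinearStable

/-!
# A quadratic element on a chief factor and a commuting involution

A noncentralizing quadratic element `u` on a chief factor inside a `p`-subgroup (`p` odd) has a
proper subgroup which contains whatever commutes with `u` on the factor and in which some element
of 2-power order inverts a nontrivial `p`-element.
-/

set_option autoImplicit false

open scoped commutatorElement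

namespace Cfsg.Agent.Local.InvControl

variable {G : Type*} [Group G] {p : ℕ}

/-- Some nontrivial `p`-element of `H` is inverted inside `H`. -/
def Inv (p : ℕ) (H : Subgroup G) : Prop :=
  ∃ x ∈ H, x ≠ 1 ∧ (∃ k : ℕ, x ^ p ^ k = 1) ∧ ∃ h ∈ H, h * x * h⁻¹ = x⁻¹

theorem Inv.mono {H K : Subgroup G} (h : Inv p H) (hHK : H ≤ K) : Inv p K := by
  obtain ⟨x, hx, hx1, hk, g, hg, he⟩ := h
  exact ⟨x, hHK hx, hx1, hk, g, hHK hg, he⟩

theorem Inv.map {G' : Type*} [Group G'] {H : Subgroup G} (h : Inv p H) {f : G →* G'}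
    (hf : Function.Injective f) : Inv p (H.map f) := by
  obtain ⟨x, hx, hx1, ⟨k, hk⟩, g, hg, he⟩ := h
  refine ⟨f x, ⟨x, hx, rfl⟩, fun h1 => hx1 (hf (h1.trans (map_one f).symm)),
    ⟨k, by rw [← map_pow, hk, map_one]⟩, f g, ⟨g, hg, rfl⟩, ?_⟩
  rw [← map_inv, ← map_mul, ← map_mul, he, map_inv]

/-- A 2-element of the automizer of a `p`-subgroup inverts one of its nontrivial elements. -/
theorem inv_of_two_action {H R : Subgroup G} (hR : IsPGroup p R) (hRH : R ≤ H) {s : G}
    (hsH : s ∈ H) (hsR : s ∈ Subgroup.normalizer (R : Set G))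
    (hs : s ∉ Subgroup.centralizer (R : Set G))
    (hk : ∃ k : ℕ, s ^ 2 ^ k ∈ Subgroup.centralizer (R : Set G)) : Inv p H := by
  obtain ⟨k, hk⟩ := hk
  induction k generalizing s with
  | zero => exact absurd (by simpa using hk) hs
  | succ k ih =>
    by_cases hsq : s * s ∈ Subgroup.centralizer (R : Set G)
    · obtain ⟨r, hr, hne⟩ : ∃ r ∈ R, s * r * s⁻¹ * r⁻¹ ≠ 1 := by
        by_contra hcon
        push Not at hcon
        refine hs (Subgroup.mem_centralizer_iff.2 fun r hr => ?_)
        have := hcon r hr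
        rw [mul_inv_eq_one, mul_inv_eq_iff_eq_mul] at this
        exact this.symm
      have ha : s * r * s⁻¹ * r⁻¹ ∈ R :=
        mul_mem ((Subgroup.mem_normalizer_iff.1 hsR r).1 hr) (inv_mem hr)
      obtain ⟨j, hj⟩ := hR ⟨_, ha⟩
      refine ⟨_, hRH ha, hne, ⟨j, congrArg Subtype.val hj⟩, s, hsH, ?_⟩
      have hc : s * s * r = r * (s * s) := (Subgroup.mem_centralizer_iff.1 hsq r hr).symm
      calc s * (s * r * s⁻¹ * r⁻¹) * s⁻¹ = (s * s * r) * (s⁻¹ * r⁻¹ * s⁻¹) := by group
        _ = r * (s * s) * (s⁻¹ * r⁻¹ * s⁻¹) := by rw [hc]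
        _ = (s * r * s⁻¹ * r⁻¹)⁻¹ := by group
    · refine ih (mul_mem hsH hsH) (mul_mem hsR hsR) hsq ?_
      rw [← pow_two, ← pow_mul, ← pow_succ']
      exact hk

/-- An element which squares into a normal subgroup agrees modulo it with an element of
2-power order. -/
theorem exists_two_element [Finite G] {K : Subgroup G} [K.Normal] {t : G} (ht : t * t ∈ K) :
    ∃ s : G, (∃ k : ℕ, s ^ 2 ^ k = 1) ∧ t⁻¹ * s ∈ K := by
  obtain ⟨a, m, hm, hn⟩ := Nat.exists_eq_pow_mul_and_not_dvd (orderOf_pos t).ne' 2 (by decide)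
  obtain ⟨i, rfl⟩ := Nat.odd_iff.2 (Nat.two_dvd_ne_zero.1 hm)
  refine ⟨t ^ (2 * i + 1), ⟨a, by rw [← pow_mul, mul_comm, ← hn, pow_orderOf_eq_one]⟩, ?_⟩
  rw [pow_succ', inv_mul_cancel_left, pow_mul, pow_two]
  exact pow_mem ht i

open Fusion in
/-- The image of a quadratic pair on a minimal normal `p`-subgroup contains an involution
commuting with the first element. -/
theorem exists_involution_of_minimal [Finite G] [Fact p.Prime] (hp2 : p ≠ 2) {V : Subgroup G}
    [V.Normal] (hV : IsPGroup p V)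
    (hmin : ∀ N : Subgroup G, N.Normal → N ≤ V → N = ⊥ ∨ N = V) {g : G}
    (hq : ∀ v ∈ V, ⁅⁅v, g⁆, g⁆ = 1) (hg : g ∉ Subgroup.centralizer (V : Set G)) :
    ∃ t y : G, t ∉ Subgroup.centralizer (V : Set G) ∧
      t * t ∈ Subgroup.centralizer (V : Set G) ∧ ⁅t, g⁆ ∈ Subgroup.centralizer (V : Set G) ∧
      ⁅y, g⁆ ∉ Subgroup.centralizer (V : Set G) := by
  classical
  have hVe := isElementaryAbelian_of_minimal hV hmin
  obtain ⟨y, hy, hw⟩ := exists_pair_of_quadratic_minimal hV hmin hq hg
  obtain ⟨θ, hker, ⟨a, b, hpa, hpb, hne⟩, hXY⟩ := QuadRel.exists_theta V ⊤ hVe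
    (by rw [Subgroup.normalizer_eq_top]) (Subgroup.mem_top g) (Subgroup.mem_top y) hq hy hw
  have hyg : ⁅y, g⁆ ∉ Subgroup.centralizer (V : Set G) := fun hc => hXY (by
    have h := hker ⁅(⟨y, Subgroup.subset_closure (by simp)⟩ : Subgroup.closure ({g, y} : Set G)),
      ⟨g, Subgroup.subset_closure (by simp)⟩⁆ hc
    rw [map_commutatorElement, commutatorElement_eq_one_iff_mul_comm] at h
    exact h.symm)
  -- an element mapped onto an involution
  obtain ⟨k, hk2, hk1⟩ : ∃ k : Subgroup.closure ({g, y} : Set G),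
      θ k * θ k = 1 ∧ θ k ≠ 1 := by
    haveI : CharP (AlgebraicClosure (ZMod p)) p := charP_of_injective_algebraMap
      (algebraMap (ZMod p) (AlgebraicClosure (ZMod p))).injective p
    haveI : Finite θ.range := Finite.of_surjective θ.rangeRestrict θ.rangeRestrict_surjective
    obtain ⟨L, hL, ⟨iso⟩⟩ := Fusion.Dickson.exists_sl2_le p hp2 θ.range
      ⟨_, ⟨a, rfl⟩, _, ⟨b, rfl⟩, hpa, hpb, hne⟩
    let m : Matrix.SpecialLinearGroup (Fin 2) (ZMod p) :=
      ⟨!![-1, 0; 0, -1], by simp [Matrix.det_fin_two]⟩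
    have hm : m * m = 1 := Subtype.ext (show m.1 * m.1 = 1 by simp [m, Matrix.one_fin_two])
    have hm1 : m ≠ 1 := by
      intro h
      have h0 : (-1 : ZMod p) = 1 := by
        simpa [m] using congrFun (congrFun (congrArg Subtype.val h) 0) 0
      haveI : Fact (2 < p) := ⟨lt_of_le_of_ne (Fact.out : p.Prime).two_le (Ne.symm hp2)⟩
      exact ZMod.neg_one_ne_one h0
    obtain ⟨k, hk⟩ := hL (iso.symm m).2
    refine ⟨k, ?_, fun h => hm1 (iso.symm.injective (Subtype.ext ?_))⟩
    · rw [hk, ← Subgroup.coe_mul, ← map_mul, hm, map_one, Subgroup.coe_one]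
    · rw [← hk, h, map_one, Subgroup.coe_one]
  -- the action on the module
  letI : CommGroup V := { (inferInstance : Group V) with mul_comm := fun a b => hVe.1.1.1 a b }
  let act : G →* AddMonoid.End (Additive V) :=
    { toFun := fun z => MonoidHom.toAdditive (MulAut.conjNormal z : MulAut V).toMonoidHom
      map_one' := DFunLike.ext _ _ fun v => by
        show Additive.ofMul ((MulAut.conjNormal (1 : G) : MulAut V) v.toMul) = v
        rw [map_one]; rfl
      map_mul' := fun z z' => DFunLike.ext _ _ fun v => by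
        show Additive.ofMul ((MulAut.conjNormal (z * z') : MulAut V) v.toMul) =
          Additive.ofMul ((MulAut.conjNormal z : MulAut V) ((MulAut.conjNormal z' : MulAut V) v.toMul))
        rw [map_mul]; rfl }
  let ψ := act.toHomUnits
  have hψ : ∀ c : G, ψ c = 1 ↔ c ∈ Subgroup.centralizer (V : Set G) := by
    intro c
    constructor
    · intro h
      refine Subgroup.mem_centralizer_iff.2 fun v hv => ?_
      have h1 := DFunLike.congr_fun (congrArg Units.val h) (Additive.ofMul ⟨v, hv⟩)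
      have h2 : c * v * c⁻¹ = v := congrArg Subtype.val (Additive.ofMul.injective h1)
      exact (mul_inv_eq_iff_eq_mul.1 h2).symm
    · intro h
      refine Units.ext (DFunLike.ext _ _ fun v => ?_)
      refine Additive.toMul.injective (Subtype.ext ?_)
      show c * (v.toMul : G) * c⁻¹ = _
      rw [← Subgroup.mem_centralizer_iff.1 h _ v.toMul.2, mul_inv_cancel_right]
      rfl
  have hsq : ∀ z : G, (∀ v ∈ V, ⁅⁅v, z⁆, z⁆ = 1) →
      ((ψ z : AddMonoid.End (Additive V)) - 1) * ((ψ z : AddMonoid.End (Additive V)) - 1) = 0 := by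
    intro z hz
    show (act z - 1) * (act z - 1) = 0
    refine DFunLike.ext _ _ fun v => ?_
    have key : ∀ w : Additive V, (((act z - 1) w).toMul : G) = ⁅(w.toMul : G), z⁆⁻¹ := fun w => by
      show ((((act z) w) - w).toMul : G) = _
      rw [toMul_sub, Subgroup.coe_div, commutatorElement_inv, commutatorElement_def, div_eq_mul_inv]
      rfl
    refine Additive.toMul.injective (Subtype.ext ?_)
    show ((((act z - 1) ((act z - 1) v)).toMul : V) : G) = 1
    rw [key, key, inv_eq_one]
    have h1 : ⁅⁅(v.toMul : G), z⁆, z⁆ = 1 := hz _ v.toMul.2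
    rw [commutatorElement_eq_one_iff_mul_comm] at h1 ⊢
    exact (Commute.inv_left h1).eq
  have hp0 : ((p : ℕ) : AddMonoid.End (Additive V)) = 0 := DFunLike.ext _ _ fun v => by
    rw [AddMonoid.End.natCast_apply]
    refine Additive.toMul.injective (Subtype.ext ?_)
    exact hVe.2 _ v.toMul.2
  obtain ⟨i, hi⟩ := (Fact.out : p.Prime).odd_of_ne_two hp2
  have h2u : IsUnit (2 : AddMonoid.End (Additive V)) := by
    have h : (2 : AddMonoid.End (Additive V)) * ((i + 1 : ℕ)) = 1 := by
      rw [← Nat.cast_ofNat, ← Nat.cast_mul, show 2 * (i + 1) = p + 1 by omega, Nat.cast_succ, hp0,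
        zero_add]
    exact ⟨⟨_, _, h, ((Nat.cast_commute (i + 1) 2).eq).trans h⟩, rfl⟩
  -- the first generators lie in the group of the squares
  have hroot : ∀ z : G, (∀ v ∈ V, ⁅⁅v, z⁆, z⁆ = 1) →
      ψ z ∈ Subgroup.zpowers (ψ z * ψ z) := by
    intro z hz
    set N := (ψ z : AddMonoid.End (Additive V)) - 1 with hN
    have hN2 := hsq z hz
    have hpow : ∀ n : ℕ, (ψ z : AddMonoid.End (Additive V)) ^ n = 1 + (n : AddMonoid.End _) * N := by
      intro n
      induction n with
      | zero => simp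
      | succ n ih =>
        have hNN : N * N = 0 := hN2
        rw [pow_succ, ih, show (ψ z : AddMonoid.End (Additive V)) = 1 + N by rw [hN]; abel]
        simp only [Nat.cast_succ, add_mul, mul_add, one_mul, mul_one, mul_assoc, hNN, mul_zero]
        abel
    have hpz : ψ z ^ p = 1 := Units.ext (by
      rw [Units.val_pow_eq_pow_val, hpow, hp0, zero_mul, add_zero, Units.val_one])
    refine Subgroup.mem_zpowers_iff.2 ⟨((i + 1 : ℕ) : ℤ), ?_⟩
    rw [zpow_natCast, ← pow_two, ← pow_mul, show 2 * (i + 1) = p + 1 by omega, pow_succ, hpz,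
      one_mul]
  set n := orderOf (ψ (k : G))
  have hn : 2 ∣ n := by
    have h1 : θ k ^ n = 1 := by
      rw [← map_pow]
      refine hker _ ((hψ _).1 ?_)
      rw [Subgroup.coe_pow, map_pow]
      exact pow_orderOf_eq_one _
    rcases Nat.even_or_odd n with h | ⟨j, hj⟩
    · exact h.two_dvd
    · exfalso
      rw [hj, pow_succ, pow_mul, pow_two, hk2, one_pow, one_mul] at h1
      exact hk1 h1
  obtain ⟨m, hm⟩ := hn
  haveI : Finite (AddMonoid.End (Additive V)) :=
    Finite.of_injective _ DFunLike.coe_injective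
  have hm0 : 0 < m := by
    have := orderOf_pos (ψ (k : G))
    omega
  have hsq1 : ψ ((k : G) ^ m) * ψ ((k : G) ^ m) = 1 := by
    rw [map_pow, ← pow_add, ← two_mul, ← hm, pow_orderOf_eq_one]
  have hne1 : ψ ((k : G) ^ m) ≠ 1 := by
    rw [map_pow]
    exact pow_ne_one_of_lt_orderOf hm0.ne' (by omega)
  have hmem : ψ ((k : G) ^ m) ∈ Subgroup.closure
      ({ψ g * ψ g, ψ y * ψ y} : Set (AddMonoid.End (Additive V))ˣ) := by
    have h1 : Subgroup.closure ({g, y} : Set G) ≤ (Subgroup.closure
        ({ψ g * ψ g, ψ y * ψ y} : Set (AddMonoid.End (Additive V))ˣ)).comap ψ := by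
      refine (Subgroup.closure_le _).2 ?_
      rintro z (rfl | rfl)
      · exact Subgroup.zpowers_le.2 (Subgroup.subset_closure (by simp)) (hroot _ hq)
      · exact Subgroup.zpowers_le.2 (Subgroup.subset_closure (by simp)) (hroot _ hy)
    exact h1 (pow_mem k.2 m)
  refine ⟨(k : G) ^ m, y, fun h => hne1 ((hψ _).2 h), (hψ _).1 (by rw [map_mul]; exact hsq1),
    (hψ _).1 ?_, hyg⟩
  rw [map_commutatorElement, commutatorElement_eq_one_iff_mul_comm]
  exact Units.ext (QuadInv.commute_of_sq_one h2u (hsq g hq) (hsq y hy) hmem hsq1)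

theorem mem_sectionKernel {U V : Subgroup G} [V.Normal] {g : G} :
    g ∈ sectionKernel U V ↔ ∀ v ∈ U, ⁅v, g⁆ ∈ V := by
  simp only [sectionKernel, Subgroup.mem_comap, Subgroup.mem_centralizer_iff, SetLike.mem_coe,
    Subgroup.mem_map, forall_exists_index, and_imp, forall_apply_eq_imp_iff₂]
  refine forall₂_congr fun v _ => ?_
  rw [← (QuotientGroup.eq_one_iff (N := V) ⁅v, g⁆), ← QuotientGroup.mk'_apply,
    map_commutatorElement, commutatorElement_eq_one_iff_mul_comm]

theorem sectionKernel_normal (U V : Subgroup G) [U.Normal] [V.Normal] :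
    (sectionKernel U V).Normal := by
  haveI : (U.map (QuotientGroup.mk' V)).Normal :=
    Subgroup.Normal.map inferInstance _ (QuotientGroup.mk'_surjective V)
  rw [sectionKernel]
  infer_instance

open Fusion in
/-- The basic construction. -/
theorem exists_proper_inv [Finite G] [Fact p.Prime] (hp2 : p ≠ 2) {U V : Subgroup G} [V.Normal]
    (hc : IsChiefFactor U V) (hU : IsPGroup p U) {u : G} (hq : ∀ v ∈ U, ⁅⁅v, u⁆, u⁆ ∈ V)
    (hu : u ∉ sectionKernel U V) :
    ∃ H : Subgroup G, H ≠ ⊤ ∧ Inv p H ∧ ∀ a, ⁅a, u⁆ ∈ sectionKernel U V → a ∈ H := by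
  obtain ⟨hlt, hUn, -, hmin⟩ := hc
  haveI := hUn
  set π := QuotientGroup.mk' V
  have hπ : Function.Surjective π := QuotientGroup.mk'_surjective V
  haveI : (U.map π).Normal := Subgroup.Normal.map hUn π hπ
  have hmin' : ∀ M : Subgroup (G ⧸ V), M.Normal → M ≤ U.map π → M = ⊥ ∨ M = U.map π := by
    intro M hM hMU
    rcases hmin (M.comap π) inferInstance (fun v hv => by
        show π v ∈ M
        rw [show π v = 1 from (QuotientGroup.eq_one_iff v).2 hv]
        exact one_mem _) (fun x hx => by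
        obtain ⟨w, hw, he⟩ := hMU (show π x ∈ M from hx)
        have hmem : w⁻¹ * x ∈ V := QuotientGroup.eq.1 he
        simpa using mul_mem hw (hlt.le hmem)) with h | h
    · left
      rw [← Subgroup.map_comap_eq_self_of_surjective hπ M, h]
      exact QuotientGroup.map_mk'_self V
    · right
      rw [← Subgroup.map_comap_eq_self_of_surjective hπ M, h]
  have hq' : ∀ v ∈ U.map π, ⁅⁅v, π u⁆, π u⁆ = 1 := by
    rintro _ ⟨w, hw, rfl⟩
    rw [← map_commutatorElement, ← map_commutatorElement]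
    exact (QuotientGroup.eq_one_iff _).2 (hq w hw)
  obtain ⟨t', y', ht, htt, htu, hyu⟩ := exists_involution_of_minimal hp2 (hU.map π) hmin' hq' hu
  obtain ⟨t, rfl⟩ := hπ t'
  obtain ⟨y, rfl⟩ := hπ y'
  rw [← map_mul] at htt
  rw [← map_commutatorElement] at htu hyu
  set K := sectionKernel U V
  haveI : K.Normal := sectionKernel_normal U V
  set H := (Subgroup.centralizer {QuotientGroup.mk' K u}).comap (QuotientGroup.mk' K)
  have hH : ∀ a, a ∈ H ↔ ⁅a, u⁆ ∈ K := fun a => by
    rw [Subgroup.mem_comap, Subgroup.mem_centralizer_singleton_iff,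
      ← commutatorElement_eq_one_iff_mul_comm, ← map_commutatorElement, QuotientGroup.mk'_apply,
      QuotientGroup.eq_one_iff]
  obtain ⟨s, hk, hts⟩ := exists_two_element (K := K) (t := t) htt
  refine ⟨H, fun htop => hyu ((hH y).1 (htop ▸ Subgroup.mem_top y)), ?_, fun a ha => (hH a).2 ha⟩
  have hKH : K ≤ H := fun c hc => (hH c).2 (by
    rw [commutatorElement_def, mul_assoc c, mul_assoc c]
    exact mul_mem hc (by simpa [mul_assoc] using
      (inferInstance : K.Normal).conj_mem _ (inv_mem hc) u))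
  have hUK : U ≤ K := fun x hx => (mem_sectionKernel).2 fun v hv => by
    rw [← (QuotientGroup.eq_one_iff (N := V) ⁅v, x⁆), ← QuotientGroup.mk'_apply,
      map_commutatorElement, commutatorElement_eq_one_iff_mul_comm]
    exact congrArg Subtype.val
      ((isElementaryAbelian_of_minimal (hU.map π) hmin').1.1.1 ⟨_, v, hv, rfl⟩ ⟨_, x, hx, rfl⟩)
  have hsH : s ∈ H := by
    have h := mul_mem ((hH t).2 htu) (hKH hts)
    rwa [mul_inv_cancel_left] at h
  refine inv_of_two_action hU (hUK.trans hKH) hsH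
    (by rw [Subgroup.normalizer_eq_top]; exact Subgroup.mem_top s) (fun hcs => ht ?_)
    (hk.imp fun k hk => by rw [hk]; exact one_mem _)
  have hsK : s ∈ K := mem_sectionKernel.2 fun v hv => by
    rw [commutatorElement_eq_one_iff_mul_comm.2 (Subgroup.mem_centralizer_iff.1 hcs v hv)]
    exact one_mem V
  have h := mul_mem hsK (inv_mem hts)
  rwa [mul_inv_rev, inv_inv, mul_inv_cancel_left] at h

end Cfsg.Agent.Local.InvControl
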