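import Mathlib
import Cfsg.Agent.Lib.Fusion.ZJFamily
import Cfsg.Agent.Lib.Solv.Zipper
import Cfsg.Agent.Lib.Lie.SimsStructure

/-!
# Sims' theorem in local form

A maximal subgroup `G` of a simple group with dihedral quotient `G / O₂(G)` of order `2q`, which does
not contain the normalizer of its Sylow 2-subgroup, has `q = 3` by the offender argument; the
suborbit of a conjugate then has length three, and Sims' theorem gives the structure of `G`.
-/

set_option autoImplicit false

open Cfsg.Agent.Fusion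

namespace Cfsg.Agent.Local.SimsLocal

universe u

variable {H : Type u} [Group H] [Finite H]

/-- The elementary abelian 2-subgroups. -/
abbrev eOk {X : Type*} [Group X] : Subgroup X → Prop := fun A => IsElementaryAbelian 2 A

theorem mem_map_conj_iff {K : Subgroup H} {g x : H} :
    x ∈ K.map (MulAut.conj g).toMonoidHom ↔ g⁻¹ * x * g ∈ K := by
  constructor
  · rintro ⟨y, hy, rfl⟩
    show g⁻¹ * (g * y * g⁻¹) * g ∈ K
    simpa [mul_assoc] using hy
  · intro h
    exact ⟨_, h, show g * (g⁻¹ * x * g) * g⁻¹ = x by group⟩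

/-- A subgroup of largest elementary abelian subgroup leaves the 2-core. -/
theorem exists_max_not_le [IsSimpleGroup H] (G : Subgroup H) (hG : IsCoatom G) (T Q : Subgroup H)
    (hQT : Q ≤ T) (hTG : T ≤ G) (hQn : G ≤ Subgroup.normalizer (Q : Set H)) (hT : IsPGroup 2 T)
    (hT1 : T ≠ ⊥) {h : H} (hh : h ∈ Subgroup.normalizer (T : Set H)) (hhG : h ∉ G) :
    ∃ A ∈ maxIn eOk T, ¬ A ≤ Q := by
  haveI : Fact (Nat.Prime 2) := ⟨Nat.prime_two⟩
  have hok : ReplFamily (eOk (X := H)) := replFamily_elementary 2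
  by_contra hall
  push Not at hall
  set J := sSup (maxIn eOk T)
  have hJT : J ≤ T := sSup_le fun A hA => hA.1
  have key : ∀ g : H, (∀ A ∈ maxIn eOk T, A.map (MulAut.conj g).toMonoidHom ≤ T) →
      g ∈ Subgroup.normalizer (J : Set H) := by
    intro g hg
    refine mem_normalizer_of_cj_le ?_
    rw [cj]
    refine Subgroup.map_le_iff_le_comap.2 (sSup_le fun A hA => Subgroup.map_le_iff_le_comap.1
      (le_sSup ⟨hg A hA, hok.map_equiv hA.2.1 _, fun B hB hB' => ?_⟩))
    rw [Subgroup.card_map_of_injective (MulEquiv.injective _)]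
    exact hA.2.2 B hB hB'
  have hGN : G ≤ Subgroup.normalizer (J : Set H) := fun g hg => key g fun A hA => by
    rintro _ ⟨a, ha, rfl⟩
    exact hQT ((Subgroup.mem_normalizer_iff.1 (hQn hg) a).1 (hall A hA ha))
  have hhN : h ∈ Subgroup.normalizer (J : Set H) := key h fun A hA => by
    rintro _ ⟨a, ha, rfl⟩
    exact (Subgroup.mem_normalizer_iff.1 hh a).1 (hA.1 ha)
  have htop : Subgroup.normalizer (J : Set H) = ⊤ :=
    (hG.le_iff.1 hGN).resolve_right fun e => hhG (e ▸ hhN)
  haveI : J.Normal := Subgroup.normalizer_eq_top_iff.1 htop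
  rcases (inferInstance : J.Normal).eq_bot_or_eq_top with e | e
  · obtain ⟨n, hn⟩ := IsPGroup.iff_card.1 hT
    have h2 : 2 ∣ Nat.card T := by
      rcases n with _ | n
      · exact absurd (Subgroup.card_eq_one.1 (by rwa [pow_zero] at hn)) hT1
      · exact hn ▸ dvd_pow_self 2 n.succ_ne_zero
    obtain ⟨x, hx⟩ := exists_prime_orderOf_dvd_card' 2 h2
    have hX : IsElementaryAbelian 2 (Subgroup.zpowers (x : H)) := by
      refine ⟨inferInstance, fun y hy => ?_⟩
      obtain ⟨i, rfl⟩ := Subgroup.mem_zpowers_iff.1 hy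
      rw [← zpow_natCast, ← zpow_mul, mul_comm, zpow_mul, zpow_natCast, ← Subgroup.coe_pow,
        ← hx, pow_orderOf_eq_one, Subgroup.coe_one, one_zpow]
    obtain ⟨A, hA⟩ := hok.maxIn_nonempty T
    have h1 := hA.2.2 _ (Subgroup.zpowers_le.2 x.2) hX
    rw [Nat.card_zpowers, Subgroup.orderOf_coe, hx,
      show A = ⊥ from le_bot_iff.1 (e ▸ le_sSup hA), Subgroup.card_bot] at h1
    omega
  · exact hG.1 (top_le_iff.1 (e ▸ hJT.trans hTG))

section Offender

variable {X : Type*} [Group X] [Finite X]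

/-- The offender argument: `G / O₂(G)` dihedral of order `2q` and a largest elementary abelian
subgroup outside `O₂(G)` force `q = 3`. -/
theorem three_of_offender (hchar : Subgroup.centralizer (pCore 2 X : Set X) ≤ pCore 2 X)
    (S : Sylow 2 X) (q : ℕ) (hq : q.Prime) (hD : Nonempty (X ⧸ pCore 2 X ≃* DihedralGroup q))
    {A : Subgroup X} (hA : A ∈ maxIn eOk (S : Subgroup X)) (hAQ : ¬ A ≤ pCore 2 X)
    (hZ : ∃ z ∈ (S : Subgroup X), z * z = 1 ∧ (∀ s ∈ (S : Subgroup X), s * z = z * s) ∧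
      z ∉ Subgroup.center X) : q = 3 := by
  classical
  haveI : Fact (Nat.Prime 2) := ⟨Nat.prime_two⟩
  obtain ⟨iso⟩ := hD
  set Q := pCore 2 X
  set π := QuotientGroup.mk' Q
  have hπ : Function.Surjective π := QuotientGroup.mk'_surjective Q
  have hcard : Nat.card (X ⧸ Q) = 2 * q := by rw [Nat.card_congr iso.toEquiv, DihedralGroup.nat_card]
  have hQ0 : pCore 2 (X ⧸ Q) = ⊥ := Fusion.pCore_quotient_eq_bot
  have hq2 : q ≠ 2 := by
    rintro rfl
    have h4 : IsPGroup 2 (⊤ : Subgroup (X ⧸ Q)) :=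
      IsPGroup.of_card (n := 2) (by rw [Subgroup.card_top, hcard]; rfl)
    have h1 := le_pCore h4
    rw [hQ0, le_bot_iff] at h1
    have h2 := congrArg (fun K : Subgroup (X ⧸ Q) => Nat.card K) h1
    simp only [Subgroup.card_top, hcard, Subgroup.card_bot] at h2
    omega
  have hQS : Q ≤ S := pCore_le_sylow S
  obtain ⟨z₀, hz₀S, hz₀2, hz₀c, hz₀n⟩ := hZ
  let W : Subgroup X :=
    { carrier := {x | x ∈ Q ∧ (∀ y ∈ Q, y * x = x * y) ∧ x * x = 1}
      one_mem' := ⟨one_mem _, fun y _ => by simp, one_mul 1⟩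
      mul_mem' := fun {a b} ha hb => ⟨mul_mem ha.1 hb.1, fun y hy => by
          rw [← mul_assoc, ha.2.1 y hy, mul_assoc, hb.2.1 y hy, mul_assoc],
        by
          calc a * b * (a * b) = a * (b * a) * b := by group
            _ = a * (a * b) * b := by rw [hb.2.1 a ha.1]
            _ = (a * a) * (b * b) := by group
            _ = 1 := by rw [ha.2.2, hb.2.2, one_mul]⟩
      inv_mem' := fun {a} ha => ⟨inv_mem ha.1, fun y hy => ((Commute.inv_right (ha.2.1 y hy)).eq),
        by rw [← mul_inv_rev, ha.2.2, inv_one]⟩ }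
  haveI : W.Normal := ⟨fun a ha g => ⟨(inferInstance : Q.Normal).conj_mem a ha.1 g, fun y hy => by
      have h1 := ha.2.1 (g⁻¹ * y * g) (by simpa using (inferInstance : Q.Normal).conj_mem y hy g⁻¹)
      calc y * (g * a * g⁻¹) = g * ((g⁻¹ * y * g) * a) * g⁻¹ := by group
        _ = g * (a * (g⁻¹ * y * g)) * g⁻¹ := by rw [h1]
        _ = (g * a * g⁻¹) * y := by group,
    by rw [show g * a * g⁻¹ * (g * a * g⁻¹) = g * (a * a) * g⁻¹ by group, ha.2.2]; group⟩⟩
  have hz₀W : z₀ ∈ W := ⟨hchar (Subgroup.mem_centralizer_iff.2 fun y hy => hz₀c y (hQS hy)),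
    fun y hy => hz₀c y (hQS hy), hz₀2⟩
  set Z := Subgroup.normalClosure ({z₀} : Set X)
  have hZW : Z ≤ W := Subgroup.normalClosure_le_normal (by simpa using hz₀W)
  set C := Subgroup.centralizer (Z : Set X)
  -- an involution of `A` outside `Q`
  obtain ⟨t, htA, htQ⟩ := SetLike.not_le_iff_exists.1 hAQ
  have ht2 : t * t = 1 := by rw [← pow_two]; exact hA.2.1.2 t htA
  have hAc : ∀ a ∈ A, ∀ b ∈ A, a * b = b * a := fun a ha b hb =>
    congrArg Subtype.val (hA.2.1.1.1.1 ⟨a, ha⟩ ⟨b, hb⟩)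
  have hSq : ∀ a ∈ (S : Subgroup X), ∀ b ∈ (S : Subgroup X), a ∉ Q → b ∉ Q → a * b ∈ Q := by
    intro a ha b hb haQ hbQ
    have hc : Nat.card ((S : Subgroup X).map π) ∣ 2 := by
      obtain ⟨n, hn⟩ := IsPGroup.iff_card.1 (S.2.map π)
      have hd : 2 ^ n ∣ 2 * q := hn ▸ hcard ▸ Subgroup.card_subgroup_dvd_card _
      have := (Nat.Coprime.pow_left n ((Nat.coprime_primes Nat.prime_two hq).2 (Ne.symm hq2))).dvd_of_dvd_mul_right hd
      exact hn ▸ this
    have hone : ∀ c ∈ (S : Subgroup X), π c ^ 2 = 1 := fun c hc' =>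
      orderOf_dvd_iff_pow_eq_one.1
        ((Subgroup.orderOf_dvd_natCard _ (Subgroup.mem_map_of_mem π hc')).trans hc)
    have h2 : ∀ c ∈ (S : Subgroup X), c ∉ Q → (S : Subgroup X).map π = Subgroup.zpowers (π c) := by
      intro c hc' hcQ
      refine (Subgroup.eq_of_le_of_card_ge (Subgroup.zpowers_le.2 (Subgroup.mem_map_of_mem π hc')) ?_).symm
      rw [Nat.card_zpowers, orderOf_eq_prime (hone c hc') fun e => hcQ ((QuotientGroup.eq_one_iff c).1 e)]
      exact Nat.le_of_dvd two_pos hc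
    obtain ⟨i, hi⟩ := Subgroup.mem_zpowers_iff.1 ((h2 a ha haQ).le ⟨b, hb, rfl⟩)
    rw [← QuotientGroup.eq_one_iff (N := Q)]
    show π (a * b) = 1
    rcases Int.even_or_odd i with ⟨j, hj⟩ | ⟨j, hj⟩
    · exfalso
      refine hbQ ((QuotientGroup.eq_one_iff b).1 (show π b = 1 from ?_))
      rw [← hi, hj, ← two_mul, zpow_mul, zpow_ofNat, hone a ha, one_zpow]
    · rw [map_mul, ← hi, hj, zpow_add_one, zpow_mul, zpow_ofNat, hone a ha, one_zpow, one_mul,
        ← pow_two, hone a ha]
  -- the centraliser of `t` in `Z` has index at most two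
  have hindex : ∀ z₁ ∈ Z, ∀ z₂ ∈ Z, z₁ ∈ A ∨ z₂ ∈ A ∨ z₁ * z₂ ∈ A := by
    intro z₁ h₁ z₂ h₂
    by_contra hcon
    push Not at hcon
    obtain ⟨n1, n2, n3⟩ := hcon
    have hinvZ : ∀ z ∈ Z, z⁻¹ = z := fun z hz => inv_eq_of_mul_eq_one_right (hZW hz).2.2
    let K : Subgroup X := (A ⊓ Q) ⊔ Z
    have hK : IsElementaryAbelian 2 K := by
      have e : K = Subgroup.closure (((A ⊓ Q : Subgroup X) : Set X) ∪ (Z : Set X)) := by
        rw [Subgroup.closure_union, Subgroup.closure_eq, Subgroup.closure_eq]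
      have hc : ∀ u ∈ ((A ⊓ Q : Subgroup X) : Set X) ∪ (Z : Set X),
          ∀ v ∈ ((A ⊓ Q : Subgroup X) : Set X) ∪ (Z : Set X), u * v = v * u := by
        rintro u (hu | hu) v (hv | hv)
        · exact hAc u hu.1 v hv.1
        · exact (hZW hv).2.1 u hu.2
        · exact ((hZW hu).2.1 v hv.2).symm
        · exact ((hZW hu).2.1 v (hZW hv).1).symm
      have hcomm : IsMulCommutative K := e ▸ Subgroup.isMulCommutative_closure hc
      refine ⟨hcomm, fun a ha => ?_⟩
      rw [e] at ha
      induction ha using Subgroup.closure_induction with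
      | mem a ha =>
        rcases ha with ha | ha
        · exact hA.2.1.2 a ha.1
        · rw [pow_two]; exact (hZW ha).2.2
      | one => exact one_pow _
      | mul a b ha hb iha ihb =>
        have hab : Commute a b := congrArg Subtype.val (hcomm.1.1 ⟨a, e ▸ ha⟩ ⟨b, e ▸ hb⟩)
        rw [hab.mul_pow, iha, ihb, one_mul]
      | inv a _ iha => rw [inv_pow, iha, inv_one]
    have hKS : K ≤ S := sup_le (inf_le_right.trans hQS) fun z hz => hQS (hZW hz).1
    have hle := hA.2.2 K hKS hK
    let w : Fin 3 → X := ![1, z₁, z₂]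
    have hw : ∀ i, w i ∈ Z := by intro i; fin_cases i <;> simp [w, h₁, h₂, one_mem]
    have hwinj : ∀ i j, w i * (w j)⁻¹ ∈ A → i = j := by
      intro i j hij
      have hz21 : z₂ * z₁ = z₁ * z₂ := (hZW h₁).2.1 z₂ (hZW h₂).1
      rw [hinvZ _ (hw j)] at hij
      fin_cases i <;> fin_cases j <;> first
        | rfl
        | (simp [w] at hij; first
            | exact absurd hij n1
            | exact absurd hij n2
            | exact absurd hij n3
            | exact absurd (hz21 ▸ hij) n3)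
    let f : (A ⊓ Q : Subgroup X) × Fin 3 → K := fun p =>
      ⟨(p.1 : X) * w p.2, mul_mem (Subgroup.mem_sup_left p.1.2) (Subgroup.mem_sup_right (hw p.2))⟩
    have hf : Function.Injective f := by
      rintro ⟨⟨a, ha⟩, i⟩ ⟨⟨b, hb⟩, j⟩ he
      have he' : a * w i = b * w j := congrArg Subtype.val he
      have hij : i = j := hwinj i j (by
        rw [show w i * (w j)⁻¹ = a⁻¹ * (a * w i) * (w j)⁻¹ by group, he', mul_assoc, mul_assoc,
          mul_inv_cancel, mul_one]
        exact mul_mem (inv_mem ha.1) hb.1)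
      subst hij
      exact Prod.ext (Subtype.ext (mul_right_cancel he')) rfl
    let g : A → (A ⊓ Q : Subgroup X) × Bool := fun a =>
      if ha : (a : X) ∈ Q then (⟨a, a.2, ha⟩, false)
      else (⟨a * t, mul_mem a.2 htA, hSq a (hA.1 a.2) t (hA.1 htA) ha htQ⟩, true)
    have hg : Function.Injective g := by
      intro a b he
      simp only [g] at he
      split_ifs at he with ha hb hb
      · exact Subtype.ext (congrArg (fun q : (A ⊓ Q : Subgroup X) × Bool => (q.1 : X)) he)
      · exact absurd (congrArg Prod.snd he) (by simp)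
      · exact absurd (congrArg Prod.snd he) (by simp)
      · exact Subtype.ext (mul_right_cancel
          (congrArg (fun q : (A ⊓ Q : Subgroup X) × Bool => (q.1 : X)) he))
    have h3 := (Nat.card_le_card_of_injective f hf).trans
      (hle.trans (Nat.card_le_card_of_injective g hg))
    rw [Nat.card_prod, Nat.card_prod, Nat.card_fin, Nat.card_eq_fintype_card (α := Bool),
      Fintype.card_bool] at h3
    have := (Nat.card_pos : 0 < Nat.card (A ⊓ Q : Subgroup X))
    omega
  have htc : ∀ z₁ ∈ Z, ∀ z₂ ∈ Z, ∀ r : X, let t' := r * t * r⁻¹;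
      z₁ * t' ≠ t' * z₁ → z₂ * t' ≠ t' * z₂ → z₁ * z₂ * t' = t' * (z₁ * z₂) := by
    intro z₁ h₁ z₂ h₂ r t' n1 n2
    have hcj : ∀ z ∈ Z, r⁻¹ * z * r ∈ Z := fun z hz => by
      simpa using (inferInstance : Z.Normal).conj_mem z hz r⁻¹
    have hback : ∀ z : X, r⁻¹ * z * r ∈ A → z * t' = t' * z := fun z hz => by
      calc z * t' = r * ((r⁻¹ * z * r) * t) * r⁻¹ := by simp only [t']; group
        _ = r * (t * (r⁻¹ * z * r)) * r⁻¹ := by rw [hAc _ hz t htA]
        _ = t' * z := by simp only [t']; group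
    rcases hindex _ (hcj _ h₁) _ (hcj _ h₂) with e | e | e
    · exact absurd (hback _ e) n1
    · exact absurd (hback _ e) n2
    · refine hback _ ?_
      rwa [show r⁻¹ * (z₁ * z₂) * r = r⁻¹ * z₁ * r * (r⁻¹ * z₂ * r) by group]
  -- an element inverted by `t` modulo `Q`
  have htπ : orderOf (π t) = 2 := orderOf_eq_prime (by rw [← map_pow, pow_two, ht2, map_one])
    fun e => htQ ((QuotientGroup.eq_one_iff t).1 e)
  obtain ⟨r', hr1, hrodd, hrt⟩ := Solv.exists_odd_inverted htπ (fun hm => by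
    rw [hQ0, Subgroup.mem_bot] at hm
    rw [hm, orderOf_one] at htπ
    omega)
  obtain ⟨r, rfl⟩ := hπ r'
  set x := t * (r * t * r⁻¹)
  have hπx : π x = (π r)⁻¹ * (π r)⁻¹ := by
    have e : π t = (π t)⁻¹ := eq_inv_of_mul_eq_one_left (by rw [← map_mul, ht2, map_one])
    calc π x = π t * π r * (π t) * (π r)⁻¹ := by simp only [x, map_mul, map_inv]; group
      _ = π t * π r * (π t)⁻¹ * (π r)⁻¹ := by rw [← e]
      _ = _ := by rw [hrt]
  have hxq : orderOf (π x) = q := by
    have hrq : orderOf (π r) = q := by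
      have hd : orderOf (π r) ∣ 2 * q := hcard ▸ orderOf_dvd_natCard _
      rcases (Nat.dvd_prime hq).1 ((Nat.coprime_two_right.2 hrodd).dvd_of_dvd_mul_left hd) with e | e
      · exact absurd (orderOf_eq_one_iff.1 e) hr1
      · exact e
    rw [hπx, ← pow_two, Nat.Coprime.orderOf_pow] <;> rw [orderOf_inv, hrq]
    exact (Nat.coprime_primes hq Nat.prime_two).2 hq2
  -- a bounded power of `x` centralises `Z`
  have hx24 : x ^ 24 ∈ C := by
    refine Subgroup.mem_centralizer_iff.2 fun z hz => ?_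
    let y : ℕ → X := fun k => x ^ k * z * (x ^ k)⁻¹
    have hy : ∀ k, y k ∈ Z := fun k => (inferInstance : Z.Normal).conj_mem z hz _
    let c : X → Bool × Bool := fun u =>
      (decide (u * t = t * u), decide (u * (r * t * r⁻¹) = r * t * r⁻¹ * u))
    obtain ⟨i, j, hij, hcij⟩ := Fintype.exists_ne_map_eq_of_card_lt (fun k : Fin 5 => c (y k)) (by simp)
    wlog hlt : (i : ℕ) < j generalizing i j with Hw
    · exact Hw j i hij.symm hcij.symm (lt_of_le_of_ne (not_lt.1 hlt) fun e => hij (Fin.ext e.symm))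
    simp only [c, Prod.mk.injEq, decide_eq_decide] at hcij
    set v := y i * y j
    have hvU : ∀ r₀ : X, (y i * (r₀ * t * r₀⁻¹) = r₀ * t * r₀⁻¹ * y i ↔
        y j * (r₀ * t * r₀⁻¹) = r₀ * t * r₀⁻¹ * y j) → v * (r₀ * t * r₀⁻¹) = r₀ * t * r₀⁻¹ * v := by
      intro r₀ hiff
      by_cases h1 : y i * (r₀ * t * r₀⁻¹) = r₀ * t * r₀⁻¹ * y i
      · exact Commute.mul_left h1 (hiff.1 h1)
      · exact htc _ (hy i) _ (hy j) r₀ h1 fun h2 => h1 (hiff.2 h2)
    have hv1 : v * t = t * v := by simpa using hvU 1 (by simpa using hcij.1)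
    have hv2 := hvU r hcij.2
    have hvx : Commute x v := (Commute.mul_left (show Commute t v from hv1.symm) hv2.symm)
    -- push back
    obtain ⟨d, hd, hd4, hjd⟩ : ∃ d, 0 < d ∧ d ≤ 4 ∧ (j : ℕ) = i + d :=
      ⟨j - i, by omega, by omega, by omega⟩
    have hzyd : z * y d = v := by
      have h1 : x ^ (i : ℕ) * (z * y d) * (x ^ (i : ℕ))⁻¹ = v := by
        simp only [v, y, hjd, pow_add]; group
      have h2 : x ^ (i : ℕ) * v * (x ^ (i : ℕ))⁻¹ = v := mul_inv_eq_iff_eq_mul.2 (hvx.pow_left _).eq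
      exact mul_left_cancel (mul_right_cancel (h1.trans h2.symm))
    have hz2 : z * z = 1 := (hZW hz).2.2
    have hyd : y d = z * v := by rw [← hzyd, ← mul_assoc, hz2, one_mul]
    have hy2d : y (d + d) = z := by
      have h1 : y (d + d) = x ^ d * y d * (x ^ d)⁻¹ := by simp only [y, pow_add]; group
      have hvv : v * v = 1 := (hZW (mul_mem (hy i) (hy j))).2.2
      calc y (d + d) = x ^ d * (z * v) * (x ^ d)⁻¹ := by rw [h1, hyd]
        _ = (x ^ d * z * (x ^ d)⁻¹) * (x ^ d * v * (x ^ d)⁻¹) := by group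
        _ = (z * v) * v := by rw [mul_inv_eq_iff_eq_mul.2 (hvx.pow_left d).eq, ← hyd]
        _ = z := by rw [mul_assoc, hvv, mul_one]
    have hcd : Commute (x ^ (d + d)) z := mul_inv_eq_iff_eq_mul.1 hy2d
    obtain ⟨e, he⟩ : d + d ∣ 24 := by
      rcases (show d = 1 ∨ d = 2 ∨ d = 3 ∨ d = 4 by omega) with rfl | rfl | rfl | rfl <;> norm_num
    rw [he, pow_mul]
    exact (hcd.pow_left e).eq.symm
  by_contra hq3
  have hnd : ¬ q ∣ 24 := by
    intro hdvd
    have : q ∣ 2 ^ 3 * 3 := hdvd
    rcases hq.dvd_mul.1 this with e | e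
    · exact hq2 ((Nat.prime_dvd_prime_iff_eq hq Nat.prime_two).1 (hq.dvd_of_dvd_pow e))
    · exact hq3 ((Nat.prime_dvd_prime_iff_eq hq Nat.prime_three).1 e)
  -- hence `G = CS` and `z₀` is central
  refine hz₀n (Subgroup.mem_center_iff.2 fun g => ?_)
  set M := (C ⊔ (S : Subgroup X)).map π
  have hMtop : M = ⊤ := by
    refine Subgroup.eq_top_of_card_eq _ (Nat.dvd_antisymm (Subgroup.card_subgroup_dvd_card _) ?_)
    rw [hcard]
    refine ((Nat.coprime_primes Nat.prime_two hq).2 (Ne.symm hq2)).mul_dvd_of_dvd_of_dvd ?_ ?_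
    · exact (dvd_of_eq htπ.symm).trans
        (Subgroup.orderOf_dvd_natCard _ ⟨t, Subgroup.mem_sup_right (hA.1 htA), rfl⟩)
    · have h1 : orderOf (π x ^ 24) = q := by
        rw [Nat.Coprime.orderOf_pow (hxq.symm ▸ (hq.coprime_iff_not_dvd.2 hnd))]
        exact hxq
      exact (dvd_of_eq h1.symm).trans
        (Subgroup.orderOf_dvd_natCard _ ⟨x ^ 24, Subgroup.mem_sup_left hx24, map_pow π x 24⟩)
  obtain ⟨m, hm, hmg⟩ := hMtop.ge (Subgroup.mem_top (π g))
  have hgm : m⁻¹ * g ∈ Q := QuotientGroup.eq.1 hmg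
  have hle : C ⊔ (S : Subgroup X) ≤ Subgroup.centralizer ({z₀} : Set X) := sup_le
    (Subgroup.centralizer_le (Set.singleton_subset_iff.2 (Subgroup.subset_normalClosure rfl)))
    (fun s hs => Subgroup.mem_centralizer_singleton_iff.2 (hz₀c s hs))
  have h1 : g ∈ Subgroup.centralizer ({z₀} : Set X) := by
    have := mul_mem (hle hm) (hle (Subgroup.mem_sup_right (hQS hgm)))
    rwa [mul_inv_cancel_left] at this
  exact Subgroup.mem_centralizer_singleton_iff.1 h1

end Offender

theorem sims_local [IsSimpleGroup H] (hna : ¬ IsMulCommutative H) (G : Subgroup H) (hG : IsCoatom G)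
    (hchar : Subgroup.centralizer (pCore 2 G : Set G) ≤ pCore 2 G) (S : Sylow 2 G)
    (hN : ¬ Subgroup.normalizer (((S : Subgroup G).map G.subtype : Subgroup H) : Set H) ≤ G) (q : ℕ)
    (hq : q.Prime) (hD : Nonempty (G ⧸ pCore 2 G ≃* DihedralGroup q)) :
    Nonempty (G ≃* Equiv.Perm (Fin 4)) ∨ Nonempty (G ≃* Equiv.Perm (Fin 4) × Multiplicative (ZMod 2)) := by
  classical
  haveI : Fact (Nat.Prime 2) := ⟨Nat.prime_two⟩
  obtain ⟨h, hh, hhG⟩ := SetLike.not_le_iff_exists.1 hN
  set T := (S : Subgroup G).map G.subtype with hTdef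
  have hTG : T ≤ G := Subgroup.map_subtype_le _
  have hGnn : Subgroup.normalizer (G : Set H) = G := by
    rcases hG.le_iff.1 (Subgroup.le_normalizer (H := G)) with e | e
    · exfalso
      haveI := Subgroup.normalizer_eq_top_iff.1 e
      rcases (inferInstance : G.Normal).eq_bot_or_eq_top with e' | e'
      · subst e'
        have hT1 : T = ⊥ := le_bot_iff.1 hTG
        have hcard := hD.some.toEquiv
        have h1 := Nat.card_congr hcard
        rw [DihedralGroup.nat_card] at h1
        haveI : Subsingleton ((⊥ : Subgroup H) ⧸ pCore 2 (⊥ : Subgroup H)) :=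
          (QuotientGroup.mk'_surjective _).subsingleton
        rw [Nat.card_of_subsingleton (1 : (⊥ : Subgroup H) ⧸ pCore 2 (⊥ : Subgroup H))] at h1
        omega
      · exact hG.1 e'
    · exact e
  set Q := pCore 2 G
  have hQT : Q.map G.subtype ≤ T := Subgroup.map_mono (pCore_le_sylow S)
  have hTp : IsPGroup 2 T := S.2.map _
  have h2G : 2 ∣ Nat.card G := by
    refine dvd_trans ?_ (Subgroup.card_quotient_dvd_card Q)
    rw [Nat.card_congr hD.some.toEquiv, DihedralGroup.nat_card]
    exact dvd_mul_right 2 q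
  have hT1 : T ≠ ⊥ := fun e => S.ne_bot_of_dvd_card h2G
    ((Subgroup.map_eq_bot_iff_of_injective _ G.subtype_injective).1 e)
  -- a central involution of `S` not central in `G`
  have hZ : ∃ z ∈ (S : Subgroup G), z * z = 1 ∧ (∀ s ∈ (S : Subgroup G), s * z = z * s) ∧
      z ∉ Subgroup.center G := by
    by_contra hcon
    push Not at hcon
    let Z₀ : Subgroup H :=
      { carrier := {z | z ∈ T ∧ (∀ s ∈ T, s * z = z * s) ∧ z * z = 1}
        one_mem' := ⟨one_mem _, fun y _ => by simp, one_mul 1⟩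
        mul_mem' := fun {a b} ha hb => ⟨mul_mem ha.1 hb.1, fun y hy => by
            rw [← mul_assoc, ha.2.1 y hy, mul_assoc, hb.2.1 y hy, mul_assoc],
          by
            calc a * b * (a * b) = a * (b * a) * b := by group
              _ = a * (a * b) * b := by rw [hb.2.1 a ha.1]
              _ = (a * a) * (b * b) := by group
              _ = 1 := by rw [ha.2.2, hb.2.2, one_mul]⟩
        inv_mem' := fun {a} ha => ⟨inv_mem ha.1, fun y hy => ((Commute.inv_right (ha.2.1 y hy)).eq),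
          by rw [← mul_inv_rev, ha.2.2, inv_one]⟩ }
    have hcent : G ≤ Subgroup.centralizer (Z₀ : Set H) := by
      intro g hg
      refine Subgroup.mem_centralizer_iff.2 fun z hz => ?_
      obtain ⟨z', hz', rfl⟩ := hz.1
      have hc := hcon z' hz' (Subtype.ext hz.2.2)
        (fun s hs => Subtype.ext (hz.2.1 s ⟨s, hs, rfl⟩))
      exact (congrArg Subtype.val (Subgroup.mem_center_iff.1 hc ⟨g, hg⟩)).symm
    have hconj : ∀ z ∈ Z₀, h * z * h⁻¹ ∈ Z₀ := fun z hz =>
      ⟨(Subgroup.mem_normalizer_iff.1 hh z).1 hz.1, fun s hs => by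
        have hs' := (Subgroup.mem_normalizer_iff.1 (inv_mem hh) s).1 hs
        rw [inv_inv] at hs'
        calc s * (h * z * h⁻¹) = h * ((h⁻¹ * s * h) * z) * h⁻¹ := by group
          _ = h * (z * (h⁻¹ * s * h)) * h⁻¹ := by rw [hz.2.1 _ hs']
          _ = h * z * h⁻¹ * s := by group,
      by rw [show h * z * h⁻¹ * (h * z * h⁻¹) = h * (z * z) * h⁻¹ by group, hz.2.2]; group⟩
    rcases hG.le_iff.1 hcent with e | e
    · have hbot : Z₀ = ⊥ := by
        have hle : Z₀ ≤ Subgroup.center H := fun z hz => Subgroup.mem_center_iff.2 fun g =>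
          (Subgroup.mem_centralizer_iff.1 (e.ge (Subgroup.mem_top g)) z hz).symm
        rcases (inferInstance : (Subgroup.center H).Normal).eq_bot_or_eq_top with e' | e'
        · exact le_bot_iff.1 (e' ▸ hle)
        · exact absurd ⟨⟨fun a b => (Subgroup.mem_center_iff.1 (e'.ge (Subgroup.mem_top b)) a)⟩⟩ hna
      haveI : Nontrivial T := T.nontrivial_iff_ne_bot.2 hT1
      haveI := hTp.center_nontrivial
      obtain ⟨n, hn, hcard⟩ := (hTp.to_subgroup (Subgroup.center T)).nontrivial_iff_card.1 inferInstance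
      obtain ⟨c, hc⟩ := exists_prime_orderOf_dvd_card' (G := Subgroup.center T) 2
        (hcard ▸ dvd_pow_self 2 hn.ne')
      have hmem : ((c : T) : H) ∈ Z₀ := ⟨(c : T).2, fun s hs =>
          congrArg Subtype.val (Subgroup.mem_center_iff.1 c.2 ⟨s, hs⟩),
        by rw [← pow_two, ← Subgroup.coe_pow, ← Subgroup.coe_pow, ← hc, pow_orderOf_eq_one]; rfl⟩
      rw [hbot, Subgroup.mem_bot] at hmem
      rw [show c = 1 from Subtype.ext (Subtype.ext hmem), orderOf_one] at hc
      omega
    · refine hhG (hGnn.le (mem_normalizer_of_cj_le ?_))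
      rintro _ ⟨g, hg, rfl⟩
      show h * g * h⁻¹ ∈ G
      rw [← e]
      refine Subgroup.mem_centralizer_iff.2 fun z hz => ?_
      have hz' : h⁻¹ * z * h ∈ Z₀ := by
        have hback : ∀ n : ℕ, ∀ w ∈ Z₀, h ^ n * w * (h ^ n)⁻¹ ∈ Z₀ := by
          intro n
          induction n with
          | zero => intro w hw; simpa using hw
          | succ n ih =>
            intro w hw
            rw [pow_succ', show h * h ^ n * w * (h * h ^ n)⁻¹ = h * (h ^ n * w * (h ^ n)⁻¹) * h⁻¹ by group]
            exact hconj _ (ih w hw)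
        have hn : h ^ (orderOf h - 1) = h⁻¹ := eq_inv_of_mul_eq_one_left (by
          rw [← pow_succ, Nat.sub_add_cancel (orderOf_pos h), pow_orderOf_eq_one])
        have h1 := hback (orderOf h - 1) z hz
        rwa [hn, inv_inv] at h1
      have h1 := Subgroup.mem_centralizer_iff.1 (e.ge hg) _ hz'
      calc z * (h * g * h⁻¹) = h * ((h⁻¹ * z * h) * g) * h⁻¹ := by group
        _ = h * (g * (h⁻¹ * z * h)) * h⁻¹ := by rw [h1]
        _ = h * g * h⁻¹ * z := by group
  -- the offender
  obtain ⟨A, hA, hAQ⟩ := exists_max_not_le G hG T (Q.map G.subtype) hQT hTG (fun g hg => by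
    have h1 := Subgroup.le_normalizer_map (H := Q) G.subtype ⟨⟨g, hg⟩, by
      rw [SetLike.mem_coe, Subgroup.normalizer_eq_top]; exact Subgroup.mem_top _, rfl⟩
    exact h1) hTp hT1 hh hhG
  have hAG : A ≤ G := hA.1.trans hTG
  have hA0 : (A.subgroupOf G).map G.subtype = A := Subgroup.map_subgroupOf_eq_of_le hAG
  have hpull : ∀ B : Subgroup G, IsElementaryAbelian 2 (B.map G.subtype) → IsElementaryAbelian 2 B :=
    fun B hB => ⟨⟨⟨fun a b => Subtype.ext (Subtype.ext (congrArg Subtype.val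
      (hB.1.1.1 ⟨_, a, a.2, rfl⟩ ⟨_, b, b.2, rfl⟩) :))⟩⟩,
      fun a ha => Subtype.ext (hB.2 a ⟨a, ha, rfl⟩)⟩
  have hA' : A.subgroupOf G ∈ maxIn eOk (S : Subgroup G) := by
    refine ⟨fun a ha => ?_, hpull _ (hA0.symm ▸ hA.2.1), fun B hB hB' => ?_⟩
    · obtain ⟨s, hs, e⟩ := hA.1 (show (a : H) ∈ A from ha)
      exact Subtype.ext e ▸ hs
    · have hB2 : IsElementaryAbelian 2 (B.map G.subtype) := ⟨isMulCommutative_map _ hB'.1, by
        rintro _ ⟨b, hb, rfl⟩
        rw [← map_pow, hB'.2 b hb, map_one]⟩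
      have hc : ∀ K : Subgroup G, Nat.card (K.map G.subtype) = Nat.card K := fun K =>
        Subgroup.card_map_of_injective G.subtype_injective
      rw [← hc, ← hc (A.subgroupOf G), hA0]
      exact hA.2.2 _ (Subgroup.map_mono hB) hB2
  have hq3 : q = 3 := three_of_offender hchar S q hq hD hA'
    (fun hle => hAQ (hA0.ge.trans (Subgroup.map_mono hle))) hZ
  subst hq3
  -- the action on cosets
  haveI : MulAction.IsPretransitive H (H ⧸ G) := inferInstance
  haveI : Nontrivial (H ⧸ G) := ⟨⟨(1 : H), (h : H), fun e => hhG (by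
    simpa using QuotientGroup.eq.1 e)⟩⟩
  have hst : MulAction.stabilizer H ((1 : H) : H ⧸ G) = G := MulAction.stabilizer_quotient G
  have hprim : MulAction.IsPreprimitive H (H ⧸ G) := by
    rw [← MulAction.isCoatom_stabilizer_iff_preprimitive (G := H) (a := ((1 : H) : H ⧸ G)), hst]
    exact hG
  haveI : FaithfulSMul H (H ⧸ G) := by
    refine ⟨fun {a b} hab => ?_⟩
    have hmem : b⁻¹ * a ∈ G.normalCore := fun k => by
      have h1 := hab ((k⁻¹ : H) : H ⧸ G)
      have h2 : ((b * k⁻¹ : H) : H ⧸ G) = ((a * k⁻¹ : H) : H ⧸ G) := h1.symm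
      simpa [mul_assoc] using QuotientGroup.eq.1 h2
    rcases (Subgroup.normalCore_normal G).eq_bot_or_eq_top with e | e
    · rw [e, Subgroup.mem_bot, inv_mul_eq_one] at hmem
      exact hmem.symm
    · exact absurd (top_le_iff.1 (e ▸ Subgroup.normalCore_le G)) hG.1
  have hadj : Lie.Sims.Adj H ((1 : H) : H ⧸ G) (h : H ⧸ G) := by
    show Nat.card (MulAction.orbit (MulAction.stabilizer H ((1 : H) : H ⧸ G)) (h : H ⧸ G)) = 3
    rw [hst, Nat.card_coe_set_eq, ← MulAction.index_stabilizer]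
    set M := MulAction.stabilizer G (h : H ⧸ G)
    have hSM : (S : Subgroup G) ≤ M := fun s hs => by
      show ((s : H) * h : H ⧸ G) = _
      refine QuotientGroup.eq.2 (hTG ?_)
      have h1 := (Subgroup.mem_normalizer_iff.1 (inv_mem hh) _).1 (inv_mem (⟨s, hs, rfl⟩ : (s : H) ∈ T))
      rw [inv_inv] at h1
      simpa [mul_assoc] using h1
    have h6 : Nat.card (G ⧸ Q) = 6 := by rw [Nat.card_congr hD.some.toEquiv, DihedralGroup.nat_card]
    have hS3 : (S : Subgroup G).index ∣ 3 := by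
      have h1 : (S : Subgroup G).index ∣ 6 := h6 ▸ Subgroup.index_dvd_of_le (pCore_le_sylow S)
      exact ((Nat.prime_two.coprime_iff_not_dvd.2 S.not_dvd_index).symm).dvd_of_dvd_mul_left
        (show (S : Subgroup G).index ∣ 2 * 3 from h1)
    rcases (Nat.dvd_prime Nat.prime_three).1 ((Subgroup.index_dvd_of_le hSM).trans hS3) with e | e
    · exfalso
      refine hhG (hGnn.le (inv_inv h ▸ inv_mem (mem_normalizer_of_cj_le ?_)))
      rintro _ ⟨g, hg, rfl⟩
      show h⁻¹ * g * h⁻¹⁻¹ ∈ G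
      rw [inv_inv]
      have hmem : (⟨g⁻¹, inv_mem hg⟩ : G) ∈ M := (Subgroup.index_eq_one.1 e).ge (Subgroup.mem_top _)
      have h1 : ((g⁻¹ * h : H) : H ⧸ G) = (h : H ⧸ G) := hmem
      simpa [mul_assoc] using QuotientGroup.eq.1 h1
    · exact e
  have h6 : Nat.card (G ⧸ Q) = 6 := by rw [Nat.card_congr hD.some.toEquiv, DihedralGroup.nat_card]
  have hcardG := Subgroup.card_eq_card_quotient_mul_card_subgroup Q
  rw [h6] at hcardG
  have hsmall : Nat.card Q ≤ 2 → False := by
    intro hle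
    have hc : Subgroup.centralizer (Q : Set G) = ⊤ := by
      refine eq_top_iff.2 fun g _ => Subgroup.mem_centralizer_iff.2 fun z hz => ?_
      by_cases hz1 : z = 1
      · simp [hz1]
      · have hcz : Subgroup.zpowers z = Q := Subgroup.eq_of_le_of_card_ge (Subgroup.zpowers_le.2 hz) (by
          rw [Nat.card_zpowers]
          have := orderOf_eq_one_iff.not.2 hz1
          have := orderOf_pos z
          omega)
        have hg : g * z * g⁻¹ ∈ Q := (inferInstance : Q.Normal).conj_mem z hz g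
        by_cases e : g * z * g⁻¹ = z
        · exact (mul_inv_eq_iff_eq_mul.1 e).symm
        · exfalso
          have hne : g * z * g⁻¹ ≠ 1 := conj_eq_one_iff.not.2 hz1
          let f : Fin 3 → Q := ![1, ⟨z, hz⟩, ⟨_, hg⟩]
          have hf : Function.Injective f := by
            intro i j hij
            have := congrArg Subtype.val hij
            fin_cases i <;> fin_cases j <;>
              simp [f, Subtype.ext_iff, hz1, hne, e, Ne.symm hz1, Ne.symm hne, Ne.symm e] at this ⊢
          have := Nat.card_le_card_of_injective f hf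
          rw [Nat.card_fin] at this
          omega
    rw [hc, top_le_iff] at hchar
    rw [hchar, Subgroup.card_top] at hle
    rw [hchar] at hcardG
    rw [Subgroup.card_top] at hcardG
    have := (Nat.card_pos : 0 < Nat.card G)
    omega
  let e0 : MulAction.stabilizer H ((1 : H) : H ⧸ G) ≃* G := MulEquiv.subgroupCongr hst
  rcases Lie.Sims.stabilizer_structure hprim hadj with hi | hi | hi | hi | hi
  · exfalso
    obtain i := hi.some
    have h3 := Nat.card_congr (e0.symm.trans i).toEquiv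
    rw [Nat.card_eq_fintype_card (α := Multiplicative (ZMod 3))] at h3
    simp only [Fintype.card_multiplicative, ZMod.card] at h3
    omega
  · exfalso
    obtain i := hi.some
    have h3 := Nat.card_congr (e0.symm.trans i).toEquiv
    rw [Nat.card_perm, Nat.card_fin] at h3
    exact hsmall (by rw [show Nat.factorial 3 = 6 from rfl] at h3; omega)
  · exfalso
    obtain i := hi.some
    have h3 := Nat.card_congr (e0.symm.trans i).toEquiv
    rw [DihedralGroup.nat_card] at h3
    exact hsmall (by omega)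
  · exact Or.inl ⟨e0.symm.trans hi.some⟩
  · exact Or.inr ⟨e0.symm.trans hi.some⟩

end Cfsg.Agent.Local.SimsLocal
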